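import Groth.Agent.GmExtLib.ExtSheaf
import Mathlib.CategoryTheory.Abelian.RightDerived

/-!
# Vanishing of the first Ext sheaf from local lifts
-/

set_option autoImplicit false
set_option maxHeartbeats 1600000
universe u

open CategoryTheory CategoryTheory.Limits AlgebraicGeometry Opposite
open AdeqLib AdeqModLib

noncomputable section

namespace GmExtLib

variable {S : Scheme.{u}}

local notation "Jf" => QuotSh.J Scheme.fppfPrecoverage S

variable (F : BigSite.Ab Scheme.fppfPrecoverage S)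

/-- The internal Hom preserves monomorphisms and kernels. -/
theorem exists_homSh_lift {K P Q : BigSite.Ab Scheme.fppfPrecoverage S} (k : K ⟶ P) (d : P ⟶ Q) (w : k ≫ d = 0)
    [Mono k] (hex : (ShortComplex.mk k d w).Exact) {U : Over S} (φ : F.over U ⟶ P.over U)
    (hφ : (HomSh.homShMap Jf (𝟙 F) d).hom.app (op U) φ = 0) :
    ∃ ψ : F.over U ⟶ K.over U, (HomSh.homShMap Jf (𝟙 F) k).hom.app (op U) ψ = φ := by
  haveI : Mono k.hom := (sheafToPresheaf _ _).map_mono k
  have hinj : ∀ W, Function.Injective (k.hom.app W) := fun W => (AddCommGrpCat.mono_iff_injective _).1 inferInstance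
  have hlift : ∀ (W : (Over U)ᵒᵖ) (x : F.obj.obj (op W.unop.left)), ∃ y : K.obj.obj (op W.unop.left),
      k.hom.app (op W.unop.left) y = φ.hom.app W x := fun W x => by
    have he := ((hex.map_of_mono_of_preservesKernel (sheafToPresheaf _ _) ‹Mono k›
      inferInstance).map_of_mono_of_preservesKernel ((evaluation (Over S)ᵒᵖ AddCommGrpCat.{u + 1}).obj
        (op W.unop.left)) ((sheafToPresheaf _ _).map_mono k) inferInstance)
    refine (ShortComplex.ab_exact_iff _).mp he _ ?_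
    exact congrArg (fun θ : F.over U ⟶ Q.over U => θ.hom.app W x) hφ
  choose y hy using hlift
  have hadd : ∀ (W : (Over U)ᵒᵖ) (x x' : F.obj.obj (op W.unop.left)), y W (x + x') = y W x + y W x' :=
    fun W x x' => hinj _ (by
      refine (hy W (x + x')).trans ?_
      refine Eq.trans ?_ (map_add (k.hom.app (op W.unop.left)).hom (y W x) (y W x')).symm
      exact (map_add (φ.hom.app W).hom x x').trans (congrArg₂ (· + ·) (hy W x).symm (hy W x').symm))
  refine ⟨⟨{ app := fun W => AddCommGrpCat.ofHom (AddMonoidHom.mk' (fun x => y W x) (hadd W))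
             naturality := fun W W' m => AddCommGrpCat.ext fun x => hinj (op W'.unop.left) ?_ }⟩, ?_⟩
  · refine (hy W' (F.obj.map m.unop.left.op x)).trans ?_
    refine (NatTrans.naturality_apply φ.hom m x).trans ?_
    refine Eq.trans ?_ (NatTrans.naturality_apply k.hom m.unop.left.op (y W x)).symm
    exact congrArg (P.obj.map m.unop.left.op) (hy W x).symm
  · exact Sheaf.hom_ext (NatTrans.ext (funext fun W => AddCommGrpCat.ext fun x => hy W x))

theorem mono_homShMap {K P : BigSite.Ab Scheme.fppfPrecoverage S} (k : K ⟶ P) [Mono k] :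
    Mono (HomSh.homShMap Jf (𝟙 F) k) := by
  haveI : Mono k.hom := (sheafToPresheaf _ _).map_mono k
  have hinj : ∀ W, Function.Injective (k.hom.app W) := fun W => (AddCommGrpCat.mono_iff_injective _).1 inferInstance
  refine (sheafToPresheaf _ _).mono_of_mono_map ?_
  refine (NatTrans.mono_iff_mono_app _).2 fun U => (AddCommGrpCat.mono_iff_injective _).2 fun φ φ' h => ?_
  exact Sheaf.hom_ext (NatTrans.ext (funext fun W => AddCommGrpCat.ext fun x =>
    hinj _ (congrArg (fun θ : F.over U.unop ⟶ P.over U.unop => θ.hom.app W x) h)))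

/-- The internal Hom sends a kernel to a kernel. -/
theorem exact_homShMap {K P Q : BigSite.Ab Scheme.fppfPrecoverage S} (k : K ⟶ P) (d : P ⟶ Q) (w : k ≫ d = 0)
    [Mono k] (hex : (ShortComplex.mk k d w).Exact)
    (w' : HomSh.homShMap Jf (𝟙 F) k ≫ HomSh.homShMap Jf (𝟙 F) d = 0) :
    (ShortComplex.mk (HomSh.homShMap Jf (𝟙 F) k) (HomSh.homShMap Jf (𝟙 F) d) w').Exact := by
  haveI := mono_homShMap F k
  haveI : Mono (HomSh.homShMap Jf (𝟙 F) k).hom :=
    (sheafToPresheaf _ _).map_mono (HomSh.homShMap Jf (𝟙 F) k)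
  have hinj : ∀ W, Function.Injective ((HomSh.homShMap Jf (𝟙 F) k).hom.app W) := fun W =>
    (AddCommGrpCat.mono_iff_injective _).1 inferInstance
  refine ShortComplex.exact_of_f_is_kernel _ (KernelFork.IsLimit.ofι' _ _ fun {Z} m hm => ?_)
  have hex' : ∀ (U : (Over S)ᵒᵖ) (x : Z.obj.obj U),
      ∃ y, (HomSh.homShMap Jf (𝟙 F) k).hom.app U y = m.hom.app U x := fun U x =>
    exists_homSh_lift F k d w hex (m.hom.app U x)
      (congrArg (fun j : Z ⟶ HomSh.homSh Jf F Q => j.hom.app U x) hm)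
  choose y hy using hex'
  have hadd : ∀ (U : (Over S)ᵒᵖ) (x x' : Z.obj.obj U), y U (x + x') = y U x + y U x' := fun U x x' => hinj U
    (((hy U (x + x')).trans (map_add (m.hom.app U).hom x x')).trans
      ((congrArg₂ (· + ·) (hy U x) (hy U x')).symm.trans
        (map_add ((HomSh.homShMap Jf (𝟙 F) k).hom.app U).hom _ _).symm))
  refine ⟨⟨{ app := fun U => AddCommGrpCat.ofHom (AddMonoidHom.mk' (fun x => y U x) (hadd U))
             naturality := fun U U' m' => AddCommGrpCat.ext fun x => hinj U' ?_ }⟩, ?_⟩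
  · refine (hy U' (Z.obj.map m' x)).trans ?_
    refine (NatTrans.naturality_apply m.hom m' x).trans ?_
    refine Eq.trans ?_ (NatTrans.naturality_apply (HomSh.homShMap Jf (𝟙 F) k).hom m' (y U x)).symm
    exact congrArg ((HomSh.homSh Jf F P).obj.map m') (hy U x).symm
  · exact Sheaf.hom_ext (NatTrans.ext (funext fun U => AddCommGrpCat.ext fun x => hy U x))

section general

universe v₁ v₂ u₁ u₂

variable {C : Type u₁} [Category.{v₁} C] [Abelian C] [HasInjectiveResolutions C] {D : Type u₂} [Category.{v₂} D]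
  [Abelian D] (Φ : C ⥤ D) [Φ.Additive] (X : C)

/-- The first derived functor vanishes at an object when kernels are preserved and quotients by it stay surjective. -/
theorem isZero_rightDerived_one
    (hker : ∀ {K P Q : C} (k : K ⟶ P) (d : P ⟶ Q) (w : k ≫ d = 0) [Mono k], (ShortComplex.mk k d w).Exact →
      ∀ w' : Φ.map k ≫ Φ.map d = 0, (ShortComplex.mk (Φ.map k) (Φ.map d) w').Exact)
    (hepi : ∀ {P K : C} (i : X ⟶ P) (g : P ⟶ K) (w : i ≫ g = 0), (ShortComplex.mk i g w).ShortExact →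
      Epi (Φ.map g)) :
    IsZero ((Φ.rightDerived 1).obj X) := by
  let I := injectiveResolution X
  refine IsZero.of_iso ?_ (I.isoRightDerivedObj Φ 1)
  refine (HomologicalComplex.exactAt_iff_isZero_homology _ _).1 ?_
  rw [HomologicalComplex.exactAt_iff' _ 0 1 2 (CochainComplex.prev_nat_succ 0) (CochainComplex.next ℕ 1)]
  let d₀ := I.cocomplex.d 0 1
  let d₁ := I.cocomplex.d 1 2
  let p := kernel.lift d₁ d₀ (I.cocomplex.d_comp_d 0 1 2)
  have h1 : (ShortComplex.mk d₀ d₁ (I.cocomplex.d_comp_d 0 1 2)).Exact := I.exact_succ 0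
  haveI : Epi p := (ShortComplex.exact_iff_epi_kernel_lift (ShortComplex.mk d₀ d₁ _)).1 h1
  have hpk : p ≫ kernel.ι d₁ = d₀ := kernel.lift_ι _ _ _
  have hwp : I.ι.f 0 ≫ p = 0 := by
    refine (cancel_mono (kernel.ι d₁)).1 ?_
    rw [Category.assoc, hpk, zero_comp]
    exact I.ι_f_zero_comp_complex_d
  have h0 : (ShortComplex.mk (I.ι.f 0) d₀ I.ι_f_zero_comp_complex_d).Exact := I.exact₀
  have hses : (ShortComplex.mk (I.ι.f 0) p hwp).ShortExact :=
    { exact := by
        let φ : ShortComplex.mk (I.ι.f 0) p hwp ⟶ ShortComplex.mk (I.ι.f 0) d₀ I.ι_f_zero_comp_complex_d :=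
          { τ₁ := 𝟙 _, τ₂ := 𝟙 _, τ₃ := kernel.ι d₁
            comm₁₂ := (Category.id_comp _).trans (Category.comp_id _).symm
            comm₂₃ := (Category.id_comp _).trans hpk.symm }
        exact (ShortComplex.exact_iff_of_epi_of_isIso_of_mono φ).2 h0 }
  haveI := hepi _ _ _ hses
  have hk : (ShortComplex.mk (kernel.ι d₁) d₁ (kernel.condition d₁)).Exact :=
    ShortComplex.exact_of_f_is_kernel _ (kernelIsKernel d₁)
  let T₁ := ShortComplex.mk (Φ.map d₀) (Φ.map d₁) (by rw [← Φ.map_comp, I.cocomplex.d_comp_d, Φ.map_zero])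
  let T₂ := ShortComplex.mk (Φ.map (kernel.ι d₁)) (Φ.map d₁) (by rw [← Φ.map_comp, kernel.condition, Φ.map_zero])
  let φ : T₁ ⟶ T₂ :=
    { τ₁ := Φ.map p, τ₂ := 𝟙 _, τ₃ := 𝟙 _
      comm₁₂ := by
        rw [Category.comp_id]
        show Φ.map p ≫ Φ.map (kernel.ι d₁) = Φ.map d₀
        rw [← Φ.map_comp, hpk]
      comm₂₃ := by rw [Category.id_comp, Category.comp_id] }
  exact (ShortComplex.exact_iff_of_epi_of_isIso_of_mono φ).2 (hker _ _ _ hk _)

end general

variable (G' : BigSite.Ab Scheme.fppfPrecoverage S)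

/-- The first Ext sheaf vanishes when homomorphisms lift locally. -/
theorem isZero_extSh_one
    (h : ∀ (P K : BigSite.Ab Scheme.fppfPrecoverage S) (i : G' ⟶ P) (g : P ⟶ K) (w : i ≫ g = 0),
      (ShortComplex.mk i g w).ShortExact → ∀ (U : Over S) (ψ : F.over U ⟶ K.over U),
        Presheaf.imageSieve (HomSh.homShMap Jf (𝟙 F) g).hom ψ ∈ Jf U) :
    IsZero ((HomSh.extSh Jf F 1).obj G') := by
  rw [HomSh.extSh_def]
  refine isZero_rightDerived_one (HomSh.homShFunctor Jf F) G' (fun k d w _ hex w' => exact_homShMap F k d w hex w')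
    (fun {P K} i g w hses => ?_)
  haveI : Sheaf.IsLocallySurjective (HomSh.homShMap Jf (𝟙 F) g) := ⟨fun {U} ψ => h P K i g w hses U ψ⟩
  exact (Sheaf.isLocallySurjective_iff_epi' AddCommGrpCat.{u + 1} (HomSh.homShMap Jf (𝟙 F) g)).1 inferInstance

/-- The property that every point lies in a member of the affine cover. -/
theorem affine_cover_mem (U : Over S) :
    Sieve.ofArrows (fun x : U.left.affineCover.I₀ => top (U.left.affineCover.f x ≫ U.hom))
      (fun x => (topIso (U.left.affineCover.f x ≫ U.hom)).hom ≫ Over.homMk (U.left.affineCover.f x) rfl) ∈ Jf U := by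
  have hmem : Sieve.ofArrows (fun x : U.left.affineCover.I₀ => Over.mk (U.left.affineCover.f x ≫ U.hom))
      (fun x => (Over.homMk (U.left.affineCover.f x) rfl : Over.mk (U.left.affineCover.f x ≫ U.hom) ⟶ U)) ∈ Jf U := by
    refine ofArrows_mem _ ((Scheme.ofArrows_mem_precoverage_iff _).2 ⟨fun y => ?_, fun x => ?_⟩)
    · obtain ⟨j, z, hz⟩ := U.left.affineCover.exists_eq y
      exact ⟨j, z, hz⟩
    · change (@Flat ⊓ @LocallyOfFinitePresentation : MorphismProperty Scheme.{u}) (U.left.affineCover.f x)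
      exact ⟨inferInstance, inferInstance⟩
  refine GrothendieckTopology.superset_covering _ ?_ hmem
  intro Z h hh
  obtain ⟨x, a, ha⟩ := (Sieve.mem_ofArrows_iff _ _ h).1 hh
  refine (Sieve.mem_ofArrows_iff _ _ h).2 ⟨x, a ≫ (topIso _).inv, ?_⟩
  exact ha.trans ((Category.assoc _ _ _).trans (congrArg (a ≫ ·) (Iso.inv_hom_id_assoc _ _))).symm

/-- In characteristic `p` homomorphisms out of the additive group lift locally. -/
theorem imageSieve_mem_Ga (p : ℕ) [Fact p.Prime] (hp : (p : Γ(S, ⊤)) = 0)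
    {P Q : BigSite.Ab Scheme.fppfPrecoverage S} {i : G S ⟶ P} {g : P ⟶ Q} {w : i ≫ g = 0}
    (hC : (ShortComplex.mk i g w).ShortExact) (U : Over S)
    (ψ : (CGrpSh2.Ga Scheme.fppfPrecoverage S).over U ⟶ Q.over U) :
    Presheaf.imageSieve (HomSh.homShMap Jf (𝟙 (CGrpSh2.Ga Scheme.fppfPrecoverage S)) g).hom ψ ∈ Jf U := by
  refine (Jf).transitive (affine_cover_mem U) _ fun W m hm => ?_
  obtain ⟨x, a, rfl⟩ := (Sieve.mem_ofArrows_iff _ _ m).1 hm
  rw [Sieve.pullback_comp]
  refine (Jf).pullback_stable a ?_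
  let b := U.left.affineCover.f x ≫ U.hom
  let k : top b ⟶ U := (topIso b).hom ≫ Over.homMk (U.left.affineCover.f x) rfl
  show (Presheaf.imageSieve (HomSh.homShMap Jf (𝟙 (CGrpSh2.Ga Scheme.fppfPrecoverage S)) g).hom ψ).pullback k ∈
    Jf (top b)
  -- characteristic
  have hpA : ∀ {A : CommRingCat.{u}} (c : Spec A ⟶ S), (p : A) = 0 := fun {A} c => by
    have h := congrArg (fun s => (Scheme.ΓSpecIso A).hom (c.appTop s)) hp
    simpa using h
  let ψ₀ : (CGrpSh2.Ga Scheme.fppfPrecoverage S).over (top b) ⟶ Q.over (top b) :=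
    (HomSh.homSh Jf (CGrpSh2.Ga Scheme.fppfPrecoverage S) Q).obj.map k.op ψ
  obtain ⟨A₁, π₁, _, _, _, t, ht⟩ := exists_lift_stage b hC p (hpA b) ψ₀
  obtain ⟨A₂, π₂, _, _, _, ψ', hψ'⟩ := exists_additive_stage (Spec.map π₁ ≫ b) hC p (hpA (Spec.map π₁ ≫ b))
    (chg b (Spec.map π₁ ≫ b) π₁ rfl π₁.hom fun _ => rfl) ψ₀ t ht
  let k₁ : top (Spec.map π₁ ≫ b) ⟶ top b := chg b (Spec.map π₁ ≫ b) π₁ rfl π₁.hom fun _ => rfl
  let k₂ : top (Spec.map π₂ ≫ Spec.map π₁ ≫ b) ⟶ top (Spec.map π₁ ≫ b) :=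
    chg (Spec.map π₁ ≫ b) (Spec.map π₂ ≫ Spec.map π₁ ≫ b) π₂ rfl π₂.hom fun _ => rfl
  have hcov : Sieve.ofArrows (fun _ : PUnit.{1} => top (Spec.map π₂ ≫ Spec.map π₁ ≫ b)) (fun _ => k₂ ≫ k₁) ∈
      Jf (top b) := by
    haveI : Flat (Spec.map (π₁ ≫ π₂)) := by rw [Spec.map_comp]; infer_instance
    haveI : LocallyOfFinitePresentation (Spec.map (π₁ ≫ π₂)) := by rw [Spec.map_comp]; infer_instance
    haveI : Surjective (Spec.map (π₁ ≫ π₂)) := by rw [Spec.map_comp]; infer_instance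
    haveI : @IsIso _ _ _ (Spec A₂) (𝟙 (top (Spec.map π₂ ≫ Spec.map π₁ ≫ b)).left) :=
      IsIso.id (top (Spec.map π₂ ≫ Spec.map π₁ ≫ b)).left
    refine mem_chg b (π₁ ≫ π₂) (k₂ ≫ k₁) (𝟙 _) ?_
    rw [Over.comp_left, Spec.map_comp]
    exact (Category.id_comp _).symm
  refine GrothendieckTopology.superset_covering _ ?_ hcov
  rw [Sieve.ofArrows, Sieve.generate_le_iff]
  rintro _ _ ⟨⟩
  refine ⟨ψ', Sheaf.hom_ext (NatTrans.ext (funext fun W' => AddCommGrpCat.ext fun y => ?_))⟩
  show g.hom.app (op W'.unop.left) (val ψ' W'.unop.hom y.down.toMul) =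
    val ψ (W'.unop.hom ≫ (k₂ ≫ k₁) ≫ k) y.down.toMul
  rw [hψ']
  refine Eq.trans ?_ (congrArg (fun z => val ψ z y.down.toMul)
    ((congrArg (W'.unop.hom ≫ ·) (Category.assoc k₂ k₁ k)).symm))
  show val ψ ((W'.unop.hom ≫ k₂ ≫ k₁) ≫ k) y.down.toMul = _
  simp only [Category.assoc]
  rfl

end GmExtLib
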