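import Groth.Agent.GmExtLib.Push
import Mathlib.RingTheory.Polynomial.Nilpotent
import Mathlib.Algebra.Polynomial.Derivative
import Mathlib.Algebra.CharP.Lemmas
import Mathlib.Algebra.CharP.Basic
import Mathlib.Algebra.CharP.Algebra
import Mathlib.Data.ZMod.Basic
import Mathlib.RingTheory.Ideal.Quotient.Operations

/-!
# Cocycles on the affine line killed by the residue characteristic
-/

set_option autoImplicit false
set_option maxHeartbeats 1200000
universe u v

open Polynomial

namespace GmExtLib

variable {A : Type u} [CommRing A] {κ : Type v} {f : κ → A} [Finite κ]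

/-- A cocycle whose power of exponent the characteristic is the coboundary of powers, up to nilpotents. -/
theorem isCob_of_root (p : ℕ) [Fact p.Prime] (hp : (p : A) = 0) (hspan : Ideal.span (Set.range f) = ⊤)
    {a : ∀ i j, (L (f i * f j))ˣ} (ha : IsCoc a) (q : ∀ i, (L (f i))ˣ)
    (hq : ∀ i j, (a i j : L (f i * f j)) ^ p * mr (f i) (f j) (q j : L (f j)) = ml (f i) (f j) (q i : L (f i)))
    (hroot : ∀ i, ∃ e : L (f i), IsNilpotent ((q i : L (f i)) - e ^ p)) : IsCob a := by
  choose e he using hroot
  have hpp := Fact.out (p := p.Prime)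
  have heu : ∀ i, IsUnit (e i) := fun i => by
    refine (isUnit_pow_iff hpp.ne_zero).1 ?_
    have h := (he i).neg.isUnit_add_right_of_commute (q i).isUnit (Commute.all _ _)
    simpa using h
  refine IsCob.of_twist (fun i => (heu i).unit) (isCob_of_nilpotent hspan (ha.twist _) fun i j => ?_)
  let M := L (f i * f j)
  let x : M := ((a i j * um (mr (f i) (f j)) (heu j).unit * (um (ml (f i) (f j)) (heu i).unit)⁻¹ : Mˣ) : M)
  have hpM : (p : M) = 0 := by rw [← map_natCast (algebraMap A M), hp, map_zero]
  have hx : x ^ p * ml (f i) (f j) (e i) ^ p = (a i j : M) ^ p * mr (f i) (f j) (e j) ^ p := by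
    simp only [x, Units.val_mul, val_um, IsUnit.unit_spec]
    rw [← mul_pow, ← mul_pow, mul_assoc]
    congr 1
    have : ((um (ml (f i) (f j)) (heu i).unit)⁻¹ : Mˣ) * ml (f i) (f j) (e i) = (1 : M) :=
      Units.inv_mul (um (ml (f i) (f j)) (heu i).unit)
    rw [this, mul_one]
  have hn : IsNilpotent ((x ^ p - 1) * ml (f i) (f j) (e i) ^ p) := by
    have e1 : (x ^ p - 1) * ml (f i) (f j) (e i) ^ p =
        ml (f i) (f j) ((q i : L (f i)) - e i ^ p) +
          -((a i j : M) ^ p * mr (f i) (f j) ((q j : L (f j)) - e j ^ p)) := by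
      rw [sub_mul, hx, one_mul, map_sub, map_sub, map_pow, map_pow, mul_sub, hq i j]
      ring
    rw [e1]
    exact (Commute.all _ _).isNilpotent_add ((he i).map _)
      ((Commute.all _ _).isNilpotent_mul_left ((he j).map _)).neg
  have hn' : IsNilpotent (x ^ p - 1) := by
    obtain ⟨w, hw⟩ := ((heu i).map (ml (f i) (f j))).pow p
    have hw' : IsNilpotent ((x ^ p - 1) * (w : M)) := by
      have : (w : M) = ml (f i) (f j) (e i) ^ p := hw
      simp only [this]
      exact hn
    have e1 : x ^ p - 1 = (w⁻¹ : Mˣ) * ((x ^ p - 1) * (w : M)) := by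
      rw [mul_left_comm, Units.inv_mul, mul_one]
    rw [e1]
    exact (Commute.all _ _).isNilpotent_mul_left hw'
  show IsNilpotent (x - 1)
  obtain ⟨r, hr⟩ := exists_add_pow_prime_eq hpp (x - 1) 1
  rw [sub_add_cancel, one_pow, hpM, zero_mul, zero_mul, zero_mul, add_zero] at hr
  obtain ⟨m, hm⟩ := hn'
  exact ⟨p * m, by rw [pow_mul, ← add_sub_cancel_right ((x - 1) ^ p) 1, ← hr, hm]⟩

section poly

variable {R : Type u} [CommRing R] {g : κ → R[X]}

theorem derivative_pow_mul_of_char (p : ℕ) (hp : (p : R) = 0) (U h : R[X]) :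
    derivative (U ^ p * h) = U ^ p * derivative h := by
  rw [derivative_mul, derivative_pow, hp]
  simp

/-- The numerators of units whose ratios are powers of exponent the characteristic have nilpotent derivative. -/
theorem exists_num (p : ℕ) [Fact p.Prime] (hp : (p : R) = 0) (f : κ → R[X])
    (hspan : Ideal.span (Set.range f) = ⊤)
    {a : ∀ i j, (L (f i * f j))ˣ} (q : ∀ i, (L (f i))ˣ)
    (hq : ∀ i j, (a i j : L (f i * f j)) ^ p * mr (f i) (f j) (q j : L (f j)) = ml (f i) (f j) (q i : L (f i))) :
    ∀ i, ∃ (n : ℕ) (g : R[X]), (q i : L (f i)) * algebraMap _ _ (f i) ^ (p * n) = algebraMap _ _ g ∧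
      IsNilpotent (derivative g) := by
  classical
  have hpp := Fact.out (p := p.Prime)
  have hnum : ∀ i, ∃ (n : ℕ) (g : R[X]),
      (q i : L (f i)) * algebraMap _ _ (f i) ^ (p * n) = algebraMap _ _ g := fun i => by
    obtain ⟨n, b, hb⟩ := IsLocalization.Away.surj (f i) (q i : L (f i))
    refine ⟨n, b * f i ^ ((p - 1) * n), ?_⟩
    rw [map_mul, map_pow, ← hb, mul_assoc, ← pow_add]
    congr 2
    obtain ⟨p', rfl⟩ := Nat.exists_eq_add_of_le hpp.one_le
    simp [add_mul]
  choose n g hg using hnum
  have hgu : ∀ i, IsUnit (algebraMap R[X] (L (f i)) (g i)) := fun i => by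
    rw [← hg i]
    exact (q i).isUnit.mul ((IsLocalization.Away.algebraMap_isUnit (f i)).pow _)
  have hcross : ∀ i j, algebraMap R[X] (L (f i * f j)) (derivative (g i) * g j) =
      algebraMap R[X] (L (f i * f j)) (derivative (g j) * g i) := fun i j => by
    let φ := algebraMap R[X] (L (f i * f j))
    obtain ⟨m, α, hα⟩ := IsLocalization.Away.surj (f i * f j) (a i j : L (f i * f j))
    have h1 : φ (g j) = mr (f i) (f j) (q j : L (f j)) * φ (f j) ^ (p * n j) := by
      rw [← AlgHom.commutes (mr (f i) (f j)) (g j), ← hg j, map_mul, map_pow, AlgHom.commutes]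
    have h2 : φ (g i) = ml (f i) (f j) (q i : L (f i)) * φ (f i) ^ (p * n i) := by
      rw [← AlgHom.commutes (ml (f i) (f j)) (g i), ← hg i, map_mul, map_pow, AlgHom.commutes]
    have h3 : φ ((α * f i ^ n i) ^ p * g j) = φ (((f i * f j) ^ m * f j ^ n j) ^ p * g i) := by
      rw [map_mul, map_pow, map_mul, h1, show φ α = _ from hα.symm]
      rw [map_mul φ _ (g i), h2, ← hq i j]
      simp only [φ, map_mul, map_pow]
      ring
    obtain ⟨M, hM⟩ := IsLocalization.Away.exists_of_eq (f i * f j) h3
    let U := (f i * f j) ^ M * (α * f i ^ n i)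
    let V := (f i * f j) ^ M * ((f i * f j) ^ m * f j ^ n j)
    have hUV : U ^ p * g j = V ^ p * g i := by
      have hMp : M * p = M + (M * p - M) := (Nat.add_sub_cancel' (Nat.le_mul_of_pos_right M hpp.pos)).symm
      rw [mul_pow, mul_pow ((f i * f j) ^ M), mul_assoc, mul_assoc, ← pow_mul, hMp, pow_add,
        mul_comm ((f i * f j) ^ M), mul_assoc, mul_assoc, hM]
    have hd : U ^ p * derivative (g j) = V ^ p * derivative (g i) := by
      rw [← derivative_pow_mul_of_char p hp, hUV, derivative_pow_mul_of_char p hp]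
    have hz : V ^ p * (derivative (g i) * g j - derivative (g j) * g i) = 0 := by
      rw [mul_sub, ← mul_assoc, ← hd, mul_left_comm (V ^ p), ← hUV]; ring
    have hV : IsUnit (φ (V ^ p)) := by
      have hij : IsUnit (φ (f i * f j)) := IsLocalization.Away.algebraMap_isUnit _
      simp only [V, map_pow, map_mul] at hij ⊢
      exact ((hij.pow M).mul ((hij.pow m).mul ((IsUnit.mul_iff.1 hij).2.pow (n j)))).pow p
    rw [← sub_eq_zero, ← map_sub]
    refine hV.mul_left_cancel ?_
    rw [← map_mul, hz, map_zero, mul_zero]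
  let z : ∀ i, L (f i) := fun i => algebraMap _ _ (derivative (g i)) * ((hgu i).unit⁻¹ : (L (f i))ˣ)
  have hzg : ∀ i, z i * algebraMap _ _ (g i) = algebraMap _ _ (derivative (g i)) := fun i => by
    rw [mul_assoc, IsUnit.val_inv_mul, mul_one]
  obtain ⟨w, hw⟩ := exists_glue hspan z fun i j => by
    have h1 : ml (f i) (f j) (z i) * algebraMap _ _ (g i) = algebraMap _ _ (derivative (g i)) := by
      rw [← AlgHom.commutes (ml (f i) (f j)) (g i), ← map_mul, hzg, AlgHom.commutes]
    have h2 : mr (f i) (f j) (z j) * algebraMap _ _ (g j) = algebraMap _ _ (derivative (g j)) := by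
      rw [← AlgHom.commutes (mr (f i) (f j)) (g j), ← map_mul, hzg, AlgHom.commutes]
    have hu : IsUnit (algebraMap R[X] (L (f i * f j)) (g i) * algebraMap _ _ (g j)) := by
      rw [← AlgHom.commutes (ml (f i) (f j)) (g i), ← AlgHom.commutes (mr (f i) (f j)) (g j)]
      exact ((hgu i).map _).mul ((hgu j).map _)
    refine hu.mul_right_cancel ?_
    rw [← mul_assoc, h1, mul_left_comm, h2, mul_comm (algebraMap _ _ (g i)), ← map_mul, ← map_mul, hcross]
  have hrel : ∀ i, ∃ N : ℕ, f i ^ N * derivative (g i) = f i ^ N * (w * g i) := fun i =>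
    IsLocalization.Away.exists_of_eq (f i) (show algebraMap R[X] (L (f i)) (derivative (g i)) =
      algebraMap R[X] (L (f i)) (w * g i) by rw [map_mul (algebraMap R[X] (L (f i))), hw i, hzg])
  have hwn : IsNilpotent w := by
    rw [Polynomial.isNilpotent_iff]
    intro k
    rw [← mem_nilradical, nilradical_eq_sInf]
    refine Ideal.mem_sInf.2 fun {P} (hP : P.IsPrime) => ?_
    haveI := hP
    let ρ := mapRingHom (Ideal.Quotient.mk P)
    suffices h0 : ρ w = 0 by
      rw [← Ideal.Quotient.eq_zero_iff_mem, ← coeff_map]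
      exact congrArg (fun s : (R ⧸ P)[X] => s.coeff k) h0
    obtain ⟨i, hi⟩ : ∃ i, ρ (f i) ≠ 0 := by
      by_contra hall
      push Not at hall
      have : Ideal.span (Set.range f) ≤ RingHom.ker ρ := Ideal.span_le.2 (by
        rintro _ ⟨i, rfl⟩; exact hall i)
      rw [hspan, top_le_iff] at this
      exact RingHom.ker_ne_top ρ this
    obtain ⟨N, hN⟩ := hrel i
    have hN' := congrArg ρ hN
    rw [map_mul, map_mul, map_mul, map_pow] at hN'
    have hd := mul_left_cancel₀ (pow_ne_zero N hi) hN'
    have hg0 : ρ (g i) ≠ 0 := by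
      obtain ⟨N', c, hc⟩ := (IsLocalization.Away.algebraMap_isUnit_iff (f i)).1 (hgu i)
      intro h0
      have := congrArg ρ hc
      rw [map_pow, map_mul, h0, zero_mul] at this
      exact pow_ne_zero N' hi this
    by_contra hw0
    have h1 : derivative (ρ (g i)) = ρ w * ρ (g i) := by
      rw [← hd]; exact (derivative_map (g i) (Ideal.Quotient.mk P))
    have h2 : degree (ρ (g i)) ≤ degree (derivative (ρ (g i))) := by
      rw [h1, mul_comm]
      exact degree_le_mul_left _ hw0
    exact absurd (degree_derivative_lt hg0) (not_lt.2 h2)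
  intro i
  obtain ⟨N, hN⟩ := hrel i
  refine ⟨n i + N, (f i ^ N) ^ p * g i, ?_, ?_⟩
  · rw [map_mul, ← hg i, mul_add, pow_add, map_pow, map_pow, ← pow_mul, mul_comm p N]
    ring
  · rw [derivative_pow_mul_of_char p hp, show (f i ^ N) ^ p = (f i ^ N) ^ (p - 1) * f i ^ N by
      rw [← pow_succ, Nat.sub_add_cancel hpp.one_le], mul_assoc, hN]
    exact (Commute.all _ _).isNilpotent_mul_left
      ((Commute.all _ _).isNilpotent_mul_left ((Commute.all _ _).isNilpotent_mul_right hwn))

/-- A cocycle on the affine line with killed class becomes a coboundary once finitely many elements have roots. -/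
theorem exists_root_set (p : ℕ) [Fact p.Prime] (hp : (p : R) = 0) (f : κ → R[X])
    (hspan : Ideal.span (Set.range f) = ⊤)
    {a : ∀ i j, (L (f i * f j))ˣ} (ha : IsCoc a) (q : ∀ i, (L (f i))ˣ)
    (hq : ∀ i j, (a i j : L (f i * f j)) ^ p * mr (f i) (f j) (q j : L (f j)) = ml (f i) (f j) (q i : L (f i))) :
    ∃ T : Finset R, ∀ (R' : Type u) [CommRing R'] (φ : R →+* R'), (∀ σ ∈ T, ∃ r, r ^ p = φ σ) →
      IsCob (f := fun i => mapRingHom φ (f i)) (push (mapRingHom φ) a) := by
  classical
  cases nonempty_fintype κ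
  have hpp := Fact.out (p := p.Prime)
  choose n g hg hgn using exists_num p hp f hspan q hq
  refine ⟨Finset.univ.biUnion fun i => (Finset.range ((g i).natDegree + 1)).image fun m => (g i).coeff (m * p),
    fun R' _ φ hroot => ?_⟩
  let π := mapRingHom φ
  have hp' : (p : R') = 0 := by rw [← map_natCast φ, hp, map_zero]
  have hpA : (p : R'[X]) = 0 := by rw [← map_natCast C, hp', map_zero]
  refine isCob_of_root p hpA (span_push π hspan) (ha.push π)
    (fun i => Units.map (pm π (f i)).toMonoidHom (q i)) (fun i j => ?_) fun i => ?_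
  · show pm₂ π _ _ (a i j : L (f i * f j)) ^ p * mr (π (f i)) (π (f j)) (pm π (f j) (q j : L (f j))) =
      ml (π (f i)) (π (f j)) (pm π (f i) (q i : L (f i)))
    have := congrArg (pm₂ π (f i) (f j)) (hq i j)
    rw [map_mul, map_pow, pm₂_mr, pm₂_ml] at this
    exact this
  · rcases subsingleton_or_nontrivial R' with _ | _
    · haveI : Subsingleton (L (π (f i))) :=
        (algebraMap R'[X] (L (π (f i)))).codomain_trivial
      exact ⟨0, 0 + 1, Subsingleton.elim _ _⟩
    haveI : CharP R' p := (CharP.charP_iff_prime_eq_zero hpp).2 hp'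
    have hr : ∀ m, ∃ r : R', m ≤ (g i).natDegree → r ^ p = φ ((g i).coeff (m * p)) := fun m => by
      by_cases hm : m ≤ (g i).natDegree
      · obtain ⟨r, hr⟩ := hroot ((g i).coeff (m * p))
          (Finset.mem_biUnion.2 ⟨i, Finset.mem_univ _, Finset.mem_image.2 ⟨m, Finset.mem_range.2 (by omega), rfl⟩⟩)
        exact ⟨r, fun _ => hr⟩
      · exact ⟨0, fun h => absurd h hm⟩
    choose r hr using hr
    let E : R'[X] := ∑ m ∈ Finset.range ((g i).natDegree + 1), C (r m) * X ^ m
    have hE : IsNilpotent (π (g i) - E ^ p) := by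
      rw [Polynomial.isNilpotent_iff]
      intro k
      have hEp : E ^ p = ∑ m ∈ Finset.range ((g i).natDegree + 1), C (φ ((g i).coeff (m * p))) * X ^ (m * p) := by
        rw [sum_pow_char p]
        refine Finset.sum_congr rfl fun m hm => ?_
        rw [mul_pow, ← C_pow, hr m (by simpa using hm), ← pow_mul]
      rw [hEp, coeff_sub, finsetSum_coeff, show (π (g i)).coeff k = φ ((g i).coeff k) from coeff_map φ k]
      simp only [coeff_C_mul, coeff_X_pow, mul_ite, mul_one, mul_zero]
      by_cases hk : p ∣ k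
      · obtain ⟨m, rfl⟩ := hk
        rw [Finset.sum_eq_single m (fun b _ hb => if_neg fun h => hb (Nat.eq_of_mul_eq_mul_right hpp.pos
            (by rw [← h, mul_comm])))
          (fun hm => by
            rw [if_pos (mul_comm p m), coeff_eq_zero_of_natDegree_lt (p := g i), map_zero]
            rw [Finset.mem_range] at hm
            exact lt_of_lt_of_le (by omega) (Nat.le_mul_of_pos_right m hpp.pos)), if_pos (mul_comm p m),
          mul_comm p m, sub_self]
        exact IsNilpotent.zero
      · rw [Finset.sum_eq_zero (fun m _ => if_neg fun h => hk (by rw [h]; exact dvd_mul_left p m)), sub_zero]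
        obtain ⟨k, rfl⟩ : ∃ k', k = k' + 1 := ⟨k - 1, by
          rcases k with _ | k
          · exact absurd (dvd_zero p) hk
          · rfl⟩
        have hd := ((Polynomial.isNilpotent_iff.1 (hgn i)) k).map φ
        rw [coeff_derivative, map_mul, map_add, map_natCast, map_one] at hd
        have hu : IsUnit (((k : R') + 1)) := by
          have h1 := (ZMod.isUnit_iff_coprime (k + 1) p).2
            ((Nat.Prime.coprime_iff_not_dvd hpp).2 hk).symm
          have h2 := h1.map (ZMod.castHom dvd_rfl R')
          simpa using h2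
        obtain ⟨w, hw⟩ := hu
        rw [← hw] at hd
        simpa using (Commute.all _ _).isNilpotent_mul_right (y := ((w⁻¹ : R'ˣ) : R')) hd
    obtain ⟨fi, hfi⟩ := (IsLocalization.Away.algebraMap_isUnit (π (f i)) :
      IsUnit (algebraMap R'[X] (L (π (f i))) (π (f i)))).exists_right_inv
    refine ⟨algebraMap _ _ E * fi ^ n i, ?_⟩
    show IsNilpotent (pm π (f i) (q i : L (f i)) - (algebraMap _ _ E * fi ^ n i) ^ p)
    have h1 : pm π (f i) (q i : L (f i)) * algebraMap R'[X] (L (π (f i))) (π (f i)) ^ (p * n i) =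
        algebraMap _ _ (π (g i)) := by
      have := congrArg (pm π (f i)) (hg i)
      rwa [map_mul, map_pow, pm_algebraMap, pm_algebraMap] at this
    have h2 : pm π (f i) (q i : L (f i)) - (algebraMap _ _ E * fi ^ n i) ^ p =
        algebraMap _ _ (π (g i) - E ^ p) * fi ^ (p * n i) := by
      rw [map_sub, map_pow, sub_mul, ← h1, mul_assoc, ← mul_pow, hfi, one_pow, mul_one, mul_pow, ← pow_mul,
        mul_comm (n i) p]
    rw [h2]
    exact (Commute.all _ _).isNilpotent_mul_right (hE.map _)

end poly

end GmExtLib
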