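import Mathlib.RingTheory.Localization.Away.Basic
import Mathlib.RingTheory.Nilpotent.Lemmas
import Mathlib.RingTheory.Nilpotent.Basic
import Mathlib.RingTheory.Ideal.Operations

/-!
# Multiplicative cocycles on the basic opens of an affine scheme
-/

set_option autoImplicit false
set_option maxHeartbeats 800000
universe u v

namespace GmExtLib

variable {A : Type u} [CommRing A]

/-- The localization away from an element. -/
abbrev L (f : A) : Type u := Localization.Away f

theorem isUnit_powers {f : A} {D : Type v} [CommRing D] [Algebra A D] (h : IsUnit (algebraMap A D f))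
    (y : Submonoid.powers f) : IsUnit ((Algebra.ofId A D) (y : A)) := by
  obtain ⟨_, n, rfl⟩ := y
  simpa using h.pow n

/-- The map out of a localization. -/
noncomputable def lm {f : A} {D : Type v} [CommRing D] [Algebra A D] (h : IsUnit (algebraMap A D f)) :
    L f →ₐ[A] D :=
  IsLocalization.liftAlgHom (M := Submonoid.powers f) (f := Algebra.ofId A D) (isUnit_powers h)

theorem hom_eq {f : A} {D : Type v} [CommRing D] [Algebra A D] (φ ψ : L f →ₐ[A] D) : φ = ψ :=
  (IsLocalization.algHom_subsingleton (Submonoid.powers f)).elim φ ψ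

theorem apply_eq {f : A} {D : Type v} [CommRing D] [Algebra A D] (φ ψ : L f →ₐ[A] D) (x : L f) : φ x = ψ x := by
  rw [hom_eq φ ψ]

theorem isUnit_left (g h : A) : IsUnit (algebraMap A (L (g * h)) g) :=
  (IsUnit.mul_iff.1 ((map_mul (algebraMap A (L (g * h))) g h) ▸ IsLocalization.Away.algebraMap_isUnit (g * h))).1

theorem isUnit_right (g h : A) : IsUnit (algebraMap A (L (g * h)) h) :=
  (IsUnit.mul_iff.1 ((map_mul (algebraMap A (L (g * h))) g h) ▸ IsLocalization.Away.algebraMap_isUnit (g * h))).2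

/-- The left restriction. -/
noncomputable abbrev ml (g h : A) : L g →ₐ[A] L (g * h) := lm (isUnit_left g h)

/-- The right restriction. -/
noncomputable abbrev mr (g h : A) : L h →ₐ[A] L (g * h) := lm (isUnit_right g h)

theorem isUnit_mul {g h : A} {D : Type v} [CommRing D] [Algebra A D] (hg : IsUnit (algebraMap A D g))
    (hh : IsUnit (algebraMap A D h)) : IsUnit (algebraMap A D (g * h)) := by
  rw [map_mul]; exact hg.mul hh

theorem exists_ml_eq (g h : A) (y : L (g * h)) :
    ∃ N : ℕ, ∀ M, N ≤ M → ∃ x : L g, ml g h x = algebraMap A _ h ^ M * y := by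
  obtain ⟨n, a, ha⟩ := IsLocalization.Away.surj (g * h) y
  obtain ⟨gi, hgi⟩ := (IsLocalization.Away.algebraMap_isUnit g : IsUnit (algebraMap A (L g) g)).exists_right_inv
  refine ⟨n, fun M hM => ⟨algebraMap A (L g) (a * h ^ (M - n)) * gi ^ n, ?_⟩⟩
  have h1 : ml g h gi * algebraMap A _ g = 1 := by
    rw [← AlgHom.commutes (ml g h) g, ← map_mul, mul_comm gi, hgi, map_one]
  simp only [map_mul, map_pow, AlgHom.commutes]
  rw [← ha, map_mul, mul_pow]
  calc y * (algebraMap A (L (g * h)) g ^ n * algebraMap A _ h ^ n) * algebraMap A _ h ^ (M - n) * ml g h gi ^ n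
      = (ml g h gi * algebraMap A _ g) ^ n * (algebraMap A _ h ^ n * algebraMap A _ h ^ (M - n)) * y := by ring
    _ = _ := by rw [h1, one_pow, one_mul, ← pow_add, Nat.add_sub_cancel' hM]

theorem exists_pow_mul_eq_zero (g h : A) (x : L g) (hx : ml g h x = 0) :
    ∃ N : ℕ, algebraMap A (L g) h ^ N * x = 0 := by
  obtain ⟨n, a, ha⟩ := IsLocalization.Away.surj g x
  have h0 : algebraMap A (L (g * h)) a = 0 := by
    rw [← AlgHom.commutes (ml g h) a, ← ha, map_mul, hx, zero_mul]
  obtain ⟨⟨_, m, rfl⟩, hm⟩ := (IsLocalization.map_eq_zero_iff (Submonoid.powers (g * h)) _ a).1 h0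
  refine ⟨m, ?_⟩
  have h2 : algebraMap A (L g) ((g * h) ^ m) * algebraMap A (L g) a = 0 := by
    rw [← map_mul, show (g * h) ^ m * a = 0 from hm, map_zero]
  have hu : IsUnit (algebraMap A (L g) g ^ (m + n)) := (IsLocalization.Away.algebraMap_isUnit g).pow _
  refine hu.mul_left_cancel ?_
  rw [mul_zero, ← h2, ← ha, map_pow, map_mul, mul_pow]
  ring

theorem exists_pow_mul_eq (g h : A) (x y : L g) (hxy : ml g h x = ml g h y) :
    ∃ N : ℕ, algebraMap A (L g) h ^ N * x = algebraMap A (L g) h ^ N * y := by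
  obtain ⟨N, hN⟩ := exists_pow_mul_eq_zero g h (x - y) (by rw [map_sub, hxy, sub_self])
  exact ⟨N, sub_eq_zero.1 (by rw [← mul_sub, hN])⟩

theorem exists_pow_mul_nilpotent (g h : A) (x : L g) (hx : IsNilpotent (ml g h x)) :
    ∃ N : ℕ, IsNilpotent (algebraMap A (L g) h ^ N * x) := by
  obtain ⟨m, hm⟩ := hx
  obtain ⟨N, hN⟩ := exists_pow_mul_eq_zero g h (x ^ (m + 1)) (by rw [map_pow, pow_succ, hm, zero_mul])
  refine ⟨N, m + 1, ?_⟩
  rw [mul_pow, ← pow_mul, Nat.mul_succ, pow_add, mul_assoc, hN, mul_zero]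

variable {κ : Type v} {f : κ → A}

/-- The map on units. -/
noncomputable def um {B C : Type*} [CommRing B] [CommRing C] [Algebra A B] [Algebra A C] (φ : B →ₐ[A] C) : Bˣ →* Cˣ :=
  Units.map φ.toRingHom.toMonoidHom

theorem val_um {B C : Type*} [CommRing B] [CommRing C] [Algebra A B] [Algebra A C] (φ : B →ₐ[A] C) (x : Bˣ) :
    (um φ x : C) = φ (x : B) := rfl

/-- A cocycle of units. -/
def IsCoc (a : ∀ i j, (L (f i * f j))ˣ) : Prop :=
  ∀ (i j k : κ) (D : Type u) [CommRing D] [Algebra A D] (hi : IsUnit (algebraMap A D (f i)))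
    (hj : IsUnit (algebraMap A D (f j))) (hk : IsUnit (algebraMap A D (f k))),
    lm (isUnit_mul hi hj) (a i j : L (f i * f j)) * lm (isUnit_mul hj hk) (a j k : L (f j * f k)) =
      lm (isUnit_mul hi hk) (a i k : L (f i * f k))

/-- The cocycle is the coboundary of units. -/
def IsCob (a : ∀ i j, (L (f i * f j))ˣ) : Prop :=
  ∃ e : ∀ i, (L (f i))ˣ, ∀ i j, (a i j : L (f i * f j)) * mr (f i) (f j) (e j : L (f j)) = ml (f i) (f j) (e i : L (f i))

theorem IsCoc.twist {a : ∀ i j, (L (f i * f j))ˣ} (ha : IsCoc a) (e : ∀ i, (L (f i))ˣ) :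
    IsCoc fun i j => a i j * um (mr (f i) (f j)) (e j) *
      (um (ml (f i) (f j)) (e i))⁻¹ := by
  intro i j k D _ _ hi hj hk
  have hl : ∀ (p q : κ) (hp : IsUnit (algebraMap A D (f p))) (hq : IsUnit (algebraMap A D (f q))) (w : (L (f p))ˣ),
      um (lm (isUnit_mul hp hq)) (um (ml (f p) (f q)) w) =
        um (lm hp) w := fun p q hp hq w =>
    Units.ext (apply_eq ((lm (isUnit_mul hp hq)).comp (ml (f p) (f q))) (lm hp) (w : L (f p)))
  have hr : ∀ (p q : κ) (hp : IsUnit (algebraMap A D (f p))) (hq : IsUnit (algebraMap A D (f q))) (w : (L (f q))ˣ),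
      um (lm (isUnit_mul hp hq)) (um (mr (f p) (f q)) w) =
        um (lm hq) w := fun p q hp hq w =>
    Units.ext (apply_eq ((lm (isUnit_mul hp hq)).comp (mr (f p) (f q))) (lm hq) (w : L (f q)))
  let U := fun (p q : κ) (hp : IsUnit (algebraMap A D (f p))) (hq : IsUnit (algebraMap A D (f q))) =>
    um (lm (isUnit_mul hp hq))
  have key : U i j hi hj (a i j) * U j k hj hk (a j k) = U i k hi hk (a i k) := Units.ext (ha i j k D hi hj hk)
  suffices hgoal : U i j hi hj (a i j * um (mr (f i) (f j)) (e j) *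
      (um (ml (f i) (f j)) (e i))⁻¹) *
      U j k hj hk (a j k * um (mr (f j) (f k)) (e k) *
      (um (ml (f j) (f k)) (e j))⁻¹) =
      U i k hi hk (a i k * um (mr (f i) (f k)) (e k) *
      (um (ml (f i) (f k)) (e i))⁻¹) from congrArg Units.val hgoal
  simp only [U, map_mul, map_inv] at key ⊢
  rw [hr i j hi hj (e j), hl i j hi hj (e i), hr j k hj hk (e k), hl j k hj hk (e j), hr i k hi hk (e k),
    hl i k hi hk (e i)]
  rw [← key]
  generalize um (lm (isUnit_mul hi hj)) (a i j) = X, um (lm (isUnit_mul hj hk)) (a j k) = Y,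
    um (lm hi) (e i) = y, um (lm hj) (e j) = x, um (lm hk) (e k) = z
  calc X * x * y⁻¹ * (Y * z * x⁻¹) = X * Y * z * y⁻¹ * (x * x⁻¹) := by ac_rfl
    _ = _ := by rw [mul_inv_cancel, mul_one]

theorem IsCob.of_twist {a : ∀ i j, (L (f i * f j))ˣ} (e : ∀ i, (L (f i))ˣ)
    (h : IsCob fun i j => a i j * um (mr (f i) (f j)) (e j) *
      (um (ml (f i) (f j)) (e i))⁻¹) : IsCob a := by
  obtain ⟨d, hd⟩ := h
  refine ⟨fun i => e i * d i, fun i j => ?_⟩
  let Ml := um (ml (f i) (f j))
  let Mr := um (mr (f i) (f j))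
  have hd' : a i j * Mr (e j) * (Ml (e i))⁻¹ * Mr (d j) = Ml (d i) := Units.ext (hd i j)
  suffices hgoal : a i j * Mr (e j * d j) = Ml (e i * d i) from congrArg Units.val hgoal
  rw [map_mul, map_mul, ← hd', mul_comm (Ml (e i)) (_ * _), mul_assoc _ (Mr (d j)), mul_comm (Mr (d j)),
    ← mul_assoc _ (Ml (e i)), inv_mul_cancel_right, mul_assoc]

variable [Finite κ]

theorem exists_uniform {P : κ → ℕ → Prop} (h : ∀ k, ∃ N, ∀ M, N ≤ M → P k M) : ∃ N, ∀ k M, N ≤ M → P k M := by
  choose N hN using h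
  obtain ⟨B, hB⟩ := (Set.finite_range N).bddAbove
  exact ⟨B, fun k M hM => hN k M ((hB ⟨k, rfl⟩).trans hM)⟩

variable (hspan : Ideal.span (Set.range f) = ⊤)

include hspan

theorem exists_partition (N : ℕ) : ∃ r : κ → A, ∀ [Fintype κ], ∑ k, r k * f k ^ N = 1 := by
  classical
  cases nonempty_fintype κ
  have h := Ideal.span_pow_eq_top _ hspan N
  rw [← Set.range_comp, Ideal.eq_top_iff_one, Ideal.span, Submodule.mem_span_range_iff_exists_fun] at h
  obtain ⟨r, hr⟩ := h
  refine ⟨r, fun {inst} => ?_⟩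
  convert hr using 2
  · exact congrArg (@Finset.univ κ) (Subsingleton.elim _ _)
  · simp

/-- A cocycle which is one modulo nilpotents is a coboundary. -/
theorem isCob_of_nilpotent {a : ∀ i j, (L (f i * f j))ˣ} (ha : IsCoc a)
    (hn : ∀ i j, IsNilpotent ((a i j : L (f i * f j)) - 1)) : IsCob a := by
  classical
  cases nonempty_fintype κ
  obtain ⟨N₁, hN₁⟩ := exists_uniform (P := fun q : κ × κ => fun M => ∃ x : L (f q.1),
      ml (f q.1) (f q.2) x = algebraMap A _ (f q.2) ^ M * (a q.1 q.2 : L (f q.1 * f q.2)))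
    fun q => exists_ml_eq _ _ _
  choose x hx using fun i k => hN₁ (i, k) N₁ le_rfl
  have hnil : ∀ q : κ × κ, ∃ N, ∀ M, N ≤ M →
      IsNilpotent (algebraMap A (L (f q.1)) (f q.2) ^ M * x q.1 q.2 - algebraMap A _ (f q.2) ^ (M + N₁)) := fun q => by
    obtain ⟨N, hN⟩ := exists_pow_mul_nilpotent (f q.1) (f q.2)
      (x q.1 q.2 - algebraMap A _ (f q.2) ^ N₁) (by
        rw [map_sub, hx q.1 q.2, map_pow, AlgHom.commutes]
        have := (Commute.all (algebraMap A (L (f q.1 * f q.2)) (f q.2) ^ N₁)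
          ((a q.1 q.2 : L (f q.1 * f q.2)) - 1)).isNilpotent_mul_left (hn q.1 q.2)
        rwa [mul_sub, mul_one] at this)
    refine ⟨N, fun M hM => ?_⟩
    obtain ⟨d, rfl⟩ := Nat.exists_eq_add_of_le hM
    have := (Commute.all (algebraMap A (L (f q.1)) (f q.2) ^ d) _).isNilpotent_mul_left hN
    rwa [← mul_assoc, ← pow_add, add_comm d, mul_sub, ← pow_add] at this
  obtain ⟨N₂, hN₂⟩ := exists_uniform hnil
  have heq : ∀ q : κ × κ × κ, ∃ N, ∀ M, N ≤ M →
      algebraMap A (L (f q.1 * f q.2.1)) (f q.2.2) ^ M *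
          ((a q.1 q.2.1 : L (f q.1 * f q.2.1)) * mr (f q.1) (f q.2.1) (x q.2.1 q.2.2)) =
        algebraMap A (L (f q.1 * f q.2.1)) (f q.2.2) ^ M * ml (f q.1) (f q.2.1) (x q.1 q.2.2) := by
    rintro ⟨i, j, k⟩
    obtain ⟨N, hN⟩ := exists_pow_mul_eq (f i * f j) (f k)
      ((a i j : L (f i * f j)) * mr (f i) (f j) (x j k)) (ml (f i) (f j) (x i k)) (by
        let D := L (f i * f j * f k)
        have hij := isUnit_left (f i * f j) (f k)
        have hk : IsUnit (algebraMap A D (f k)) := isUnit_right (f i * f j) (f k)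
        have hi : IsUnit (algebraMap A D (f i)) := (IsUnit.mul_iff.1 ((map_mul (algebraMap A D) _ _) ▸ hij)).1
        have hj : IsUnit (algebraMap A D (f j)) := (IsUnit.mul_iff.1 ((map_mul (algebraMap A D) _ _) ▸ hij)).2
        have e1 : ml (f i * f j) (f k) (mr (f i) (f j) (x j k)) =
            algebraMap A D (f k) ^ N₁ * lm (isUnit_mul hj hk) (a j k : L (f j * f k)) := by
          rw [show ml (f i * f j) (f k) (mr (f i) (f j) (x j k)) =
            lm (isUnit_mul hj hk) (ml (f j) (f k) (x j k)) from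
              apply_eq ((ml (f i * f j) (f k)).comp (mr (f i) (f j)))
                ((lm (isUnit_mul hj hk)).comp (ml (f j) (f k))) _, hx j k, map_mul, map_pow, AlgHom.commutes]
        have e2 : ml (f i * f j) (f k) (ml (f i) (f j) (x i k)) =
            algebraMap A D (f k) ^ N₁ * lm (isUnit_mul hi hk) (a i k : L (f i * f k)) := by
          rw [show ml (f i * f j) (f k) (ml (f i) (f j) (x i k)) =
            lm (isUnit_mul hi hk) (ml (f i) (f k) (x i k)) from
              apply_eq ((ml (f i * f j) (f k)).comp (ml (f i) (f j)))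
                ((lm (isUnit_mul hi hk)).comp (ml (f i) (f k))) _, hx i k, map_mul, map_pow, AlgHom.commutes]
        rw [map_mul, e1, e2, apply_eq (ml (f i * f j) (f k)) (lm (isUnit_mul hi hj)) _, ← ha i j k D hi hj hk]
        ring)
    refine ⟨N, fun M hM => ?_⟩
    obtain ⟨d, rfl⟩ := Nat.exists_eq_add_of_le hM
    rw [pow_add, mul_comm (_ ^ N), mul_assoc, hN, ← mul_assoc]
  obtain ⟨N₃, hN₃⟩ := exists_uniform heq
  let M := N₂ + N₃
  obtain ⟨r, hr⟩ := exists_partition hspan (M + N₁)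
  let e : ∀ i, L (f i) := fun i => ∑ k, algebraMap A (L (f i)) (r k) * (algebraMap A _ (f k) ^ M * x i k)
  have he : ∀ i, IsUnit (e i) := fun i => by
    have h1 : IsNilpotent (e i - 1) := by
      have : e i - 1 = ∑ k, algebraMap A (L (f i)) (r k) *
          (algebraMap A _ (f k) ^ M * x i k - algebraMap A _ (f k) ^ (M + N₁)) := by
        simp only [e, mul_sub, Finset.sum_sub_distrib]
        congr 1
        simp only [← map_pow, ← map_mul, ← map_sum, hr, map_one]
      rw [this]
      exact isNilpotent_sum fun k _ => (Commute.all _ _).isNilpotent_mul_left (hN₂ (i, k) M (by omega))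
    have := IsNilpotent.isUnit_one_add h1
    simpa using this
  refine ⟨fun i => (he i).unit, fun i j => ?_⟩
  show (a i j : L (f i * f j)) * mr (f i) (f j) (e j) = ml (f i) (f j) (e i)
  simp only [e, map_sum, Finset.mul_sum, map_mul, map_pow, AlgHom.commutes]
  refine Finset.sum_congr rfl fun k _ => ?_
  rw [← mul_assoc, mul_comm (a i j : L (f i * f j)), mul_assoc, mul_left_comm (a i j : L (f i * f j)),
    hN₃ (i, j, k) M (by omega)]

/-- Compatible elements of the localizations come from the ring. -/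
theorem exists_glue (z : ∀ i, L (f i)) (hz : ∀ i j, ml (f i) (f j) (z i) = mr (f i) (f j) (z j)) :
    ∃ w : A, ∀ i, algebraMap A (L (f i)) w = z i := by
  classical
  cases nonempty_fintype κ
  obtain ⟨N₁, hN₁⟩ := exists_uniform (P := fun k M => ∃ a : A, algebraMap A (L (f k)) a = algebraMap A _ (f k) ^ M * z k)
    fun k => by
      obtain ⟨n, a, ha⟩ := IsLocalization.Away.surj (f k) (z k)
      refine ⟨n, fun M hM => ⟨f k ^ (M - n) * a, ?_⟩⟩
      rw [map_mul, map_pow, ← ha, mul_comm (z k), ← mul_assoc, ← pow_add, Nat.sub_add_cancel hM]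
  choose c hc using fun k => hN₁ k N₁ le_rfl
  have heq : ∀ q : κ × κ, ∃ N, ∀ M, N ≤ M →
      algebraMap A (L (f q.1)) (f q.2) ^ M * algebraMap A _ (c q.2) =
        algebraMap A (L (f q.1)) (f q.2) ^ M * (algebraMap A _ (f q.2) ^ N₁ * z q.1) := by
    rintro ⟨i, k⟩
    obtain ⟨N, hN⟩ := exists_pow_mul_eq (f i) (f k) (algebraMap A (L (f i)) (c k))
      (algebraMap A _ (f k) ^ N₁ * z i) (by
        rw [AlgHom.commutes, map_mul, map_pow, AlgHom.commutes, hz i k, ← AlgHom.commutes (mr (f i) (f k)) (c k), hc k,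
          map_mul, map_pow, AlgHom.commutes])
    refine ⟨N, fun M hM => ?_⟩
    obtain ⟨d, rfl⟩ := Nat.exists_eq_add_of_le hM
    rw [pow_add, mul_comm (_ ^ N), mul_assoc, hN, ← mul_assoc]
  obtain ⟨M, hM⟩ := exists_uniform heq
  obtain ⟨r, hr⟩ := exists_partition hspan (M + N₁)
  refine ⟨∑ k, r k * (f k ^ M * c k), fun i => ?_⟩
  simp only [map_sum, map_mul, map_pow]
  calc ∑ k, algebraMap A (L (f i)) (r k) * (algebraMap A _ (f k) ^ M * algebraMap A _ (c k))
      = ∑ k, algebraMap A (L (f i)) (r k * f k ^ (M + N₁)) * z i := Finset.sum_congr rfl fun k _ => by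
        rw [hM (i, k) M le_rfl, map_mul, map_pow, pow_add]; ring
    _ = z i := by rw [← Finset.sum_mul, ← map_sum, hr, map_one, one_mul]

end GmExtLib
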