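import Groth.Agent.GmExtLib.Sec
import Groth.Agent.GmExtLib.Zar
import Groth.Agent.BigCohLib.Lift
import Groth.Agent.H90Lib.Alg
import Mathlib.RingTheory.Finiteness.FinitePresentationLocal
import Mathlib.AlgebraicGeometry.Morphisms.FinitePresentation
import Mathlib.AlgebraicGeometry.Morphisms.Flat

/-!
# Lifting sections along maps with kernel the multiplicative group
-/

set_option autoImplicit false
set_option maxHeartbeats 1600000
universe u

open CategoryTheory CategoryTheory.Limits AlgebraicGeometry Opposite TensorProduct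
open AdeqLib AdeqModLib

noncomputable section

namespace GmExtLib

variable {S : Scheme.{u}} {A : CommRingCat.{u}} (b : Spec A ⟶ S)
  {P Q : BigSite.Ab Scheme.fppfPrecoverage S} {i : G S ⟶ P} {g : P ⟶ Q} {w : i ≫ g = 0}
  (hC : (ShortComplex.mk i g w).ShortExact)

include hC

/-- A lift over a cover with descended cocycle glues. -/
theorem lift_of_equalized {C D : Type u} [CommRing C] [Algebra A C] [CommRing D] [Algebra A D] (π : C →ₐ[A] D)
    (hmem : Sieve.ofArrows (fun _ : PUnit.{1} => ao b D) (fun _ => amap b π) ∈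
      QuotSh.J Scheme.fppfPrecoverage S (ao b C))
    (s : Q.obj.obj (op (ao b C))) (d' : P.obj.obj (op (ao b D)))
    (hd : g.hom.app _ d' = Q.obj.map (amap b π).op s)
    (heq : P.obj.map (amap b (Algebra.TensorProduct.includeLeft : D →ₐ[A] D ⊗[A] D)).op d' =
      P.obj.map (amap b (Algebra.TensorProduct.includeRight : D →ₐ[A] D ⊗[A] D)).op d') :
    ∃ d : P.obj.obj (op (ao b C)), g.hom.app _ d = s := by
  obtain ⟨d, hd1⟩ := BigCohLib.p_glue P.property (fun _ : PUnit.{1} => amap b π) hmem (fun _ => d')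
    fun _ _ Z p q hpq => by
      have hb : amap b π ≫ amap b (Algebra.ofId A C) = amap b (Algebra.ofId A D) := by
        rw [amap_comp, Subsingleton.elim (π.comp (Algebra.ofId A C)) (Algebra.ofId A D)]
      obtain ⟨z, hz1, hz2⟩ := exists_pair b p q (by rw [← hb, reassoc_of% hpq])
      rw [← hz1, ← hz2, ← map_map, ← map_map, heq]
  refine ⟨d, sub_eq_zero.1 (BigCohLib.p_eq_zero Q.property (fun _ : PUnit.{1} => amap b π) hmem _ fun k => ?_)⟩
  rw [map_sub, ← NatTrans.naturality_apply g.hom (amap b π).op d, hd1 k, hd, sub_self]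

/-- A lift over one faithfully flat algebra of finite presentation gives lifts near every prime. -/
theorem exists_lift_of_single (s : Q.obj.obj (op (top b))) (x : PrimeSpectrum A) (B : Type u) [CommRing B]
    [Algebra A B] [Module.FaithfullyFlat A B] [Algebra.FinitePresentation A B]
    (t' : P.obj.obj (op (ao b B))) (ht'' : g.hom.app _ t' = Q.obj.map (amap b (Algebra.ofId A B)).op s) :
    ∃ (f : A) (_ : f ∉ x.asIdeal) (d : P.obj.obj (op (ao b (Localization.Away f)))),
      g.hom.app _ d = Q.obj.map (amap b (Algebra.ofId A (Localization.Away f))).op s := by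
  haveI := hC.mono_f
  have hsu : ∀ p : PrimeSpectrum A, ∃ q : PrimeSpectrum B, q.comap (algebraMap A B) = p :=
    fun p => PrimeSpectrum.comap_surjective_of_faithfullyFlat p
  let l : B →ₐ[A] B ⊗[A] B := Algebra.TensorProduct.includeLeft
  let r : B →ₐ[A] B ⊗[A] B := Algebra.TensorProduct.includeRight
  have hg0 : g.hom.app _ (P.obj.map (amap b l).op t' - P.obj.map (amap b r).op t') = 0 := by
    rw [map_sub, NatTrans.naturality_apply g.hom (amap b l).op t', NatTrans.naturality_apply g.hom (amap b r).op t',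
      ht'', map_map, map_map, amap_comp, amap_comp, sub_eq_zero,
      Subsingleton.elim (l.comp (Algebra.ofId A B)) (r.comp (Algebra.ofId A B))]
  obtain ⟨a, ha⟩ := exists_preimage_app hC _ _ hg0
  obtain ⟨u, rfl⟩ := (aSec_bijective b (B ⊗[A] B)).2 a
  replace ha : i.hom.app _ (aSec b _ u) = P.obj.map (amap b l).op t' - P.obj.map (amap b r).op t' := ha
  have hnat : ∀ {C' D' : Type u} [CommRing C'] [Algebra A C'] [CommRing D'] [Algebra A D'] (φ : C' →ₐ[A] D')
      (v : C'ˣ), i.hom.app _ (aSec b D' (Units.map φ.toRingHom.toMonoidHom v)) =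
        P.obj.map (amap b φ).op (i.hom.app _ (aSec b C' v)) := fun φ v => by
    rw [← map_aSec]
    exact NatTrans.naturality_apply i.hom (amap b φ).op _
  have hcoc : H90Lib.p12 A B (u : B ⊗[A] B) * H90Lib.p23 A B (u : B ⊗[A] B) =
      H90Lib.p13 A B (u : B ⊗[A] B) := by
    have key : Units.map (H90Lib.p12 A B).toRingHom.toMonoidHom u *
        Units.map (H90Lib.p23 A B).toRingHom.toMonoidHom u =
        Units.map (H90Lib.p13 A B).toRingHom.toMonoidHom u := by
      refine (aSec_bijective b _).1 (injective_app i _ ?_)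
      rw [aSec_mul, map_add, hnat, hnat, hnat, ha]
      simp only [map_sub, map_map, amap_comp]
      have e1 : (H90Lib.p23 A B).comp l = (H90Lib.p12 A B).comp r := by ext z; rfl
      have e2 : (H90Lib.p13 A B).comp l = (H90Lib.p12 A B).comp l := by ext z; rfl
      have e3 : (H90Lib.p13 A B).comp r = (H90Lib.p23 A B).comp r := by ext z; rfl
      rw [e1, e2, e3]
      abel
    exact congrArg Units.val key
  obtain ⟨f, β₀, c, N, hfx, hbc, hb⟩ := H90Lib.exists_coboundary u hcoc x
  let Af := Localization.Away f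
  let Bf := Localization.Away (algebraMap A B f)
  let j : B →ₐ[A] Bf := IsScalarTower.toAlgHom A B Bf
  have hfB : IsUnit (algebraMap A Bf f) := by
    rw [IsScalarTower.algebraMap_apply A B Bf]
    exact IsLocalization.Away.algebraMap_isUnit _
  have hbu : IsUnit (j β₀) := by
    have h := congrArg j hbc
    rw [map_mul, map_pow, AlgHom.commutes] at h
    exact isUnit_of_mul_isUnit_left (h ▸ hfB.pow N)
  let π : Af →ₐ[A] Bf := lm hfB
  let β : Bfˣ := hbu.unit
  let jj : B ⊗[A] B →ₐ[A] Bf ⊗[A] Bf := Algebra.TensorProduct.map j j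
  let lf : Bf →ₐ[A] Bf ⊗[A] Bf := Algebra.TensorProduct.includeLeft
  let rf : Bf →ₐ[A] Bf ⊗[A] Bf := Algebra.TensorProduct.includeRight
  have hβ : Units.map lf.toRingHom.toMonoidHom β =
      Units.map jj.toRingHom.toMonoidHom u * Units.map rf.toRingHom.toMonoidHom β := Units.ext (by
    show lf (j β₀) = jj (u : B ⊗[A] B) * rf (j β₀)
    have := congrArg jj hb
    rw [map_mul] at this
    simpa [lf, rf, jj] using this)
  have hcomp : Spec.map (CommRingCat.ofHom π.toRingHom) ≫ Spec.map (CommRingCat.ofHom (algebraMap A Af)) =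
      Spec.map (CommRingCat.ofHom (algebraMap A Bf)) := by
    rw [← Spec.map_comp, ← CommRingCat.ofHom_comp]
    exact congrArg (fun c => Spec.map (CommRingCat.ofHom c)) π.comp_algebraMap
  letI : Algebra Af Bf := π.toRingHom.toAlgebra
  haveI : IsScalarTower A Af Bf := IsScalarTower.of_algebraMap_eq fun y => (π.commutes y).symm
  haveI : Algebra.FinitePresentation A Bf := by
    haveI : Algebra.FinitePresentation B Bf := IsLocalization.Away.finitePresentation (algebraMap A B f)
    exact Algebra.FinitePresentation.trans A B Bf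
  haveI : Algebra.FinitePresentation Af Bf := Algebra.FinitePresentation.of_restrict_scalars_finitePresentation A Af Bf
  haveI : Module.Flat A Bf := Module.Flat.trans A B Bf
  haveI : IsOpenImmersion (Spec.map (CommRingCat.ofHom (algebraMap A Af))) :=
    AlgebraicGeometry.IsOpenImmersion.of_isLocalization f
  haveI hflat : Flat (Spec.map (CommRingCat.ofHom π.toRingHom)) := by
    haveI : Flat (Spec.map (CommRingCat.ofHom (algebraMap A Bf))) :=
      (HasRingHomProperty.Spec_iff (P := @Flat)).2 (RingHom.flat_algebraMap_iff.2 inferInstance)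
    have sq : IsPullback (𝟙 _) (Spec.map (CommRingCat.ofHom π.toRingHom))
        (Spec.map (CommRingCat.ofHom (algebraMap A Bf))) (Spec.map (CommRingCat.ofHom (algebraMap A Af))) := by
      refine IsPullback.of_isLimit (PullbackCone.IsLimit.mk ((Category.id_comp _).trans hcomp.symm)
        (fun c => c.fst) (fun c => Category.comp_id _) (fun c => ?_) (fun c m h₁ _ => by
          rw [Category.comp_id] at h₁; exact h₁))
      refine (cancel_mono (Spec.map (CommRingCat.ofHom (algebraMap A Af)))).1 ?_
      exact (Category.assoc _ _ _).trans ((congrArg (c.fst ≫ ·) hcomp).trans c.condition)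
    exact MorphismProperty.of_isPullback (P := @Flat) sq inferInstance
  have hsurj : Function.Surjective (PrimeSpectrum.comap π.toRingHom) := fun y => by
    obtain ⟨q, hq⟩ := hsu (PrimeSpectrum.comap (algebraMap A Af) y)
    have hyf : f ∉ (PrimeSpectrum.comap (algebraMap A Af) y).asIdeal := by
      have : PrimeSpectrum.comap (algebraMap A Af) y ∈ Set.range (PrimeSpectrum.comap (algebraMap A Af)) := ⟨y, rfl⟩
      rwa [PrimeSpectrum.localization_away_comap_range Af f] at this
    obtain ⟨q', hq'⟩ : q ∈ Set.range (PrimeSpectrum.comap (algebraMap B Bf)) := by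
      rw [PrimeSpectrum.localization_away_comap_range Bf (algebraMap A B f)]
      show algebraMap A B f ∉ q.asIdeal
      rw [← hq] at hyf
      exact hyf
    refine ⟨q', (PrimeSpectrum.localization_comap_injective Af (Submonoid.powers f)) ?_⟩
    rw [← hq, ← hq', ← PrimeSpectrum.comap_comp_apply, ← PrimeSpectrum.comap_comp_apply]
    exact congrArg (fun φ => PrimeSpectrum.comap φ q') π.comp_algebraMap
  obtain ⟨d, hd⟩ := lift_of_equalized b hC π
    (mem_single b π hflat ((HasRingHomProperty.Spec_iff (P := @LocallyOfFinitePresentation)).2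
      (RingHom.finitePresentation_algebraMap.2 inferInstance)) hsurj)
    (Q.obj.map (amap b (Algebra.ofId A Af)).op s) (P.obj.map (amap b j).op t' - i.hom.app _ (aSec b Bf β)) (by
      have h0 : g.hom.app _ (i.hom.app (op (ao b Bf)) (aSec b Bf β)) = 0 :=
        app_comp_zero (C := ShortComplex.mk i g w) _ _
      rw [map_sub, h0, sub_zero, NatTrans.naturality_apply g.hom (amap b j).op t', ht'', map_map, map_map,
        amap_comp, amap_comp]
      exact congrArg (fun φ => Q.obj.map (amap b φ).op s) (Subsingleton.elim _ _)) (by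
      have h1 : i.hom.app _ (aSec b _ (Units.map jj.toRingHom.toMonoidHom u)) =
          P.obj.map (amap b (jj.comp l)).op t' - P.obj.map (amap b (jj.comp r)).op t' := by
        rw [hnat, ha, map_sub, map_map, map_map, amap_comp, amap_comp]
      have e1 : jj.comp l = lf.comp j := by ext z; simp [jj, l, lf]
      have e2 : jj.comp r = rf.comp j := by ext z; simp [jj, r, rf]
      rw [e1, e2] at h1
      simp only [map_sub, map_map, amap_comp]
      rw [← hnat, ← hnat, hβ, aSec_mul, map_add, h1]
      abel)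
  exact ⟨f, hfx, d, hd⟩

/-- Sections lift near every prime. -/
theorem exists_lift_aff (s : Q.obj.obj (op (top b))) (x : PrimeSpectrum A) :
    ∃ (f : A) (_ : f ∉ x.asIdeal) (d : P.obj.obj (op (ao b (Localization.Away f)))),
      g.hom.app _ d = Q.obj.map (amap b (Algebra.ofId A (Localization.Away f))).op s := by
  classical
  haveI := hC.mono_f
  haveI : Epi g := hC.epi_g
  haveI : Sheaf.IsLocallySurjective g := (Sheaf.isLocallySurjective_iff_epi' AddCommGrpCat.{u + 1} g).2 inferInstance
  -- a lift on one faithfully flat algebra of finite presentation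
  obtain ⟨n, A', inst₁, inst₂, hff, hR', hsu₀, hfp⟩ : ∃ (n : ℕ) (A' : Fin n → Type u) (_ : ∀ k, CommRing (A' k))
      (_ : ∀ k, Algebra A (A' k)), (∀ k, Module.Flat A (A' k)) ∧
      (∀ k, Presheaf.imageSieve g.hom s (sm b (unitHom (A' k)))) ∧
      (∀ p : PrimeSpectrum A, ∃ (k : Fin n) (q : PrimeSpectrum (A' k)), q.comap (algebraMap A (A' k)) = p) ∧
      (∀ k, Algebra.FinitePresentation A (A' k)) := by
    obtain ⟨ι, Yf, gg, hg, hgR⟩ :=
      good_fppf.mem ((GrothendieckTopology.mem_over_iff _ _).1 (Presheaf.imageSieve_mem _ g.hom s))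
    obtain ⟨n, A', ψ, j, c, hcov, hfac⟩ := good_fppf.refine' gg hg (𝟙 (Spec (CommRingCat.of A)))
    letI inst : ∀ k, Algebra A (A' k) := fun k => (ψ k).hom.toAlgebra
    obtain ⟨hfl, hsu⟩ := good_fppf.flat A' ψ hcov
    refine ⟨n, fun k => A' k, inferInstance, inst, hfl, fun k => ?_, fun p => ?_, fun k => ?_⟩
    · have e := Sieve.overEquiv_symm_iff (Sieve.overEquiv (top b) (Presheaf.imageSieve g.hom s))
        (sm b (unitHom (A' k : Type u)))
      rw [show (Sieve.overEquiv (top b)).symm (Sieve.overEquiv (top b) (Presheaf.imageSieve g.hom s)) =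
        Presheaf.imageSieve g.hom s from (Sieve.overEquiv (top b)).left_inv _] at e
      refine e.2 ?_
      rw [show (sm b (unitHom (A' k : Type u))).left = c k ≫ gg (j k) from ((hfac k).trans (Category.comp_id _)).symm]
      exact Sieve.downward_closed _ (hgR (j k)) (c k)
    · obtain ⟨k, y, hy⟩ := hsu p
      exact ⟨k, y, hy⟩
    · have h : LocallyOfFinitePresentation (Spec.map (ψ k)) :=
        (((Scheme.ofArrows_mem_precoverage_iff _).1 hcov).2 k).2
      exact (HasRingHomProperty.Spec_iff (P := @LocallyOfFinitePresentation)).1 h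
  letI := inst₁
  letI := inst₂
  choose t ht using hR'
  obtain ⟨hmem, t', ht'⟩ := BigCohLib.exists_pi_glue P.property b A' t
  let B : Type u := ∀ k, A' k
  haveI : ∀ k, Module.Flat A (A' k) := hff
  haveI : Module.Flat A B := Module.Flat.of_linearEquiv (M := Π₀ k, A' k)
    (DFinsupp.linearEquivFunOnFintype (R := A) (M := fun k => A' k)).symm
  haveI : ∀ k, Algebra.FinitePresentation A (A' k) := hfp
  haveI : Algebra.FinitePresentation A B := inferInstance
  obtain ⟨hsu⟩ : Nonempty (∀ p : PrimeSpectrum A, ∃ q : PrimeSpectrum B, q.comap (algebraMap A B) = p) := ⟨fun p => by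
    obtain ⟨k, y, hy⟩ := hsu₀ p
    exact ⟨PrimeSpectrum.comap (Pi.evalRingHom A' k) y, hy⟩⟩
  haveI : Module.FaithfullyFlat A B := RingHom.faithfullyFlat_algebraMap_iff.1
    (RingHom.FaithfullyFlat.iff_flat_and_comap_surjective.2 ⟨RingHom.flat_algebraMap_iff.2 inferInstance, hsu⟩)
  have ht'' : g.hom.app _ t' = Q.obj.map (amap b (Algebra.ofId A B)).op s := by
    refine sub_eq_zero.1 (BigCohLib.p_eq_zero Q.property _ hmem _ fun k => ?_)
    rw [map_sub, sub_eq_zero]
    refine (NatTrans.naturality_apply g.hom _ t').symm.trans ?_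
    rw [ht', ht, ← ConcreteCategory.comp_apply, ← Functor.map_comp, ← op_comp, ← Functor.map_comp]
    rfl
  exact exists_lift_of_single b hC s x B t' ht''

/-- Sections lift on the members of a finite cover by basic opens. -/
theorem exists_lifts (s : Q.obj.obj (op (top b))) :
    ∃ (n : ℕ) (f : Fin n → A) (_ : Ideal.span (Set.range f) = ⊤)
      (d : ∀ k, P.obj.obj (op (ao b (L (f k))))),
      ∀ k, g.hom.app _ (d k) = Q.obj.map (amap b (Algebra.ofId A (L (f k)))).op s := by
  let T : Set A := {f | ∃ d : P.obj.obj (op (ao b (L f))),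
    g.hom.app _ d = Q.obj.map (amap b (Algebra.ofId A (L f))).op s}
  have hT : Ideal.span T = ⊤ := by
    by_contra h
    obtain ⟨m, hm, hle⟩ := Ideal.exists_le_maximal _ h
    obtain ⟨f, hf, d, hd⟩ := exists_lift_aff b hC s ⟨m, hm.isPrime⟩
    exact hf (hle (Ideal.subset_span ⟨d, hd⟩))
  obtain ⟨T', hT', h1⟩ := Submodule.mem_span_finite_of_mem_span ((Ideal.eq_top_iff_one _).1 hT)
  refine ⟨T'.card, fun k => (T'.equivFin.symm k : A), ?_,
    fun k => (hT' (T'.equivFin.symm k).2).choose, fun k => (hT' (T'.equivFin.symm k).2).choose_spec⟩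
  · rw [Ideal.eq_top_iff_one]
    refine Ideal.span_mono ?_ h1
    intro y hy
    exact ⟨T'.equivFin ⟨y, hy⟩, by simp⟩

variable {n : ℕ} {f : Fin n → A}

/-- The cocycle of a family of local lifts. -/
theorem exists_cocycle (s : Q.obj.obj (op (top b))) (d : ∀ k, P.obj.obj (op (ao b (L (f k)))))
    (hd : ∀ k, g.hom.app _ (d k) = Q.obj.map (amap b (Algebra.ofId A (L (f k)))).op s) :
    ∃ a : ∀ k l, (L (f k * f l))ˣ, IsCoc a ∧ ∀ k l, i.hom.app _ (aSec b _ (a k l)) =
      P.obj.map (amap b (ml (f k) (f l))).op (d k) - P.obj.map (amap b (mr (f k) (f l))).op (d l) := by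
  haveI := hC.mono_f
  have h : ∀ k l, ∃ v : (L (f k * f l))ˣ, i.hom.app _ (aSec b _ v) =
      P.obj.map (amap b (ml (f k) (f l))).op (d k) - P.obj.map (amap b (mr (f k) (f l))).op (d l) := fun k l => by
    obtain ⟨y, hy⟩ := exists_preimage_app hC _
      (P.obj.map (amap b (ml (f k) (f l))).op (d k) - P.obj.map (amap b (mr (f k) (f l))).op (d l)) (by
        show g.hom.app _ _ = 0
        rw [map_sub, NatTrans.naturality_apply g.hom (amap b (ml (f k) (f l))).op (d k),
          NatTrans.naturality_apply g.hom (amap b (mr (f k) (f l))).op (d l), hd, hd, map_map, map_map, amap_comp,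
          amap_comp, sub_eq_zero]
        exact congrArg (fun φ => Q.obj.map (amap b φ).op s) (Subsingleton.elim _ _))
    obtain ⟨v, rfl⟩ := (aSec_bijective b _).2 y
    exact ⟨v, hy⟩
  choose a ha using h
  refine ⟨a, fun p q r D _ _ hp hq hr => ?_, ha⟩
  have e : ∀ (k l : Fin n) (hk : IsUnit (algebraMap A D (f k))) (hl : IsUnit (algebraMap A D (f l))),
      i.hom.app _ (aSec b D (Units.map (lm (isUnit_mul hk hl)).toRingHom.toMonoidHom (a k l))) =
        P.obj.map (amap b (lm hk)).op (d k) - P.obj.map (amap b (lm hl)).op (d l) := fun k l hk hl => by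
    rw [← map_aSec]
    refine (NatTrans.naturality_apply i.hom (amap b (lm (isUnit_mul hk hl))).op _).trans ?_
    rw [ha, map_sub, map_map, map_map, amap_comp, amap_comp,
      hom_eq ((lm (isUnit_mul hk hl)).comp (ml (f k) (f l))) (lm hk),
      hom_eq ((lm (isUnit_mul hk hl)).comp (mr (f k) (f l))) (lm hl)]
  have key : Units.map (lm (isUnit_mul hp hq)).toRingHom.toMonoidHom (a p q) *
      Units.map (lm (isUnit_mul hq hr)).toRingHom.toMonoidHom (a q r) =
      Units.map (lm (isUnit_mul hp hr)).toRingHom.toMonoidHom (a p r) := by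
    refine (aSec_bijective b D).1 (injective_app i _ ?_)
    rw [aSec_mul, map_add, e p q hp hq, e q r hq hr, e p r hp hr]
    abel
  exact congrArg Units.val key

/-- A global lift from a coboundary. -/
theorem lift_of_isCob (hspan : Ideal.span (Set.range f) = ⊤) (s : Q.obj.obj (op (top b)))
    (d : ∀ k, P.obj.obj (op (ao b (L (f k)))))
    (hd : ∀ k, g.hom.app _ (d k) = Q.obj.map (amap b (Algebra.ofId A (L (f k)))).op s)
    {a : ∀ k l, (L (f k * f l))ˣ} (ha : ∀ k l, i.hom.app _ (aSec b _ (a k l)) =
      P.obj.map (amap b (ml (f k) (f l))).op (d k) - P.obj.map (amap b (mr (f k) (f l))).op (d l))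
    (hcob : IsCob a) : ∃ t : P.obj.obj (op (top b)), g.hom.app _ t = s := by
  obtain ⟨e, he⟩ := hcob
  let d' : ∀ k, P.obj.obj (op (ao b (L (f k)))) := fun k => d k - i.hom.app _ (aSec b _ (e k))
  have hd' : ∀ k l, P.obj.map (amap b (ml (f k) (f l))).op (d' k) = P.obj.map (amap b (mr (f k) (f l))).op (d' l) := by
    intro k l
    have he' : a k l * Units.map (mr (f k) (f l)).toRingHom.toMonoidHom (e l) =
        Units.map (ml (f k) (f l)).toRingHom.toMonoidHom (e k) := Units.ext (he k l)
    simp only [d', map_sub]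
    rw [← NatTrans.naturality_apply i.hom (amap b (ml (f k) (f l))).op,
      ← NatTrans.naturality_apply i.hom (amap b (mr (f k) (f l))).op, map_aSec, map_aSec, ← he', aSec_mul, map_add,
      ha k l]
    abel
  let cov : ∀ k, ao b (L (f k)) ⟶ top b := fun k => amap b (Algebra.ofId A (L (f k)))
  have hmem : Sieve.ofArrows _ cov ∈ QuotSh.J Scheme.fppfPrecoverage S (top b) := by
    refine ofArrows_mem cov ((Scheme.ofArrows_mem_precoverage_iff _).2 ⟨fun y => ?_, fun k => ?_⟩)
    · obtain ⟨k, hk⟩ : ∃ k, f k ∉ (y : PrimeSpectrum A).asIdeal := by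
        by_contra hne
        push Not at hne
        have : Ideal.span (Set.range f) ≤ (y : PrimeSpectrum A).asIdeal := Ideal.span_le.2 (by
          rintro _ ⟨k, rfl⟩; exact hne k)
        exact (y : PrimeSpectrum A).isPrime.ne_top (top_le_iff.1 (hspan ▸ this))
      obtain ⟨z, hz⟩ : (y : PrimeSpectrum A) ∈ Set.range (PrimeSpectrum.comap (algebraMap A (L (f k)))) := by
        rw [PrimeSpectrum.localization_away_comap_range (L (f k)) (f k)]; exact hk
      exact ⟨k, z, hz⟩
    · haveI : IsOpenImmersion (cov k).left := AlgebraicGeometry.IsOpenImmersion.of_isLocalization (S := L (f k)) (f k)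
      change (@Flat ⊓ @LocallyOfFinitePresentation : MorphismProperty Scheme.{u}) (cov k).left
      exact ⟨inferInstance, inferInstance⟩
  obtain ⟨t, ht⟩ := BigCohLib.p_glue P.property cov hmem d' fun k l Z p q hpq => by
    let e₀ : (A : Type u) →+* Γ(Z.left, ⊤) := ghom b (p ≫ cov k)
    letI : Algebra A Γ(Z.left, ⊤) := e₀.toAlgebra
    have hgp : ∀ (m : Fin n) (v : Z ⟶ ao b (L (f m))), v ≫ cov m = p ≫ cov k →
        IsUnit (algebraMap A Γ(Z.left, ⊤) (f m)) := fun m v hv => by
      have e1 : ghom b (C := Adeq.algOf A A) (p ≫ cov k) (f m) = ghom b v (algebraMap A (L (f m)) (f m)) := by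
        rw [← hv]; exact ghom_comp b v (am (A : Type u) (Algebra.ofId A (L (f m)))) (f m)
      exact e1.symm ▸ (IsLocalization.Away.algebraMap_isUnit (f m)).map (ghom b v)
    have hu := isUnit_mul (hgp k p rfl) (hgp l q hpq.symm)
    let z₀ : Z.left ⟶ (ao b (L (f k * f l))).left := Z.left.toSpecΓ ≫ Spec.map (CommRingCat.ofHom (lm hu).toRingHom)
    have hz : ∀ (m : Fin n) (φ : L (f m) →ₐ[A] L (f k * f l)) (v : Z ⟶ ao b (L (f m))), v ≫ cov m = p ≫ cov k →
        z₀ ≫ (amap b φ).left = v.left := fun m φ v hv => by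
      refine (Category.assoc _ _ _).trans ?_
      refine (congrArg (Z.left.toSpecΓ ≫ ·) (Spec.map_comp _ _).symm).trans ?_
      rw [eq_ghom b v]
      congr 2
      let fv : L (f m) →ₐ[A] Γ(Z.left, ⊤) :=
        { ghom b v with commutes' := fun r =>
            ((ghom_comp b v (am (A : Type u) (Algebra.ofId A (L (f m)))) r).symm.trans
              (congrArg (fun k' => ghom b (C := Adeq.algOf A A) k' r) hv)) }
      ext x
      exact apply_eq ((lm hu).comp φ) fv x
    let z : Z ⟶ ao b (L (f k * f l)) := Over.homMk z₀ (by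
      rw [← Over.w (amap b (ml (f k) (f l))), ← Category.assoc, hz k _ p rfl, Over.w p])
    have h1 : z ≫ amap b (ml (f k) (f l)) = p := Over.OverMorphism.ext (hz k _ p rfl)
    have h2 : z ≫ amap b (mr (f k) (f l)) = q := Over.OverMorphism.ext (hz l _ q hpq.symm)
    rw [← h1, ← h2, ← map_map, ← map_map, hd']
  refine ⟨t, sub_eq_zero.1 (BigCohLib.p_eq_zero Q.property cov hmem _ fun k => ?_)⟩
  rw [map_sub, sub_eq_zero]
  refine (NatTrans.naturality_apply g.hom _ t).symm.trans ?_
  rw [ht k, map_sub, hd]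
  have h0 : g.hom.app _ (i.hom.app (op (ao b (L (f k)))) (aSec b _ (e k))) = 0 :=
    app_comp_zero (C := ShortComplex.mk i g w) _ _
  rw [h0, sub_zero]

/-- The cocycle of a class killed by a natural number is, in that power, a coboundary. -/
theorem exists_pow_coboundary (s : Q.obj.obj (op (top b))) (d : ∀ k, P.obj.obj (op (ao b (L (f k)))))
    (hd : ∀ k, g.hom.app _ (d k) = Q.obj.map (amap b (Algebra.ofId A (L (f k)))).op s)
    {a : ∀ k l, (L (f k * f l))ˣ} (ha : ∀ k l, i.hom.app _ (aSec b _ (a k l)) =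
      P.obj.map (amap b (ml (f k) (f l))).op (d k) - P.obj.map (amap b (mr (f k) (f l))).op (d l))
    (m : ℕ) (hm : m • s = 0) :
    ∃ q : ∀ k, (L (f k))ˣ, ∀ k l, (a k l : L (f k * f l)) ^ m * mr (f k) (f l) (q l : L (f l)) =
      ml (f k) (f l) (q k : L (f k)) := by
  haveI := hC.mono_f
  have h : ∀ k, ∃ v : (L (f k))ˣ, i.hom.app _ (aSec b _ v) = m • d k := fun k => by
    obtain ⟨y, hy⟩ := exists_preimage_app hC _ (m • d k) (by
      show g.hom.app _ _ = 0
      rw [map_nsmul, hd, ← map_nsmul, hm, map_zero])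
    obtain ⟨v, rfl⟩ := (aSec_bijective b _).2 y
    exact ⟨v, hy⟩
  choose q hq using h
  refine ⟨q, fun k l => ?_⟩
  suffices hgoal : a k l ^ m * Units.map (mr (f k) (f l)).toRingHom.toMonoidHom (q l) =
      Units.map (ml (f k) (f l)).toRingHom.toMonoidHom (q k) by
    have := congrArg Units.val hgoal
    simpa using this
  refine (aSec_bijective b _).1 (injective_app i _ ?_)
  let φ : Multiplicative _ := Multiplicative.ofAdd (i.hom.app _ (aSec b (L (f k * f l)) (a k l)))
  have hpow : i.hom.app _ (aSec b (L (f k * f l)) (a k l ^ m)) = m • i.hom.app _ (aSec b _ (a k l)) := by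
    have := map_pow (MonoidHom.mk' (fun v : (L (f k * f l))ˣ => Multiplicative.ofAdd
      (i.hom.app (op (ao b (L (f k * f l)))) (aSec b _ v))) fun v v' => by
        rw [aSec_mul, map_add]; rfl) (a k l) m
    exact this
  rw [aSec_mul, map_add, hpow, ← map_aSec, ← map_aSec,
    NatTrans.naturality_apply i.hom (amap b (mr (f k) (f l))).op,
    NatTrans.naturality_apply i.hom (amap b (ml (f k) (f l))).op, hq, hq, ha, map_nsmul, map_nsmul, smul_sub]
  abel

end GmExtLib
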