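import Groth.Agent.GmExtLib.Poly
import Groth.Agent.GmExtLib.Lift
import Groth.Agent.GmExtLib.Frob

/-!
# The additive group over an affine base as an affine line
-/

set_option autoImplicit false
set_option maxHeartbeats 1600000
universe u

open CategoryTheory CategoryTheory.Limits AlgebraicGeometry Opposite MonObj MonoidalCategory CartesianMonoidalCategory
open AdeqLib AdeqModLib
open Groth.Agent

noncomputable section

namespace GmExtLib

variable {S : Scheme.{u}} {A : CommRingCat.{u}} (b : Spec A ⟶ S)

/-- Points of an affine object are determined by the base and the functions. -/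
theorem ao_hom_ext {Z : Over S} {C : Type u} [CommRing C] [Algebra A C] (p q : Z ⟶ ao b C)
    (h : ∀ x : C, ghom b p x = ghom b q x) : p = q := by
  refine Over.OverMorphism.ext ?_
  rw [eq_ghom b p, eq_ghom b q, RingHom.ext h]

/-- The functions of a composite with a map of affine objects. -/
theorem ghom_amap {Z : Over S} {C C' : Type u} [CommRing C] [Algebra A C] [CommRing C'] [Algebra A C']
    (p : Z ⟶ ao b C') (φ : C →ₐ[A] C') (x : C) : ghom b (p ≫ amap b φ) x = ghom b p (φ x) :=
  ghom_comp b p (am (A : Type u) φ) x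

variable (A) in
/-- The map to the base. -/
def toTop (Z : Over (Spec A)) : Z ⟶ top (𝟙 (Spec A)) :=
  Over.homMk Z.hom (by
    show Z.hom ≫ Spec.map (CommRingCat.ofHom (algebraMap A A)) ≫ 𝟙 _ = Z.hom
    rw [Algebra.algebraMap_self, CommRingCat.ofHom_id, Spec.map_id]
    exact (congrArg _ (Category.comp_id _)).trans (Category.comp_id _))

theorem toTop_unique {Z : Over (Spec A)} (p q : Z ⟶ top (𝟙 (Spec A))) : p = q := by
  refine Over.OverMorphism.ext ?_
  have hp : p.left ≫ Spec.map (CommRingCat.ofHom (algebraMap A A)) ≫ 𝟙 _ = Z.hom := Over.w p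
  have hq : q.left ≫ Spec.map (CommRingCat.ofHom (algebraMap A A)) ≫ 𝟙 _ = Z.hom := Over.w q
  rw [Algebra.algebraMap_self, CommRingCat.ofHom_id, Spec.map_id, Category.comp_id] at hp hq
  exact ((Category.comp_id _).symm.trans hp).trans (((Category.comp_id _).symm.trans hq)).symm

variable (A) in
/-- The additive group over an affine base is the affine line. -/
theorem exists_lineIso : ∃ e : ao (𝟙 (Spec A)) (Polynomial A) ≅ Red.Ga (Spec A),
    e.hom = gaP (𝟙 (Spec A)) (Polynomial A) Polynomial.X := by
  let b₀ := 𝟙 (Spec A)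
  obtain ⟨e, he⟩ := exists_ev₁ b₀ (toTop A _) (𝟙 (Red.Ga (Spec A)))
  refine ⟨⟨gaP b₀ _ Polynomial.X, e, ao_hom_ext b₀ _ _ fun x => ?_, he⟩, rfl⟩
  let fp := ghom b₀ (gaP b₀ (Polynomial A) Polynomial.X ≫ e)
  let fq := ghom b₀ (𝟙 (ao b₀ (Polynomial A)))
  suffices hs : fp = fq from congrArg (fun φ : Polynomial A →+* _ => φ x) hs
  refine Polynomial.ringHom_ext (fun r => ?_) ?_
  · show fp (algebraMap A (Polynomial A) r) = fq (algebraMap A (Polynomial A) r)
    refine (ghom_amap b₀ _ (Algebra.ofId A (Polynomial A)) r).symm.trans ?_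
    refine Eq.trans ?_ (ghom_amap b₀ _ (Algebra.ofId A (Polynomial A)) r)
    exact congrArg (fun k => ghom b₀ (C := Adeq.algOf A A) k r) (toTop_unique _ _)
  · have h1 : (gaP b₀ (Polynomial A) Polynomial.X ≫ e) ≫ gaP b₀ _ Polynomial.X =
        𝟙 (ao b₀ (Polynomial A)) ≫ gaP b₀ _ Polynomial.X := by
      rw [Category.assoc, he, Category.comp_id, Category.id_comp]
    have h2 := congrArg Red.gaFn h1
    rw [GaPts.gaFn_comp, GaPts.gaFn_comp, gaFn_gaP, appTop_eq_ghom b₀, appTop_eq_ghom b₀] at h2
    exact h2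

/-- The affine object of the base ring. -/
def topIso : top b ≅ Over.mk b :=
  Over.isoMk (Iso.refl _) (by
    show 𝟙 _ ≫ b = Spec.map (CommRingCat.ofHom (algebraMap A A)) ≫ b
    rw [Algebra.algebraMap_self, CommRingCat.ofHom_id, Spec.map_id]
    rfl)

theorem aoHom_eq (C : Type u) [CommRing C] [Algebra A C] :
    (ao b C).hom = Spec.map (CommRingCat.ofHom (algebraMap A C)) ≫ b := rfl

variable (A) in
/-- The line as the base of a change of rings. -/
def lineTop : top (Spec.map (CommRingCat.ofHom (Polynomial.C : (A : Type u) →+* Polynomial A))) ≅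
    ao (𝟙 (Spec A)) (Polynomial A) :=
  topIso _ ≪≫ Over.isoMk (Iso.refl _) (by
    rw [aoHom_eq, Polynomial.algebraMap_eq]
    exact (Category.id_comp _).trans (Category.comp_id _))

section push

variable {B : Type u} [CommRing B] {κ : Type*} {f : κ → B}

theorem pm_id (g : B) (x : L g) : pm (RingHom.id B) g x = x := by
  have e : pm (RingHom.id B) g = RingHom.id _ :=
    IsLocalization.ringHom_ext (Submonoid.powers g) (RingHom.ext fun y => pm_algebraMap _ g y)
  exact congrArg (fun φ : L g →+* L g => φ x) e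

theorem pm₂_id (g h : B) (x : L (g * h)) : pm₂ (RingHom.id B) g h x = x := by
  have e : pm₂ (RingHom.id B) g h = RingHom.id _ :=
    IsLocalization.ringHom_ext (Submonoid.powers (g * h)) (RingHom.ext fun y => pm₂_algebraMap _ g h y)
  exact congrArg (fun φ : L (g * h) →+* L (g * h) => φ x) e

theorem isCob_of_push (π : B →+* B) (hπ : π = RingHom.id B) {a : ∀ i j, (L (f i * f j))ˣ}
    (h : IsCob (f := fun i => π (f i)) (push π a)) : IsCob a := by
  subst hπ
  obtain ⟨e, he⟩ := h
  refine ⟨e, fun i j => ?_⟩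
  have := he i j
  rw [show ((push (RingHom.id B) a i j : (L (f i * f j))ˣ) : L (f i * f j)) = (a i j : L (f i * f j)) from
    pm₂_id _ _ _] at this
  exact this

end push

end GmExtLib
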