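import Groth.Agent.GmExtLib.Lift
import Groth.Agent.GmExtLib.Line
import Groth.Agent.H90Lib.Twist
import Groth.Agent.TwistLib.PullGen

/-!
# Lifting sections on schemes with trivial Picard group
-/

set_option autoImplicit false
set_option maxHeartbeats 1600000
universe u

open CategoryTheory CategoryTheory.Limits AlgebraicGeometry Opposite
open AdeqLib AdeqModLib
open AmpleLib (res GenOn)

noncomputable section

namespace GmExtLib

variable {S : Scheme.{u}} {T : Over S}

/-- An open as an object over the base. -/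
abbrev oT (W : T.left.Opens) : Over S := Over.mk (W.ι ≫ T.hom)

/-- The inclusion of an open. -/
abbrev oι (W : T.left.Opens) : oT W ⟶ T := Over.homMk W.ι rfl

/-- The inclusion of opens. -/
abbrev oh {W W' : T.left.Opens} (h : W ≤ W') : oT W ⟶ oT W' :=
  Over.homMk (T.left.homOfLE h) ((Category.assoc _ _ _).symm.trans (congrArg (· ≫ T.hom) (T.left.homOfLE_ι h)))

theorem oh_oι {W W' : T.left.Opens} (h : W ≤ W') : oh h ≫ oι W' = oι W :=
  Over.OverMorphism.ext (T.left.homOfLE_ι h)

theorem oh_oh {W W' W'' : T.left.Opens} (h : W ≤ W') (h' : W' ≤ W'') : oh h ≫ oh h' = oh (h.trans h') :=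
  Over.OverMorphism.ext (T.left.homOfLE_homOfLE h h')

/-- The section of the multiplicative group attached to a unit on an open. -/
def oSec (W : T.left.Opens) (r : Γ(T.left, W)ˣ) : (G S).obj.obj (op (oT W)) :=
  gSec (oT W) (Units.map W.topIso.inv.hom.toMonoidHom r)

theorem oSec_mul (W : T.left.Opens) (r r' : Γ(T.left, W)ˣ) : oSec W (r * r') = oSec W r + oSec W r' := by
  unfold oSec
  exact (congrArg (gSec (oT W)) (map_mul _ r r')).trans (gSec_mul (oT W) _ _)

theorem oSec_bijective (W : T.left.Opens) : Function.Bijective (oSec W) :=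
  (gSec_bijective _).comp (Units.mapEquiv W.topIso.symm.commRingCatIsoToRingEquiv.toMulEquiv).bijective

theorem map_oSec {W W' : T.left.Opens} (h : W ≤ W') (r : Γ(T.left, W')ˣ) :
    (G S).obj.map (oh h).op (oSec W' r) =
      oSec W (Units.map (T.left.presheaf.map (homOfLE h).op).hom.toMonoidHom r) := by
  refine (map_gSec _ _).trans (congrArg (gSec (oT W)) (Units.ext ?_))
  have e : W'.topIso.inv ≫ (T.left.homOfLE h).appTop = T.left.presheaf.map (homOfLE h).op ≫ W.topIso.inv := by
    rw [Scheme.homOfLE_appTop]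
    show T.left.presheaf.map _ ≫ T.left.presheaf.map _ = T.left.presheaf.map _ ≫ T.left.presheaf.map _
    rw [← Functor.map_comp, ← Functor.map_comp]
    rfl
  exact congrArg (fun k : Γ(T.left, W') ⟶ Γ((oT W).left, ⊤) => k (r : Γ(T.left, W'))) e

/-- Opens cover. -/
theorem oι_mem {κ : Type*} (W : κ → T.left.Opens) (hW : ∀ y, ∃ k, y ∈ W k) :
    Sieve.ofArrows (fun k => oT (W k)) (fun k => oι (W k)) ∈ QuotSh.J Scheme.fppfPrecoverage S T := by
  refine ofArrows_mem _ ((Scheme.ofArrows_mem_precoverage_iff _).2 ⟨fun y => ?_, fun k => ?_⟩)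
  · obtain ⟨k, hk⟩ := hW y
    exact ⟨k, ⟨y, hk⟩, rfl⟩
  · change (@Flat ⊓ @LocallyOfFinitePresentation : MorphismProperty Scheme.{u}) (W k).ι
    exact ⟨inferInstance, inferInstance⟩

variable {P Q : BigSite.Ab Scheme.fppfPrecoverage S} {i : G S ⟶ P} {g : P ⟶ Q} {w : i ≫ g = 0}

/-- Sections lift Zariski locally. -/
theorem exists_lift_open (hC : (ShortComplex.mk i g w).ShortExact) (σ : Q.obj.obj (op T)) (y : T.left) :
    ∃ W : T.left.Opens, y ∈ W ∧ ∃ d, g.hom.app (op (oT W)) d = Q.obj.map (oι W).op σ := by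
  obtain ⟨_, ⟨U, hU, rfl⟩, hyU, -⟩ := T.left.isBasis_affineOpens.exists_subset_of_mem_open
    (Set.mem_univ y) isOpen_univ
  let b := hU.fromSpec ≫ T.hom
  let k₀ : Over.mk b ⟶ T := Over.homMk hU.fromSpec rfl
  let x := hU.primeIdealOf ⟨y, hyU⟩
  obtain ⟨f, hfx, d, hd⟩ := exists_lift_aff b hC (Q.obj.map ((topIso b).hom ≫ k₀).op σ) x
  let j : ao b (Localization.Away f) ⟶ T := amap b (Algebra.ofId Γ(T.left, U) (Localization.Away f)) ≫ (topIso b).hom ≫ k₀
  have hj : j.left = Spec.map (CommRingCat.ofHom (algebraMap Γ(T.left, U) (Localization.Away f))) ≫ hU.fromSpec := by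
    show Spec.map (CommRingCat.ofHom (algebraMap Γ(T.left, U) (Localization.Away f))) ≫ 𝟙 _ ≫ hU.fromSpec = _
    rw [Category.id_comp]
  have hO : IsOpenImmersion (Spec.map (CommRingCat.ofHom (algebraMap Γ(T.left, U) (Localization.Away f)))) :=
    AlgebraicGeometry.IsOpenImmersion.of_isLocalization f
  haveI := hU.isOpenImmersion_fromSpec
  haveI hoi : IsOpenImmersion j.left := by rw [hj]; exact @IsOpenImmersion.comp _ _ _ _ _ hO hU.isOpenImmersion_fromSpec
  have hy : y ∈ j.left.opensRange := by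
    obtain ⟨z, hz⟩ : (x : PrimeSpectrum _) ∈ Set.range (PrimeSpectrum.comap (algebraMap Γ(T.left, U)
        (Localization.Away f))) := by
      rw [PrimeSpectrum.localization_away_comap_range (Localization.Away f) f]; exact hfx
    refine ⟨z, ?_⟩
    rw [hj]
    show hU.fromSpec (PrimeSpectrum.comap (algebraMap Γ(T.left, U) (Localization.Away f)) z) = y
    rw [hz]
    exact hU.fromSpec_primeIdealOf ⟨y, hyU⟩
  let θ : oT j.left.opensRange ⟶ ao b (Localization.Away f) := Over.homMk j.left.isoOpensRange.inv (by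
    show j.left.isoOpensRange.inv ≫ (ao b (Localization.Away f)).hom = j.left.opensRange.ι ≫ T.hom
    rw [Iso.inv_comp_eq, Scheme.Hom.isoOpensRange_hom_ι_assoc]
    exact (Over.w j).symm)
  refine ⟨j.left.opensRange, hy, P.obj.map θ.op d, ?_⟩
  have e : θ ≫ j = oι j.left.opensRange := by
    refine Over.OverMorphism.ext ?_
    show j.left.isoOpensRange.inv ≫ j.left = j.left.opensRange.ι
    rw [Iso.inv_comp_eq, Scheme.Hom.isoOpensRange_hom_ι]
  rw [NatTrans.naturality_apply g.hom θ.op d, hd, map_map, map_map, ← e]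
  simp only [j, Category.assoc]

/-- Sections lift when every invertible module is trivial. -/
theorem exists_lift_of_pic (hPic : ∀ M : T.left.Modules, PicF.IsInvertible M → Nonempty (M ≅ Coh.structureModule T.left))
    (hC : (ShortComplex.mk i g w).ShortExact) (σ : Q.obj.obj (op T)) :
    ∃ t : P.obj.obj (op T), g.hom.app _ t = σ := by
  haveI := hC.mono_f
  choose U hxU b hb using fun y => exists_lift_open hC σ y
  let rm := fun {W W' : T.left.Opens} (h : W ≤ W') =>
    Units.map (T.left.presheaf.map (homOfLE h).op).hom.toMonoidHom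
  have hu : ∀ x y, ∃ a : Γ(T.left, U x ⊓ U y)ˣ, i.hom.app _ (oSec _ a) =
      P.obj.map (oh inf_le_right).op (b y) - P.obj.map (oh inf_le_left).op (b x) := fun x y => by
    obtain ⟨v, hv⟩ := exists_preimage_app hC _
      (P.obj.map (oh inf_le_right).op (b y) - P.obj.map (oh (inf_le_left : U x ⊓ U y ≤ U x)).op (b x)) (by
        show g.hom.app _ _ = 0
        rw [map_sub, NatTrans.naturality_apply g.hom (oh (inf_le_right : U x ⊓ U y ≤ U y)).op (b y),
          NatTrans.naturality_apply g.hom (oh (inf_le_left : U x ⊓ U y ≤ U x)).op (b x), hb, hb, map_map, map_map,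
          oh_oι, oh_oι, sub_self])
    obtain ⟨a, rfl⟩ := (oSec_bijective _).2 v
    exact ⟨a, hv⟩
  choose a ha using hu
  have hnat : ∀ {W W' : T.left.Opens} (h : W ≤ W') (r : Γ(T.left, W')ˣ),
      i.hom.app _ (oSec W (rm h r)) = P.obj.map (oh h).op (i.hom.app _ (oSec W' r)) := fun h r => by
    rw [← map_oSec]
    exact NatTrans.naturality_apply i.hom (oh h).op _
  have hinj : ∀ (W : T.left.Opens) (r r' : Γ(T.left, W)ˣ), i.hom.app _ (oSec W r) = i.hom.app _ (oSec W r') → r = r' :=
    fun W r r' h => (oSec_bijective W).1 (injective_app i _ h)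
  have haa : ∀ x, a x x = 1 := fun x => hinj _ _ _ (by
    have h1 := oSec_mul (U x ⊓ U x) 1 1
    rw [mul_one] at h1
    have h2 : oSec (U x ⊓ U x) 1 = 0 := add_left_cancel (h1.symm.trans (add_zero _).symm)
    rw [ha, h2, map_zero, sub_eq_zero])
  have hcoc : ∀ x y z, rm (inf_le_left : (U x ⊓ U y) ⊓ U z ≤ U x ⊓ U y) (a x y) *
      rm (inf_le_inf_right (U z) inf_le_right : (U x ⊓ U y) ⊓ U z ≤ U y ⊓ U z) (a y z) =
      rm (inf_le_inf_right (U z) inf_le_left : (U x ⊓ U y) ⊓ U z ≤ U x ⊓ U z) (a x z) := fun x y z => hinj _ _ _ (by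
    rw [oSec_mul, map_add, hnat, hnat, hnat, ha, ha, ha]
    simp only [map_sub, map_map, oh_oh]
    abel)
  obtain ⟨M, hM, e, he, heC⟩ := H90Lib.exists_twist (V := U) (C := fun x y => (a x y : Γ(T.left, U x ⊓ U y)))
    (fun y => ⟨y, hxU y⟩) (fun x => by rw [haa]; rfl) (fun x y z => congrArg Units.val (hcoc x y z))
  obtain ⟨τ⟩ := hPic M hM
  obtain ⟨f, hf⟩ : ∃ f : Γ(M, (⊤ : T.left.Opens)), GenOn M f :=
    ⟨τ.inv.app ⊤ (show Γ(Coh.structureModule T.left, ⊤) from (1 : Γ(T.left, ⊤))), fun V hV => by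
      have h1 : ∀ r : Γ(T.left, V), r • res M hV (τ.inv.app ⊤ (show Γ(Coh.structureModule T.left, ⊤) from
          (1 : Γ(T.left, ⊤)))) = τ.inv.app V (show Γ(Coh.structureModule T.left, V) from r) := fun r => by
        refine Eq.trans ?_ (congrArg (τ.inv.app V) (show (r • res (Coh.structureModule T.left) hV
          (show Γ(Coh.structureModule T.left, ⊤) from (1 : Γ(T.left, ⊤)))) = r from
            ((congrArg (r * ·) (map_one (T.left.presheaf.map (homOfLE hV).op).hom)).trans (mul_one r))))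
        rw [QCohLib.app_smul]
        exact congrArg (r • ·) (QCohLib.app_map τ.inv (homOfLE hV) _).symm
      simp only [h1]
      exact ConcreteCategory.bijective_of_isIso (τ.inv.app V)⟩
  choose r hr using fun x => (hf (U x) le_top).2 (e x)
  dsimp only at hr
  have hru : ∀ x, IsUnit (r x) := fun x => by
    obtain ⟨r', hr'⟩ := (he x (U x) le_rfl).2 (res M le_top f)
    dsimp only at hr'
    rw [AmpleLib.res_refl] at hr'
    refine IsUnit.of_mul_eq_one r' ((hf (U x) le_top).1 ?_)
    show (r x * r') • res M le_top f = (1 : Γ(T.left, U x)) • res M le_top f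
    rw [one_smul, mul_comm, mul_smul, hr, hr']
  have hq : ∀ x y, rm (inf_le_left : U x ⊓ U y ≤ U x) (hru x).unit =
      a x y * rm (inf_le_right : U x ⊓ U y ≤ U y) (hru y).unit := fun x y => by
    refine Units.ext ((hf _ le_top).1 ?_)
    dsimp only
    have h1 := heC x y
    rw [← hr x, ← hr y, AmpleLib.res_smul, AmpleLib.res_smul, AmpleLib.res_res, AmpleLib.res_res, smul_smul] at h1
    exact h1
  let b' : ∀ x, P.obj.obj (op (oT (U x))) := fun x => b x + i.hom.app _ (oSec _ (hru x).unit)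
  have hmem := oι_mem U fun y => ⟨y, hxU y⟩
  obtain ⟨t, ht⟩ := BigCohLib.p_glue P.property (fun k => oι (U k)) hmem b' fun x y Z p q hpq => by
    have hl := congrArg CommaMorphism.left hpq
    let z₀ : Z.left ⟶ (U x ⊓ U y).toScheme := IsOpenImmersion.lift (U x ⊓ U y).ι (p.left ≫ (U x).ι) (by
      rw [Scheme.Opens.range_ι]
      rintro _ ⟨v, rfl⟩
      refine ⟨(p.left v).2, ?_⟩
      show (p.left ≫ (U x).ι) v ∈ U y
      rw [show p.left ≫ (U x).ι = q.left ≫ (U y).ι from hl]
      exact (q.left v).2)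
    have hz : z₀ ≫ (U x ⊓ U y).ι = p.left ≫ (U x).ι := IsOpenImmersion.lift_fac _ _ _
    let z : Z ⟶ oT (U x ⊓ U y) := Over.homMk z₀ (by
      show z₀ ≫ (U x ⊓ U y).ι ≫ T.hom = Z.hom
      rw [reassoc_of% hz]
      exact Over.w p)
    have e1 : z ≫ oh (inf_le_left : U x ⊓ U y ≤ U x) = p := Over.OverMorphism.ext ((cancel_mono (U x).ι).1 (by
      show (z₀ ≫ T.left.homOfLE (inf_le_left : U x ⊓ U y ≤ U x)) ≫ (U x).ι = _
      rw [Category.assoc, Scheme.homOfLE_ι, hz]))
    have e2 : z ≫ oh (inf_le_right : U x ⊓ U y ≤ U y) = q := Over.OverMorphism.ext ((cancel_mono (U y).ι).1 (by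
      show (z₀ ≫ T.left.homOfLE (inf_le_right : U x ⊓ U y ≤ U y)) ≫ (U y).ι = _
      rw [Category.assoc, Scheme.homOfLE_ι, hz]
      exact hl))
    rw [← e1, ← e2, ← map_map, ← map_map]
    refine congrArg _ ?_
    simp only [b', map_add, ← hnat]
    rw [hq x y, oSec_mul, map_add, ha]
    abel
  refine ⟨t, sub_eq_zero.1 (BigCohLib.p_eq_zero Q.property (fun k => oι (U k)) hmem _ fun k => ?_)⟩
  rw [map_sub, sub_eq_zero]
  refine (NatTrans.naturality_apply g.hom (oι (U k)).op t).symm.trans ?_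
  rw [ht k, map_add, hb]
  have h0 : g.hom.app _ (i.hom.app (op (oT (U k))) (oSec _ (hru k).unit)) = 0 :=
    app_comp_zero (C := ShortComplex.mk i g w) _ _
  rw [h0, add_zero]

end GmExtLib
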