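import Groth.Agent.GmExtLib.ExtShZero
import Groth.Agent.GmExtLib.PicLift
import Groth.Agent.PicUFDLib.Main
import Mathlib.Algebra.MvPolynomial.Nilpotent

/-!
# Lifting homomorphisms out of the additive group over a field
-/

set_option autoImplicit false
set_option maxHeartbeats 1600000
universe u

open CategoryTheory CategoryTheory.Limits AlgebraicGeometry Opposite
open AdeqLib AdeqModLib

noncomputable section

namespace GmExtLib

variable {S : Scheme.{u}}

local notation "Jf" => QuotSh.J Scheme.fppfPrecoverage S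

/-- Invertible modules on the spectrum of a factorial domain are trivial. -/
theorem pic_of_ufd (R : CommRingCat.{u}) [IsDomain R] [UniqueFactorizationMonoid R] (M : (Spec R).Modules)
    (hM : PicF.IsInvertible M) : Nonempty (M ≅ Coh.structureModule (Spec R)) := by
  haveI : UniqueFactorizationMonoid Γ(Spec R, ⊤) :=
    MulEquiv.uniqueFactorizationMonoid (Scheme.ΓSpecIso R).symm.commRingCatIsoToRingEquiv.toMulEquiv inferInstance
  obtain ⟨σ, hσ⟩ := PicUFDLib.exists_genOn_of_ufd ⊤ M fun x _ => by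
    obtain ⟨O, g, hxO, hg⟩ := TwistLib.exists_genOn hM x
    exact ⟨O, hxO, le_top, g, hg⟩
  haveI := AmpleLib.isIso_unitHom σ hσ
  exact ⟨(asIso (QCohLib.unitHom M σ)).symm⟩

open MvPolynomial in
/-- Over a field a homomorphism out of the additive group into a quotient by the multiplicative group lifts locally. -/
theorem imageSieve_mem_Ga_field {A : CommRingCat.{u}} (hA : IsField A) (b : Spec A ⟶ S)
    {P Q : BigSite.Ab Scheme.fppfPrecoverage S} {i : G S ⟶ P} {g : P ⟶ Q} {w : i ≫ g = 0}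
    (hC : (ShortComplex.mk i g w).ShortExact)
    (ψ : (CGrpSh2.Ga Scheme.fppfPrecoverage S).over (top b) ⟶ Q.over (top b)) :
    Presheaf.imageSieve (HomSh.homShMap Jf (𝟙 (CGrpSh2.Ga Scheme.fppfPrecoverage S)) g).hom ψ ∈ Jf (top b) := by
  letI := hA.toField
  have hpic : ∀ M : (ao b (Polynomial A)).left.Modules, PicF.IsInvertible M →
      Nonempty (M ≅ Coh.structureModule (ao b (Polynomial A)).left) := fun M hM =>
    pic_of_ufd (CommRingCat.of (Polynomial A)) M hM
  obtain ⟨t, ht⟩ := exists_lift_of_pic hpic hC (val ψ (toBase b (Polynomial A) ≫ 𝟙 _) (gaP b (Polynomial A) Polynomial.X))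
  obtain ⟨A₂, π₂, _, _, _, ψ', hψ'⟩ := exists_additive_stage_of_split b hC (fun h hu h0 _ _ => by
    refine ⟨A, inferInstance, Algebra.id A, GaDualLib.IsFfp.self A, 1, isUnit_one, ?_⟩
    have h1 : h = 1 := by
      obtain ⟨r, -, hr⟩ := MvPolynomial.isUnit_iff_eq_C_of_isReduced.1 hu
      rw [hr, MvPolynomial.aeval_C, MvPolynomial.algebraMap_eq] at h0
      exact hr.trans h0
    simp [h1]) (𝟙 _) ψ t ht
  let k₂ : top (Spec.map π₂ ≫ b) ⟶ top b := chg b (Spec.map π₂ ≫ b) π₂ rfl π₂.hom fun _ => rfl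
  have hcov : Sieve.ofArrows (fun _ : PUnit.{1} => top (Spec.map π₂ ≫ b)) (fun _ => k₂) ∈ Jf (top b) := by
    haveI : @IsIso _ _ _ (Spec A₂) (𝟙 (top (Spec.map π₂ ≫ b)).left) := IsIso.id (top (Spec.map π₂ ≫ b)).left
    exact mem_chg b π₂ k₂ (𝟙 _) (Category.id_comp _).symm
  refine GrothendieckTopology.superset_covering _ ?_ hcov
  rw [Sieve.ofArrows, Sieve.generate_le_iff]
  rintro _ _ ⟨⟩
  refine ⟨ψ', Sheaf.hom_ext (NatTrans.ext (funext fun W' => AddCommGrpCat.ext fun y => ?_))⟩
  show g.hom.app (op W'.unop.left) (val ψ' W'.unop.hom y.down.toMul) = val ψ (W'.unop.hom ≫ k₂) y.down.toMul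
  rw [hψ', Category.comp_id]

end GmExtLib
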