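import Groth.Agent.GmExtLib.Ext1
import Groth.Agent.GaGmKerLib.GaPts
import Mathlib.Algebra.MvPolynomial.Basic

/-!
# Points of the additive and multiplicative groups with values in affine objects
-/

set_option autoImplicit false
set_option maxHeartbeats 1600000
universe u

open CategoryTheory CategoryTheory.Limits AlgebraicGeometry Opposite MonObj MonoidalCategory CartesianMonoidalCategory
open AdeqLib AdeqModLib
open Groth.Agent

noncomputable section

namespace GmExtLib

variable {S : Scheme.{u}} {A : CommRingCat.{u}} (b : Spec A ⟶ S)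

/-- The function ring of an affine object. -/
abbrev fn (C : Type u) [CommRing C] [Algebra A C] : C →+* Γ((ao b C).left, ⊤) :=
  (Scheme.ΓSpecIso (CommRingCat.of C)).inv.hom

theorem fn_bijective (C : Type u) [CommRing C] [Algebra A C] : Function.Bijective (fn b C) :=
  (Scheme.ΓSpecIso (CommRingCat.of C)).symm.commRingCatIsoToRingEquiv.bijective

theorem appTop_fn {C C' : Type u} [CommRing C] [Algebra A C] [CommRing C'] [Algebra A C'] (φ : C →ₐ[A] C') (x : C) :
    (amap b φ).left.appTop (fn b C x) = fn b C' (φ x) :=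
  (congr($(Scheme.ΓSpecIso_inv_naturality (CommRingCat.ofHom φ.toRingHom)) x)).symm

theorem appTop_eq_ghom {Z : Over S} {C : Type u} [CommRing C] [Algebra A C] (e : Z ⟶ ao b C) (x : C) :
    e.left.appTop (fn b C x) = ghom b e x := rfl

/-- The point of the additive group attached to an element. -/
def gaP (C : Type u) [CommRing C] [Algebra A C] (x : C) : ao b C ⟶ Red.Ga S := GaPts.ptOf (fn b C x)

theorem gaFn_gaP (C : Type u) [CommRing C] [Algebra A C] (x : C) : Red.gaFn (gaP b C x) = fn b C x :=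
  GaPts.gaFn_ptOf _

theorem amap_gaP {C C' : Type u} [CommRing C] [Algebra A C] [CommRing C'] [Algebra A C'] (φ : C →ₐ[A] C') (x : C) :
    amap b φ ≫ gaP b C x = gaP b C' (φ x) := by
  refine GaPts.gaFn_injective ?_
  show Red.gaFn _ = Red.gaFn _
  rw [GaPts.gaFn_comp, gaFn_gaP, gaFn_gaP, appTop_fn]

theorem gaP_add (C : Type u) [CommRing C] [Algebra A C] (x y : C) :
    gaP b C x * gaP b C y = gaP b C (x + y) := by
  refine GaPts.gaFn_injective ?_
  show Red.gaFn _ = Red.gaFn _
  rw [GaPts.gaFn_mul, gaFn_gaP, gaFn_gaP, gaFn_gaP, map_add]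

theorem gaP_zero (C : Type u) [CommRing C] [Algebra A C] : gaP b C 0 = 1 := by
  refine GaPts.gaFn_injective ?_
  show Red.gaFn _ = Red.gaFn _
  rw [gaFn_gaP, map_zero, GaPts.gaFn_one]

/-- The point of the multiplicative group attached to a unit. -/
def gmP (C : Type u) [CommRing C] [Algebra A C] (v : Cˣ) : ao b C ⟶ Red.Gm S :=
  GmPts.ptOfUnit (Units.map (fn b C).toMonoidHom v)

theorem gmFn_gmP (C : Type u) [CommRing C] [Algebra A C] (v : Cˣ) : Red.gmFn (gmP b C v) = fn b C v :=
  GmPts.gmFn_ptOfUnit _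

theorem amap_gmP {C C' : Type u} [CommRing C] [Algebra A C] [CommRing C'] [Algebra A C'] (φ : C →ₐ[A] C') (v : Cˣ) :
    amap b φ ≫ gmP b C v = gmP b C' (Units.map φ.toRingHom.toMonoidHom v) := by
  refine GmPts.gmFn_injective ?_
  show Red.gmFn _ = Red.gmFn _
  rw [GmPts.gmFn_comp, gmFn_gmP, gmFn_gmP, appTop_fn]
  rfl

theorem gmP_mul (C : Type u) [CommRing C] [Algebra A C] (v w : Cˣ) :
    gmP b C v * gmP b C w = gmP b C (v * w) := by
  refine GmPts.gmFn_injective ?_
  show Red.gmFn _ = Red.gmFn _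
  rw [GmPts.gmFn_mul, gmFn_gmP, gmFn_gmP, gmFn_gmP, Units.val_mul, map_mul]

theorem gmP_one (C : Type u) [CommRing C] [Algebra A C] : gmP b C 1 = 1 := by
  refine GmPts.gmFn_injective ?_
  show Red.gmFn _ = Red.gmFn _
  rw [gmFn_gmP, GmPts.gmFn_one, Units.val_one, map_one]

theorem gmP_injective (C : Type u) [CommRing C] [Algebra A C] : Function.Injective (gmP b C) := fun v w h =>
  Units.ext ((fn_bijective b C).1 ((gmFn_gmP b C v).symm.trans ((congrArg Red.gmFn h).trans (gmFn_gmP b C w))))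

theorem exists_gmP (C : Type u) [CommRing C] [Algebra A C] (t : ao b C ⟶ Red.Gm S) : ∃ v : Cˣ, gmP b C v = t := by
  obtain ⟨x, hx⟩ := (fn_bijective b C).2 (Red.gmFn t)
  have hu : IsUnit x := by
    have h := (hx ▸ GmPts.isUnit_gmFn t : IsUnit (fn b C x))
    have h2 := h.map (RingEquiv.ofBijective _ (fn_bijective b C)).symm
    rwa [show (RingEquiv.ofBijective _ (fn_bijective b C)).symm (fn b C x) = x from
      RingEquiv.symm_apply_apply (RingEquiv.ofBijective _ (fn_bijective b C)) x] at h2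
  refine ⟨hu.unit, GmPts.gmFn_injective ?_⟩
  show Red.gmFn _ = Red.gmFn _
  rw [gmFn_gmP, IsUnit.unit_spec, hx]

theorem exists_gaP (C : Type u) [CommRing C] [Algebra A C] (t : ao b C ⟶ Red.Ga S) : ∃ x : C, gaP b C x = t := by
  obtain ⟨x, hx⟩ := (fn_bijective b C).2 (Red.gaFn t)
  exact ⟨x, GaPts.gaFn_injective (show Red.gaFn _ = Red.gaFn _ by rw [gaFn_gaP, hx])⟩

/-- The algebra of functions of an object over the affine base. -/
abbrev zAlg {Z : Over S} (z : Z ⟶ top b) : Algebra A Γ(Z.left, ⊤) := (ghom b z).toAlgebra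

/-- The map to an affine object attached to an algebra map. -/
theorem exists_toAo {Z : Over S} (z : Z ⟶ top b) {C : Type u} [CommRing C] [Algebra A C]
    (φ : C →+* Γ(Z.left, ⊤)) (hφ : ∀ r : A, φ (algebraMap A C r) = ghom b z r) :
    ∃ e : Z ⟶ ao b C, ∀ x, e.left.appTop (fn b C x) = φ x := by
  let w₀ : Z.left ⟶ (ao b C).left := Z.left.toSpecΓ ≫ Spec.map (CommRingCat.ofHom φ)
  have hw : w₀ ≫ (amap b (Algebra.ofId A C)).left = z.left := by
    refine (Category.assoc _ _ _).trans ?_
    refine (congrArg (Z.left.toSpecΓ ≫ ·) (Spec.map_comp _ _).symm).trans ?_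
    rw [eq_ghom b z]
    congr 2
    ext r
    exact hφ r
  let e : Z ⟶ ao b C := Over.homMk w₀ (by
    rw [← Over.w (amap b (Algebra.ofId A C)), ← Category.assoc, hw, Over.w z])
  refine ⟨e, fun x => ?_⟩
  have h := eq_ghom b e
  have h2 : CommRingCat.ofHom φ = CommRingCat.ofHom (ghom b e) := specHom_injective _ _ (h ▸ rfl)
  exact (congrArg (fun k : CommRingCat.of C ⟶ Γ(Z.left, ⊤) => k x) h2).symm

open MvPolynomial in
/-- A tuple of points of the additive group over the affine base comes from the universal tuple. -/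
theorem exists_ev {Z : Over S} (z : Z ⟶ top b) {n : ℕ} (x : Fin n → (Z ⟶ Red.Ga S)) :
    ∃ e : Z ⟶ ao b (MvPolynomial (Fin n) A), ∀ k, e ≫ gaP b _ (X k) = x k := by
  letI := zAlg b z
  obtain ⟨e, he⟩ := exists_toAo b z (C := MvPolynomial (Fin n) A)
    (MvPolynomial.aeval (R := (A : Type u)) fun k => Red.gaFn (x k)).toRingHom fun r => by
      exact (MvPolynomial.aeval (R := (A : Type u)) fun k => Red.gaFn (x k)).commutes r
  refine ⟨e, fun k => GaPts.gaFn_injective ?_⟩
  show Red.gaFn _ = Red.gaFn _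
  rw [GaPts.gaFn_comp, gaFn_gaP, he]
  exact MvPolynomial.aeval_X _ k

/-- A point of the additive group over the affine base comes from the coordinate of the line. -/
theorem exists_ev₁ {Z : Over S} (z : Z ⟶ top b) (x : Z ⟶ Red.Ga S) :
    ∃ e : Z ⟶ ao b (Polynomial A), e ≫ gaP b _ Polynomial.X = x := by
  letI := zAlg b z
  obtain ⟨e, he⟩ := exists_toAo b z (C := Polynomial A)
    (Polynomial.aeval (R := (A : Type u)) (Red.gaFn x)).toRingHom fun r =>
      (Polynomial.aeval (R := (A : Type u)) (Red.gaFn x)).commutes r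
  refine ⟨e, GaPts.gaFn_injective ?_⟩
  show Red.gaFn _ = Red.gaFn _
  rw [GaPts.gaFn_comp, gaFn_gaP, he]
  exact Polynomial.aeval_X _

open MvPolynomial in
/-- The polynomial of a symmetric cocycle on the additive group. -/
theorem exists_cocPoly {c : Red.Ga S ⊗ Red.Ga S ⟶ Red.Gm S} (hc : IsSymCoc c) :
    ∃ h : (MvPolynomial (Fin 2) A)ˣ,
      lift (gaP b (MvPolynomial (Fin 2) A) (X 0)) (gaP b _ (X 1)) ≫ c = gmP b _ h ∧
      aeval ![(X 0 : MvPolynomial (Fin 2) A), 0] (h : MvPolynomial (Fin 2) A) = 1 ∧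
      aeval ![(X 1 : MvPolynomial (Fin 2) A), X 0] (h : MvPolynomial (Fin 2) A) = h ∧
      aeval ![(X 1 : MvPolynomial (Fin 3) A), X 2] (h : MvPolynomial (Fin 2) A) *
          aeval ![X 0, X 1 + X 2] (h : MvPolynomial (Fin 2) A) =
        aeval ![X 0 + X 1, X 2] (h : MvPolynomial (Fin 2) A) * aeval ![X 0, X 1] (h : MvPolynomial (Fin 2) A) := by
  obtain ⟨h, hh⟩ := exists_gmP b (MvPolynomial (Fin 2) A) (lift (gaP b _ (X 0)) (gaP b _ (X 1)) ≫ c)
  have key : ∀ {C : Type u} [CommRing C] [Algebra A C] (u v : C),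
      lift (gaP b C u) (gaP b C v) ≫ c = gmP b C (Units.map (aeval ![u, v]).toRingHom.toMonoidHom h) := fun u v => by
    rw [← amap_gmP, hh, comp_lift_assoc, amap_gaP, amap_gaP, aeval_X, aeval_X]
    rfl
  refine ⟨h, hh.symm, ?_, ?_, ?_⟩
  · have h1 := hc.norm _ (gaP b (MvPolynomial (Fin 2) A) (X 0))
    rw [← gaP_zero, key, ← gmP_one b] at h1
    exact congrArg Units.val (gmP_injective b _ h1)
  · have h1 := hc.symm _ (gaP b (MvPolynomial (Fin 2) A) (X 1)) (gaP b _ (X 0))
    rw [key, ← hh] at h1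
    exact congrArg Units.val (gmP_injective b _ h1)
  · have h1 := hc.coc _ (gaP b (MvPolynomial (Fin 3) A) (X 0)) (gaP b _ (X 1)) (gaP b _ (X 2))
    rw [gaP_add, gaP_add, key, key, key, key, gmP_mul, gmP_mul] at h1
    have h2 := congrArg Units.val (gmP_injective b _ h1)
    simp only [Units.val_mul] at h2
    exact h2.symm.trans (mul_comm _ _)

end GmExtLib
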