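import Groth.Agent.BigCohLib.Vanish
import Groth.Prelude.Def_CGrpSh2

/-!
# First cohomology of an internal Hom and extensions

A class in the first cohomology of `𝓗om(F, G)` gives an extension of `F` by `G`; when all extensions split the class
vanishes.
-/

set_option autoImplicit false
set_option maxHeartbeats 1600000
universe u

open CategoryTheory CategoryTheory.Limits CategoryTheory.Abelian AlgebraicGeometry Opposite MonoidalCategory
  CartesianMonoidalCategory

noncomputable section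

namespace GmExtLib

variable {S : Scheme.{u}}

local notation "Jf" => QuotSh.J Scheme.fppfPrecoverage S

section ev

variable {F G : BigSite.Ab Scheme.fppfPrecoverage S}

/-- Evaluation commutes with restriction. -/
theorem ev_map {W W' : Over S} (φ : W' ⟶ W) (ψ : F.over W ⟶ G.over W) (x : F.obj.obj (op W)) :
    HomSh.ev Jf ((HomSh.homSh Jf F G).obj.map φ.op ψ) (F.obj.map φ.op x) = G.obj.map φ.op (HomSh.ev Jf ψ x) := by
  refine Eq.trans ?_ (NatTrans.naturality_apply ψ.hom
    (Over.homMk φ (by simp) : Over.mk φ ⟶ Over.mk (𝟙 W)).op x)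
  exact HomSh.app_over_mk_congr Jf ψ (Category.id_comp φ) _

/-- A component is the evaluation of a restriction. -/
theorem app_eq_ev {V : Over S} (ψ : F.over V ⟶ G.over V) (U : (Over V)ᵒᵖ) (x : F.obj.obj (op U.unop.left)) :
    ψ.hom.app U x = HomSh.ev Jf ((HomSh.homSh Jf F G).obj.map U.unop.hom.op ψ) x :=
  (HomSh.app_over_mk_congr Jf ψ (Category.id_comp U.unop.hom) x).symm

end ev

/-- Cocycle data: compatible additive maps between sections over pairs of members of a family. -/
structure CocData (F G : BigSite.Ab Scheme.fppfPrecoverage S) {κ : Type (u + 1)} (V : κ → Over S) where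
  /-- The map over an object mapping to two members. -/
  v : ∀ (k l : κ) (W : Over S), (W ⟶ V k) → (W ⟶ V l) → (F.obj.obj (op W) →+ G.obj.obj (op W))
  nat : ∀ (k l : κ) (W W' : Over S) (φ : W' ⟶ W) (p : W ⟶ V k) (q : W ⟶ V l) (x : F.obj.obj (op W)),
    v k l W' (φ ≫ p) (φ ≫ q) (F.obj.map φ.op x) = G.obj.map φ.op (v k l W p q x)
  coc : ∀ (k l m : κ) (W : Over S) (p : W ⟶ V k) (q : W ⟶ V l) (r : W ⟶ V m) (x : F.obj.obj (op W)),
    v k l W p q x + v l m W q r x = v k m W p r x

namespace CocData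

variable {F G : BigSite.Ab Scheme.fppfPrecoverage S} {κ : Type (u + 1)} {V : κ → Over S} (D : CocData F G V)

/-- The pairs forming a section of the extension. -/
def sub (T : Over S) : AddSubgroup (F.obj.obj (op T) × ∀ k, G.obj.obj (op (T ⊗ V k))) where
  carrier := {z | ∀ (k l : κ) (W : Over S) (t : W ⟶ T) (p : W ⟶ V k) (q : W ⟶ V l),
    G.obj.map (lift t p).op (z.2 k) - G.obj.map (lift t q).op (z.2 l) = D.v k l W p q (F.obj.map t.op z.1)}
  zero_mem' k l W t p q := by simp
  add_mem' {a c} ha hc k l W t p q := by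
    simp only [Prod.fst_add, Prod.snd_add, Pi.add_apply, map_add]
    rw [← ha k l W t p q, ← hc k l W t p q]
    abel
  neg_mem' {a} ha k l W t p q := by
    simp only [Prod.fst_neg, Prod.snd_neg, Pi.neg_apply, map_neg]
    rw [← ha k l W t p q]
    abel

theorem gmap_gmap {A B C : Over S} (f : A ⟶ B) (g : B ⟶ C) (x : G.obj.obj (op C)) :
    G.obj.map f.op (G.obj.map g.op x) = G.obj.map (f ≫ g).op x := by
  rw [op_comp, Functor.map_comp, ConcreteCategory.comp_apply]

theorem fmap_fmap {A B C : Over S} (f : A ⟶ B) (g : B ⟶ C) (x : F.obj.obj (op C)) :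
    F.obj.map f.op (F.obj.map g.op x) = F.obj.map (f ≫ g).op x := by
  rw [op_comp, Functor.map_comp, ConcreteCategory.comp_apply]

/-- Restriction of pairs. -/
def res {T T' : Over S} (φ : T' ⟶ T) : D.sub T →+ D.sub T' :=
  AddMonoidHom.mk' (fun z => ⟨(F.obj.map φ.op z.1.1, fun k => G.obj.map (φ ▷ V k).op (z.1.2 k)), fun k l W t p q => by
    rw [gmap_gmap, gmap_gmap, fmap_fmap, lift_whiskerRight, lift_whiskerRight]
    exact z.2 k l W (t ≫ φ) p q⟩) fun z z' => Subtype.ext (Prod.ext (map_add _ _ _) (funext fun k => map_add _ _ _))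

/-- The presheaf of pairs. -/
def pre : (Over S)ᵒᵖ ⥤ AddCommGrpCat.{u + 1} where
  obj T := AddCommGrpCat.of (D.sub T.unop)
  map φ := AddCommGrpCat.ofHom (D.res φ.unop)
  map_id T := AddCommGrpCat.ext fun z => Subtype.ext (Prod.ext (by
    show F.obj.map (𝟙 T) z.1.1 = z.1.1
    rw [CategoryTheory.Functor.map_id]; rfl) (funext fun k => by
    show G.obj.map (𝟙 T.unop ▷ V k).op (z.1.2 k) = z.1.2 k
    rw [id_whiskerRight, op_id, CategoryTheory.Functor.map_id]; rfl))
  map_comp φ ψ := AddCommGrpCat.ext fun z => Subtype.ext (Prod.ext (by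
    show F.obj.map (φ ≫ ψ) z.1.1 = _
    rw [Functor.map_comp]; rfl) (funext fun k => by
    show G.obj.map ((ψ.unop ≫ φ.unop) ▷ V k).op (z.1.2 k) = G.obj.map (ψ.unop ▷ V k).op (G.obj.map (φ.unop ▷ V k).op (z.1.2 k))
    rw [gmap_gmap, comp_whiskerRight]))

theorem isSheaf : Presheaf.IsSheaf Jf D.pre := by
  refine (Presheaf.isSheaf_iff_isSheaf_forget _ _ (forget AddCommGrpCat.{u + 1})).2 ?_
  rw [isSheaf_iff_isSheaf_of_type]
  intro T R hR
  let K := Σ Y : Over S, {r : Y ⟶ T // R r}
  -- the cover of a product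
  have hprod : ∀ k, Sieve.ofArrows (fun i : K => i.1 ⊗ V k) (fun i => i.2.1 ▷ V k) ∈ Jf (T ⊗ V k) := fun k => by
    refine GrothendieckTopology.superset_covering _ ?_ ((Jf).pullback_stable (fst T (V k)) hR)
    intro Z h hh
    refine (Sieve.mem_ofArrows_iff _ _ h).2 ⟨⟨Z, h ≫ fst T (V k), hh⟩, lift (𝟙 Z) (h ≫ snd T (V k)), ?_⟩
    rw [lift_whiskerRight, Category.id_comp]
    exact CartesianMonoidalCategory.hom_ext _ _ (lift_fst _ _).symm (lift_snd _ _).symm
  have hbase : Sieve.ofArrows (fun i : K => i.1) (fun i => i.2.1) ∈ Jf T := by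
    refine GrothendieckTopology.superset_covering _ ?_ hR
    intro Z h hh
    exact (Sieve.mem_ofArrows_iff _ _ h).2 ⟨⟨Z, h, hh⟩, 𝟙 Z, (Category.id_comp h).symm⟩
  intro z hz
  have hzz : ∀ (i j : K) (Z : Over S) (a : Z ⟶ i.1) (c : Z ⟶ j.1), a ≫ i.2.1 = c ≫ j.2.1 →
      D.res a (z i.2.1 i.2.2) = D.res c (z j.2.1 j.2.2) := fun i j Z a c h => hz a c i.2.2 j.2.2 h
  obtain ⟨x, hx⟩ := BigCohLib.p_glue F.property (fun i : K => i.2.1) hbase (fun i => (z i.2.1 i.2.2).1.1)
    fun i j Z a c h => congrArg (fun w => w.1.1) (hzz i j Z a c h)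
  choose g hg using fun k => BigCohLib.p_glue G.property (fun i : K => i.2.1 ▷ V k) (hprod k)
    (fun i => (z i.2.1 i.2.2).1.2 k) fun i j Z a c h => by
      have e : ∀ (i : K) (a : Z ⟶ i.1 ⊗ V k), lift (𝟙 Z) (a ≫ snd _ _) ≫ (a ≫ fst _ _) ▷ V k = a := fun i a => by
        rw [lift_whiskerRight, Category.id_comp]
        exact CartesianMonoidalCategory.hom_ext _ _ (lift_fst _ _) (lift_snd _ _)
      have h1 : (a ≫ fst _ _) ≫ i.2.1 = (c ≫ fst _ _) ≫ j.2.1 := by
        have := congrArg (· ≫ fst _ _) h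
        simpa using this
      have h2 : a ≫ snd _ _ = c ≫ snd _ _ := by
        have := congrArg (· ≫ snd _ _) h
        simpa using this
      have := congrArg (fun w => G.obj.map (lift (𝟙 Z) (a ≫ snd _ _)).op (w.1.2 k)) (hzz i j Z _ _ h1)
      change G.obj.map _ (G.obj.map _ _) = G.obj.map _ (G.obj.map _ _) at this
      rw [gmap_gmap, gmap_gmap, e i a, h2, e j c] at this
      exact this
  have hmemD : (x, g) ∈ D.sub T := fun k l W t p q => by
    let R' : Sieve W := R.pullback t
    let K' := Σ Y : Over S, {r : Y ⟶ W // R' r}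
    have hb : Sieve.ofArrows (fun i : K' => i.1) (fun i => i.2.1) ∈ Jf W := by
      refine GrothendieckTopology.superset_covering _ ?_ ((Jf).pullback_stable t hR)
      intro Z h hh
      exact (Sieve.mem_ofArrows_iff _ _ h).2 ⟨⟨Z, h, hh⟩, 𝟙 Z, (Category.id_comp h).symm⟩
    rw [← sub_eq_zero]
    refine BigCohLib.p_eq_zero G.property (fun i : K' => i.2.1) hb _ fun i => ?_
    let i' : K := ⟨i.1, i.2.1 ≫ t, i.2.2⟩
    have hgk : ∀ (m : κ) (s : W ⟶ V m), G.obj.map i.2.1.op (G.obj.map (lift t s).op (g m)) =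
        G.obj.map (lift (𝟙 i.1) (i.2.1 ≫ s)).op ((z i'.2.1 i'.2.2).1.2 m) := fun m s => by
      rw [← hg m i', gmap_gmap, gmap_gmap, comp_lift, lift_whiskerRight, Category.id_comp]
    rw [map_sub, map_sub, hgk, hgk, ← D.nat, fmap_fmap, show F.obj.map (i.2.1 ≫ t).op x = (z i'.2.1 i'.2.2).1.1 from hx i',
      sub_eq_zero]
    have := (z i'.2.1 i'.2.2).2 k l i.1 (𝟙 _) (i.2.1 ≫ p) (i.2.1 ≫ q)
    rw [op_id, CategoryTheory.Functor.map_id] at this
    exact this
  refine ⟨⟨(x, g), hmemD⟩, fun Y r hr => Subtype.ext (Prod.ext (hx ⟨Y, r, hr⟩) (funext fun k => hg k ⟨Y, r, hr⟩)), ?_⟩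
  rintro ⟨⟨x', g'⟩, hm'⟩ hy
  refine Subtype.ext (Prod.ext ?_ (funext fun k => ?_))
  · refine sub_eq_zero.1 (BigCohLib.p_eq_zero F.property (fun i : K => i.2.1) hbase _ fun i => ?_)
    show F.obj.map i.2.1.op (x' - x) = 0
    rw [map_sub, hx i, sub_eq_zero]
    exact congrArg (fun w => w.1.1) (hy i.2.1 i.2.2)
  · refine sub_eq_zero.1 (BigCohLib.p_eq_zero G.property (fun i : K => i.2.1 ▷ V k) (hprod k) _ fun i => ?_)
    show G.obj.map (i.2.1 ▷ V k).op (g' k - g k) = 0
    rw [map_sub, hg k i, sub_eq_zero]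
    exact congrArg (fun w => w.1.2 k) (hy i.2.1 i.2.2)

/-- The sheaf of pairs. -/
def ext : BigSite.Ab Scheme.fppfPrecoverage S := ⟨D.pre, D.isSheaf⟩

/-- The inclusion of the coefficients. -/
def incl : G ⟶ D.ext :=
  ⟨{ app := fun T => AddCommGrpCat.ofHom (AddMonoidHom.mk'
      (fun y : G.obj.obj T => (⟨((0 : F.obj.obj T), fun k => G.obj.map (fst T.unop (V k)).op y), fun k l W t p q => by
        rw [gmap_gmap, gmap_gmap, lift_fst, lift_fst, sub_self, map_zero, map_zero]⟩ : D.sub T.unop))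
      fun y y' => Subtype.ext (Prod.ext (add_zero 0).symm (funext fun k => map_add _ _ _)))
     naturality := fun T T' φ => AddCommGrpCat.ext fun y => Subtype.ext (Prod.ext (map_zero (F.obj.map φ).hom).symm
       (funext fun k => by
         show G.obj.map (fst T'.unop (V k)).op (G.obj.map φ.unop.op y) =
           G.obj.map (φ.unop ▷ V k).op (G.obj.map (fst T.unop (V k)).op y)
         rw [gmap_gmap, gmap_gmap, whiskerRight_fst])) }⟩

/-- The projection. -/
def proj : D.ext ⟶ F :=
  ⟨{ app := fun T => AddCommGrpCat.ofHom (AddMonoidHom.mk' (fun z : D.sub T.unop => z.1.1) fun _ _ => rfl)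
     naturality := fun _ _ _ => rfl }⟩

theorem incl_proj : D.incl ≫ D.proj = 0 := Sheaf.hom_ext (NatTrans.ext (funext fun _ => AddCommGrpCat.ext fun _ => rfl))

variable (hcov : ∀ T : Over S, Sieve.ofArrows (fun k : κ => (T ⊗ V k : Over S)) (fun k => fst T (V k)) ∈
  (QuotSh.J Scheme.fppfPrecoverage S) T)

include hcov

theorem incl_injective (T : (Over S)ᵒᵖ) : Function.Injective (D.incl.hom.app T) := fun y y' h => by
  refine sub_eq_zero.1 (BigCohLib.p_eq_zero G.property (fun k => fst T.unop (V k)) (hcov T.unop) _ fun k => ?_)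
  rw [map_sub, sub_eq_zero]
  exact congrArg (fun w : D.sub T.unop => w.1.2 k) h

theorem exists_incl (T : (Over S)ᵒᵖ) (z : D.ext.obj.obj T) (hz : D.proj.hom.app T z = 0) :
    ∃ y, D.incl.hom.app T y = z := by
  obtain ⟨⟨x, g⟩, hm⟩ := z
  obtain rfl : x = 0 := hz
  obtain ⟨y, hy⟩ := BigCohLib.p_glue G.property (fun k => fst T.unop (V k)) (hcov T.unop) g fun k l W a c h => by
    have hc := hm k l W (a ≫ fst _ _) (a ≫ snd _ _) (c ≫ snd _ _)
    simp only [map_zero, sub_eq_zero] at hc
    have ea : lift (a ≫ fst _ _) (a ≫ snd _ _) = a :=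
      CartesianMonoidalCategory.hom_ext _ _ (lift_fst _ _) (lift_snd _ _)
    have ec : lift (a ≫ fst T.unop (V k)) (c ≫ snd _ _) = c :=
      CartesianMonoidalCategory.hom_ext _ _ ((lift_fst _ _).trans h) (lift_snd _ _)
    rwa [ea, ec] at hc
  exact ⟨y, Subtype.ext (Prod.ext rfl (funext hy))⟩

/-- The pairs form an extension. -/
theorem shortExact : (ShortComplex.mk D.incl D.proj D.incl_proj).ShortExact := by
  haveI : Mono D.incl := by
    refine (sheafToPresheaf _ _).mono_of_mono_map ?_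
    exact (NatTrans.mono_iff_mono_app _).2 fun T => (AddCommGrpCat.mono_iff_injective _).2 (D.incl_injective hcov T)
  haveI : Sheaf.IsLocallySurjective D.proj := ⟨fun {T} x => by
    refine GrothendieckTopology.superset_covering _ ?_ (hcov T)
    rw [Sieve.ofArrows, Sieve.generate_le_iff]
    rintro _ _ ⟨m⟩
    let W := T ⊗ V m
    let g : ∀ k, G.obj.obj (op (W ⊗ V k)) := fun k =>
      D.v k m (W ⊗ V k) (snd W (V k)) (fst W (V k) ≫ snd T (V m))
        (F.obj.map (fst W (V k) ≫ fst T (V m)).op x)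
    refine ⟨⟨(F.obj.map (fst T (V m)).op x, g), fun k l W' t p q => ?_⟩, rfl⟩
    have hn : ∀ (j : κ) (s : W' ⟶ V j), G.obj.map (lift t s).op (g j) =
        D.v j m W' s (t ≫ snd T (V m)) (F.obj.map (t ≫ fst T (V m)).op x) := fun j s => by
      rw [← D.nat, lift_snd, lift_fst_assoc, fmap_fmap, lift_fst_assoc]
    rw [hn, hn, fmap_fmap, sub_eq_iff_eq_add, D.coc]⟩
  haveI : Epi D.proj := (Sheaf.isLocallySurjective_iff_epi' AddCommGrpCat.{u + 1} D.proj).1 inferInstance
  refine { exact := ?_ }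
  refine ShortComplex.exact_of_f_is_kernel _ (KernelFork.IsLimit.ofι' _ _ fun {Z} h hh => ?_)
  have hex : ∀ (T : (Over S)ᵒᵖ) (x : Z.obj.obj T), ∃ y, D.incl.hom.app T y = h.hom.app T x := fun T x =>
    D.exists_incl hcov T (h.hom.app T x) (congrArg (fun k : Z ⟶ F => k.hom.app T x) hh)
  choose y hy using hex
  refine ⟨⟨{
    app := fun T => AddCommGrpCat.ofHom (AddMonoidHom.mk' (fun x : Z.obj.obj T => y T x)
      fun x x' => D.incl_injective hcov T (((hy T (x + x')).trans (map_add (h.hom.app T).hom x x')).trans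
        ((congrArg₂ (· + ·) (hy T x) (hy T x')).symm.trans (map_add (D.incl.hom.app T).hom _ _).symm)))
    naturality := fun T T' φ => AddCommGrpCat.ext fun x => D.incl_injective hcov T' ?_ }⟩, ?_⟩
  · refine (hy T' (Z.obj.map φ x)).trans ?_
    refine (NatTrans.naturality_apply h.hom φ x).trans ?_
    refine Eq.trans ?_ (NatTrans.naturality_apply D.incl.hom φ _).symm
    exact congrArg (D.ext.obj.map φ) (hy T x).symm
  · exact Sheaf.hom_ext (NatTrans.ext (funext fun T => AddCommGrpCat.ext fun x => hy T x))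

/-- A split extension makes the cocycle a coboundary. -/
theorem exists_cobound (h : Subsingleton (Ext.{u + 1} F G 1)) :
    ∃ e : ∀ k, F.over (V k) ⟶ G.over (V k), ∀ (k l : κ) (W : Over S) (p : W ⟶ V k) (q : W ⟶ V l) (x : F.obj.obj (op W)),
      (show G.obj.obj (op W) from (e k).hom.app (op (Over.mk p)) x) -
        (show G.obj.obj (op W) from (e l).hom.app (op (Over.mk q)) x) = D.v k l W p q x := by
  have hS := D.shortExact hcov
  obtain ⟨s, hs⟩ := Ext.covariant_sequence_exact₃ F hS (Ext.mk₀ (𝟙 F)) (n₁ := 1) rfl (Subsingleton.elim _ _)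
  obtain ⟨s, rfl⟩ := (Ext.mk₀_bijective _ _).2 s
  rw [Ext.mk₀_comp_mk₀] at hs
  have hs' : s ≫ D.proj = 𝟙 F := (Ext.mk₀_bijective _ _).1 hs
  have hfst : ∀ (T : (Over S)ᵒᵖ) (x : F.obj.obj T), (s.hom.app T x : D.sub T.unop).1.1 = x := fun T x =>
    congrArg (fun k : F ⟶ F => k.hom.app T x) hs'
  let c : ∀ (k : κ) (W : Over S), (W ⟶ V k) → (F.obj.obj (op W) →+ G.obj.obj (op W)) := fun k W p =>
    AddMonoidHom.mk' (fun x => G.obj.map (lift (𝟙 W) p).op ((s.hom.app (op W) x : D.sub W).1.2 k)) fun x y => by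
      rw [map_add]; exact map_add _ _ _
  refine ⟨fun k => ⟨{
    app := fun U => AddCommGrpCat.ofHom (c k U.unop.left U.unop.hom)
    naturality := fun U U' φ => AddCommGrpCat.ext fun x => ?_ }⟩, fun k l W p q x => ?_⟩
  · change G.obj.map (lift (𝟙 U'.unop.left) U'.unop.hom).op
      ((s.hom.app (op U'.unop.left) (F.obj.map φ.unop.left.op x) : D.sub U'.unop.left).1.2 k) =
      G.obj.map φ.unop.left.op (G.obj.map (lift (𝟙 U.unop.left) U.unop.hom).op
        ((s.hom.app (op U.unop.left) x : D.sub U.unop.left).1.2 k))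
    rw [NatTrans.naturality_apply s.hom φ.unop.left.op x]
    change G.obj.map _ (G.obj.map (φ.unop.left ▷ V k).op _) = _
    rw [gmap_gmap, gmap_gmap, comp_lift, lift_whiskerRight, Category.id_comp, Category.comp_id, Over.w φ.unop]
  · change G.obj.map (lift (𝟙 W) p).op ((s.hom.app (op W) x : D.sub W).1.2 k) -
      G.obj.map (lift (𝟙 W) q).op ((s.hom.app (op W) x : D.sub W).1.2 l) = _
    rw [(s.hom.app (op W) x : D.sub W).2 k l W (𝟙 W) p q, hfst, op_id, CategoryTheory.Functor.map_id]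
    rfl

end CocData

/-- The first cohomology of an internal Hom vanishes when extensions split. -/
theorem subsingleton_H_one_homSh (F G : BigSite.Ab Scheme.fppfPrecoverage S)
    (h : Subsingleton (Ext.{u + 1} F G 1)) :
    Subsingleton (BigSite.H Scheme.fppfPrecoverage S (HomSh.homSh Jf F G) 1) := by
  let A := HomSh.homSh Jf F G
  let C : ShortComplex (BigSite.Ab Scheme.fppfPrecoverage S) :=
    ShortComplex.mk (Injective.ι A) (cokernel.π _) (cokernel.condition _)
  have hC : C.ShortExact := { exact := ShortComplex.exact_cokernel _ }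
  have := hC.mono_f
  have := hC.epi_g
  have : Sheaf.IsLocallySurjective C.g :=
    (Sheaf.isLocallySurjective_iff_epi' AddCommGrpCat.{u + 1} C.g).2 inferInstance
  have : Mono C.f.hom := (sheafToPresheaf _ _).map_mono C.f
  have hinj : ∀ U, Function.Injective (C.f.hom.app U) := fun U => (AddCommGrpCat.mono_iff_injective _).1 inferInstance
  refine subsingleton_of_forall_eq 0 fun ξ => ?_
  obtain ⟨φ, rfl⟩ := Ext.covariant_sequence_exact₁ _ hC ξ (Ext.eq_zero_of_injective _) (by rfl : 0 + 1 = 1)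
  obtain ⟨φ, rfl⟩ := (Ext.mk₀_bijective _ _).2 φ
  let top0 : Over S := Over.mk (𝟙 S)
  let d := BigCohLib.homEquivBase C.X₃ φ
  let R := Presheaf.imageSieve C.g.hom d
  have hR : R ∈ Jf top0 := Presheaf.imageSieve_mem _ _ d
  let κ := Σ Y : Over S, {r : Y ⟶ top0 // R r}
  let V : κ → Over S := fun k => k.1
  choose j hj using fun k : κ => k.2.2
  have hj' : ∀ (k : κ) (W : Over S) (p : W ⟶ V k),
      C.g.hom.app (op W) (C.X₂.obj.map p.op (j k)) = C.X₃.obj.map (p ≫ k.2.1).op d := fun k W p => by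
    rw [NatTrans.naturality_apply C.g.hom p.op (j k), hj, ← ConcreteCategory.comp_apply, ← Functor.map_comp,
      ← op_comp]
  have hpre : ∀ k l, ∃ a : A.obj.obj (op (V k ⊗ V l)), C.f.hom.app _ a =
      C.X₂.obj.map (fst (V k) (V l)).op (j k) - C.X₂.obj.map (snd (V k) (V l)).op (j l) := fun k l => by
    have he := ((hC.exact.map_of_mono_of_preservesKernel (sheafToPresheaf _ _) hC.mono_f
      inferInstance).map_of_mono_of_preservesKernel ((evaluation (Over S)ᵒᵖ AddCommGrpCat.{u + 1}).obj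
        (op (V k ⊗ V l))) ((sheafToPresheaf _ _).map_mono C.f) inferInstance)
    refine (ShortComplex.ab_exact_iff _).mp he _ ?_
    show C.g.hom.app _ _ = 0
    rw [map_sub, hj', hj', sub_eq_zero]
    exact congrArg (fun m => C.X₃.obj.map m.op d) (Over.mkIdTerminal.hom_ext _ _)
  choose a ha using hpre
  have xmap : ∀ {A' B C' : Over S} (f : A' ⟶ B) (g : B ⟶ C') (x : C.X₂.obj.obj (op C')),
      C.X₂.obj.map f.op (C.X₂.obj.map g.op x) = C.X₂.obj.map (f ≫ g).op x := fun f g x => by
    rw [op_comp, Functor.map_comp, ConcreteCategory.comp_apply]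
  have hfa : ∀ (k l : κ) (W : Over S) (p : W ⟶ V k) (q : W ⟶ V l),
      C.f.hom.app _ (A.obj.map (lift p q).op (a k l)) = C.X₂.obj.map p.op (j k) - C.X₂.obj.map q.op (j l) :=
    fun k l W p q => by
      rw [NatTrans.naturality_apply C.f.hom (lift p q).op, ha, map_sub, xmap, xmap, lift_fst, lift_snd]
  let D : CocData F G V :=
    { v := fun k l W p q => HomSh.ev Jf (A.obj.map (lift p q).op (a k l))
      nat := fun k l W W' φ p q x => by
        rw [← comp_lift, op_comp, Functor.map_comp, ConcreteCategory.comp_apply]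
        exact ev_map φ _ x
      coc := fun k l m W p q r x => by
        have e : A.obj.map (lift p q).op (a k l) + A.obj.map (lift q r).op (a l m) =
            A.obj.map (lift p r).op (a k m) := hinj _ (by
          rw [map_add, hfa, hfa, hfa]; abel)
        rw [← e]
        exact (DFunLike.congr_fun (HomSh.ev_add (QuotSh.J Scheme.fppfPrecoverage S) (A.obj.map (lift p q).op (a k l)) (A.obj.map (lift q r).op (a l m))) x).symm }
  have hcov : ∀ T : Over S, Sieve.ofArrows (fun k => T ⊗ V k) (fun k => fst T (V k)) ∈ Jf T := fun T => by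
    refine GrothendieckTopology.superset_covering _ ?_ ((Jf).pullback_stable (Over.mkIdTerminal.from T) hR)
    intro Z h hh
    exact (Sieve.mem_ofArrows_iff _ _ h).2 ⟨(⟨Z, h ≫ Over.mkIdTerminal.from T, hh⟩ : κ), lift h (𝟙 Z), (lift_fst _ _).symm⟩
  obtain ⟨e', he⟩ := D.exists_cobound hcov h
  let e : ∀ k, A.obj.obj (op (V k)) := e'
  have hea : ∀ (k l : κ) (W : Over S) (p : W ⟶ V k) (q : W ⟶ V l),
      A.obj.map p.op (e k) - A.obj.map q.op (e l) = A.obj.map (lift p q).op (a k l) := fun k l W p q => by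
    refine Sheaf.hom_ext (NatTrans.ext (funext fun U => AddCommGrpCat.ext fun x => ?_))
    show (show G.obj.obj (op U.unop.left) from (e' k).hom.app (op (Over.mk (U.unop.hom ≫ p))) x) -
      (show G.obj.obj (op U.unop.left) from (e' l).hom.app (op (Over.mk (U.unop.hom ≫ q))) x) = _
    rw [he]
    refine Eq.trans ?_ (app_eq_ev (A.obj.map (lift p q).op (a k l)) U x).symm
    show HomSh.ev Jf (A.obj.map (lift (U.unop.hom ≫ p) (U.unop.hom ≫ q)).op (a k l)) x = _
    rw [← comp_lift, op_comp, Functor.map_comp, ConcreteCategory.comp_apply]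
  have hcov0 : Sieve.ofArrows V (fun k : κ => k.2.1) ∈ Jf top0 := by
    refine GrothendieckTopology.superset_covering _ ?_ hR
    intro Z h hh
    exact (Sieve.mem_ofArrows_iff _ _ h).2 ⟨(⟨Z, h, hh⟩ : κ), 𝟙 Z, (Category.id_comp h).symm⟩
  obtain ⟨t, ht⟩ := BigCohLib.p_glue C.X₂.property (fun k : κ => k.2.1) hcov0
    (fun k => j k - C.f.hom.app _ (e k)) fun k l W p q _ => by
      rw [map_sub, map_sub, ← NatTrans.naturality_apply C.f.hom p.op, ← NatTrans.naturality_apply C.f.hom q.op]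
      have h1 := congrArg (C.f.hom.app (op W)) (hea k l W p q)
      rw [map_sub, hfa] at h1
      rw [sub_eq_sub_iff_sub_eq_sub]
      exact h1.symm
  have hgt : C.g.hom.app _ t = d := by
    refine sub_eq_zero.1 (BigCohLib.p_eq_zero C.X₃.property (fun k : κ => k.2.1) hcov0 _ fun k => ?_)
    rw [map_sub, sub_eq_zero]
    refine (NatTrans.naturality_apply C.g.hom k.2.1.op t).symm.trans ?_
    rw [ht k, map_sub]
    have h0 : C.g.hom.app _ (C.f.hom.app (op (V k)) (e k)) = 0 := by
      show (C.f ≫ C.g).hom.app _ (e k) = 0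
      rw [C.zero]; rfl
    rw [h0, sub_zero]
    exact hj k
  have hφ : φ = (BigCohLib.homEquivBase C.X₂).symm t ≫ C.g := (BigCohLib.homEquivBase C.X₃).injective (by
    rw [BigCohLib.homEquivBase_comp, AddEquiv.apply_symm_apply]
    exact hgt.symm)
  rw [hφ, ← Ext.mk₀_comp_mk₀, Ext.comp_assoc_of_second_deg_zero, ShortComplex.ShortExact.comp_extClass, Ext.comp_zero]

end GmExtLib
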