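import Groth.Agent.GmExtLib.Inject
import Groth.Agent.GmExtLib.ExtShZero

/-!
# First cohomology of an internal Hom as an extension group

When every global homomorphism into an injective quotient lifts locally, `H¹` of `𝓗om(F, G)` is `Ext¹(F, G)`.
-/

set_option autoImplicit false
set_option backward.isDefEq.respectTransparency false
set_option maxHeartbeats 1600000
universe u

open CategoryTheory CategoryTheory.Limits CategoryTheory.Abelian AlgebraicGeometry Opposite

noncomputable section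

namespace GmExtLib

variable {S : Scheme.{u}}

local notation "Jf" => QuotSh.J Scheme.fppfPrecoverage S

section conn

variable {T : ShortComplex (BigSite.Ab Scheme.fppfPrecoverage S)} (hT : T.ShortExact)
  (X : BigSite.Ab Scheme.fppfPrecoverage S)

/-- The connecting map of a short exact sequence. -/
def connHom : (X ⟶ T.X₃) →+ Ext.{u + 1} X T.X₁ 1 :=
  AddMonoidHom.mk' (fun α => (Ext.mk₀ α).comp hT.extClass (zero_add 1)) fun α β => by
    rw [Ext.mk₀_add, Ext.add_comp]

theorem connHom_eq_zero_iff (α : X ⟶ T.X₃) : connHom hT X α = 0 ↔ ∃ β, β ≫ T.g = α := by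
  refine ⟨fun h => ?_, ?_⟩
  · obtain ⟨x, hx⟩ := Ext.covariant_sequence_exact₃ X hT (Ext.mk₀ α) (n₁ := 1) rfl h
    obtain ⟨β, rfl⟩ := (Ext.mk₀_bijective _ _).2 x
    rw [Ext.mk₀_comp_mk₀] at hx
    exact ⟨β, (Ext.mk₀_bijective _ _).1 hx⟩
  · rintro ⟨β, rfl⟩
    show (Ext.mk₀ (β ≫ T.g)).comp hT.extClass (zero_add 1) = 0
    rw [← Ext.mk₀_comp_mk₀, Ext.comp_assoc_of_second_deg_zero, ShortComplex.ShortExact.comp_extClass, Ext.comp_zero]

theorem connHom_surjective (h : ∀ x : Ext.{u + 1} X T.X₂ 1, x = 0) : Function.Surjective (connHom hT X) := fun ξ => by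
  obtain ⟨φ, hφ⟩ := Ext.covariant_sequence_exact₁ _ hT ξ (h _) (by rfl : 0 + 1 = 1)
  obtain ⟨φ, rfl⟩ := (Ext.mk₀_bijective _ _).2 φ
  exact ⟨φ, hφ⟩

end conn

section top

variable {F K : BigSite.Ab Scheme.fppfPrecoverage S}

/-- Morphisms over the final object are morphisms. -/
def overTopEquiv : (F.over (Over.mk (𝟙 S)) ⟶ K.over (Over.mk (𝟙 S))) ≃+ (F ⟶ K) where
  toFun φ := ⟨{ app := fun U => φ.hom.app (op (Over.mk (Over.mkIdTerminal.from U.unop)))
                naturality := fun U U' m => φ.hom.naturality (Over.homMk m.unop (Over.mkIdTerminal.hom_ext _ _) :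
                  Over.mk (Over.mkIdTerminal.from U'.unop) ⟶ Over.mk (Over.mkIdTerminal.from U.unop)).op }⟩
  invFun ψ := ((Jf).overPullback AddCommGrpCat.{u + 1} (Over.mk (𝟙 S))).map ψ
  left_inv φ := Sheaf.hom_ext (NatTrans.ext (funext fun W => AddCommGrpCat.ext fun x =>
    HomSh.app_over_mk_congr Jf φ (Over.mkIdTerminal.hom_ext (Over.mkIdTerminal.from W.unop.left) W.unop.hom) x))
  right_inv ψ := rfl
  map_add' φ φ' := rfl

theorem overTopEquiv_comp {I : BigSite.Ab Scheme.fppfPrecoverage S}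
    (χ : F.over (Over.mk (𝟙 S)) ⟶ I.over (Over.mk (𝟙 S))) (g : I ⟶ K) :
    overTopEquiv (χ ≫ ((Jf).overPullback AddCommGrpCat.{u + 1} (Over.mk (𝟙 S))).map g) = overTopEquiv χ ≫ g := rfl

end top

/-- A section lying locally in the image of a factorisation through a subsheaf lies in the subsheaf. -/
theorem exists_of_locally {B C D : BigSite.Ab Scheme.fppfPrecoverage S} (q : B ⟶ C) (j : C ⟶ D) [Mono j] (g : B ⟶ D)
    (hqj : q ≫ j = g) {T : Over S} (d : D.obj.obj (op T)) (h : Presheaf.imageSieve g.hom d ∈ Jf T) :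
    ∃ c : C.obj.obj (op T), j.hom.app (op T) c = d := by
  subst hqj
  haveI : Mono j.hom := (sheafToPresheaf _ _).map_mono j
  have hinj : ∀ U, Function.Injective (j.hom.app U) := fun U => (AddCommGrpCat.mono_iff_injective _).1 inferInstance
  let κ := Σ Y : Over S, {r : Y ⟶ T // Presheaf.imageSieve (q ≫ j).hom d r}
  have hcov : Sieve.ofArrows (fun k : κ => k.1) (fun k => k.2.1) ∈ Jf T := by
    refine GrothendieckTopology.superset_covering _ ?_ h
    intro W k hk
    exact (Sieve.mem_ofArrows_iff _ _ k).2 ⟨⟨W, k, hk⟩, 𝟙 W, (Category.id_comp k).symm⟩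
  choose t ht using fun k : κ => k.2.2
  have hjq : ∀ k : κ, j.hom.app (op k.1) (q.hom.app (op k.1) (t k)) = D.obj.map k.2.1.op d := fun k => ht k
  obtain ⟨c, hc⟩ := BigCohLib.p_glue C.property (fun k : κ => k.2.1) hcov (fun k => q.hom.app (op k.1) (t k))
    fun k l W a b hab => hinj _ (by
      rw [NatTrans.naturality_apply j.hom a.op, NatTrans.naturality_apply j.hom b.op, hjq, hjq, map_map, map_map]
      exact congrArg (fun m => D.obj.map m.op d) hab)
  refine ⟨c, sub_eq_zero.1 (BigCohLib.p_eq_zero D.property (fun k : κ => k.2.1) hcov _ fun k => ?_)⟩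
  rw [map_sub, sub_eq_zero]
  refine (NatTrans.naturality_apply j.hom k.2.1.op c).symm.trans ?_
  rw [hc k]
  exact hjq k

/-- Groups that are quotients by equal kernels are isomorphic. -/
theorem nonempty_addEquiv_of_surjective {A B B' : Type*} [AddCommGroup A] [AddCommGroup B] [AddCommGroup B']
    (d : A →+ B) (d' : A →+ B') (hd : Function.Surjective d) (hd' : Function.Surjective d')
    (h : ∀ a, d a = 0 ↔ d' a = 0) : Nonempty (B ≃+ B') :=
  ⟨((QuotientAddGroup.quotientKerEquivOfSurjective d hd).symm.trans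
    (QuotientAddGroup.quotientAddEquivOfEq (M := d.ker) (N := d'.ker) (AddSubgroup.ext fun a => h a))).trans
      (QuotientAddGroup.quotientKerEquivOfSurjective d' hd')⟩

/-- `H¹` of an internal Hom as a quotient of global homomorphisms. -/
theorem nonempty_H_one_homSh_addEquiv_of_ses {F G I K : BigSite.Ab Scheme.fppfPrecoverage S} [Injective I]
    {i : G ⟶ I} {g : I ⟶ K} {w : i ≫ g = 0} (hS : (ShortComplex.mk i g w).ShortExact)
    {C : BigSite.Ab Scheme.fppfPrecoverage S} {q : HomSh.homSh Jf F I ⟶ C}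
    {wq : HomSh.homShMap Jf (𝟙 F) i ≫ q = 0}
    (hC : (ShortComplex.mk (HomSh.homShMap Jf (𝟙 F) i) q wq).ShortExact)
    (j : C ⟶ HomSh.homSh Jf F K) [Mono j] (hqj : q ≫ j = HomSh.homShMap Jf (𝟙 F) g)
    (h : ∀ ψ : F.over (Over.mk (𝟙 S)) ⟶ K.over (Over.mk (𝟙 S)),
      Presheaf.imageSieve (HomSh.homShMap Jf (𝟙 F) g).hom ψ ∈ Jf (Over.mk (𝟙 S))) :
    Nonempty (BigSite.H Scheme.fppfPrecoverage S (HomSh.homSh Jf F G) 1 ≃+ Ext.{u + 1} F G 1) := by
  have hI : Subsingleton (Ext.{u + 1} F I 1) := subsingleton_of_forall_eq 0 fun x => Ext.eq_zero_of_injective x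
  let top0 : Over S := Over.mk (𝟙 S)
  let Z := (constantSheaf Jf AddCommGrpCat.{u + 1}).obj (AddCommGrpCat.of (ULift.{u + 1} ℤ))
  let P : (Z ⟶ C) →+ (F ⟶ K) :=
    (overTopEquiv.toAddMonoidHom.comp (j.hom.app (op top0)).hom).comp (BigCohLib.homEquivBase C).toAddMonoidHom
  have hjinj : Function.Injective (j.hom.app (op top0)) := by
    haveI : Mono j.hom := (sheafToPresheaf _ _).map_mono j
    exact (AddCommGrpCat.mono_iff_injective _).1 inferInstance
  have hP : Function.Bijective P := by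
    refine ⟨fun x y hxy => (BigCohLib.homEquivBase C).injective (hjinj (overTopEquiv.injective hxy)), fun ψ => ?_⟩
    obtain ⟨c, hc⟩ := exists_of_locally q j _ hqj _ (h (overTopEquiv.symm ψ))
    refine ⟨(BigCohLib.homEquivBase C).symm c, ?_⟩
    show overTopEquiv (j.hom.app (op top0) (BigCohLib.homEquivBase C ((BigCohLib.homEquivBase C).symm c))) = ψ
    rw [AddEquiv.apply_symm_apply]
    exact (congrArg overTopEquiv hc).trans (overTopEquiv.apply_symm_apply ψ)
  let e₀ := AddEquiv.ofBijective P hP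
  refine nonempty_addEquiv_of_surjective ((connHom hC Z).comp e₀.symm.toAddMonoidHom) (connHom hS F)
    ((connHom_surjective hC Z fun x => (subsingleton_H_one_homSh F I hI).elim x 0).comp e₀.symm.surjective)
    (connHom_surjective hS F fun x => Ext.eq_zero_of_injective x) fun ψ => ?_
  show connHom hC Z (e₀.symm ψ) = 0 ↔ connHom hS F ψ = 0
  rw [connHom_eq_zero_iff, connHom_eq_zero_iff]
  have key : ∀ y : Z ⟶ HomSh.homSh Jf F I, P (y ≫ q) =
      overTopEquiv (show F.over top0 ⟶ I.over top0 from BigCohLib.homEquivBase _ y) ≫ g := fun y => by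
    show overTopEquiv (j.hom.app (op top0) (BigCohLib.homEquivBase C (y ≫ q))) = _
    rw [BigCohLib.homEquivBase_comp]
    refine Eq.trans ?_ (overTopEquiv_comp _ g)
    refine congrArg overTopEquiv ?_
    refine Eq.trans (b := (HomSh.homShMap Jf (𝟙 F) g).hom.app (op top0) (BigCohLib.homEquivBase _ y)) ?_ ?_
    · show (q ≫ j).hom.app (op top0) _ = _
      rw [hqj]
    · exact (congrArg (· ≫ _) (((Jf).overPullback AddCommGrpCat.{u + 1} top0).map_id F)).trans (Category.id_comp _)
  constructor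
  · rintro ⟨y, hy⟩
    exact ⟨_, (key y).symm.trans ((congrArg P hy).trans (e₀.apply_symm_apply ψ))⟩
  · rintro ⟨α, hα⟩
    refine ⟨(BigCohLib.homEquivBase _).symm (overTopEquiv.symm α), e₀.injective ?_⟩
    refine (key _).trans (Eq.trans ?_ (e₀.apply_symm_apply ψ).symm)
    rw [AddEquiv.apply_symm_apply]
    exact (congrArg (· ≫ g) (overTopEquiv.apply_symm_apply α)).trans hα

/-- `H¹` of an internal Hom is the extension group when global homomorphisms lift locally. -/
theorem nonempty_H_one_homSh_addEquiv (F G : BigSite.Ab Scheme.fppfPrecoverage S)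
    (h : ∀ (I K : BigSite.Ab Scheme.fppfPrecoverage S) (i : G ⟶ I) (g : I ⟶ K) (w : i ≫ g = 0), Injective I →
      (ShortComplex.mk i g w).ShortExact → ∀ ψ : F.over (Over.mk (𝟙 S)) ⟶ K.over (Over.mk (𝟙 S)),
        Presheaf.imageSieve (HomSh.homShMap Jf (𝟙 F) g).hom ψ ∈ Jf (Over.mk (𝟙 S))) :
    Nonempty (BigSite.H Scheme.fppfPrecoverage S (HomSh.homSh Jf F G) 1 ≃+ Ext.{u + 1} F G 1) := by
  obtain ⟨I, K, i, g, w, hI, hS⟩ : ∃ (I K : BigSite.Ab Scheme.fppfPrecoverage S) (i : G ⟶ I) (g : I ⟶ K) (w : i ≫ g = 0),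
      Injective I ∧ (ShortComplex.mk i g w).ShortExact :=
    ⟨Injective.under G, cokernel (Injective.ι G), Injective.ι G, cokernel.π _, cokernel.condition _, inferInstance,
      { exact := ShortComplex.exact_cokernel _ }⟩
  haveI := hI
  haveI : Mono i := hS.mono_f
  have hw : HomSh.homShMap Jf (𝟙 F) i ≫ HomSh.homShMap Jf (𝟙 F) g = 0 := by
    rw [← HomSh.homShMap_comp, w]
    exact Sheaf.hom_ext (NatTrans.ext (funext fun U => AddCommGrpCat.ext fun φ => by
      rw [HomSh.homShMap_app_apply, Functor.map_zero]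
      exact (congrArg (((Jf).overPullback AddCommGrpCat.{u + 1} U.unop).map (𝟙 F ≫ 𝟙 F) ≫ ·) Limits.comp_zero).trans
        Limits.comp_zero))
  haveI := mono_homShMap F i
  have hex := exact_homShMap F i g w hS.exact hw
  haveI : Mono (cokernel.desc (HomSh.homShMap Jf (𝟙 F) i) (HomSh.homShMap Jf (𝟙 F) g) hw) :=
    (ShortComplex.exact_iff_mono_cokernel_desc (ShortComplex.mk _ _ hw)).1 hex
  exact nonempty_H_one_homSh_addEquiv_of_ses hS
    (C := cokernel (HomSh.homShMap Jf (𝟙 F) i)) (q := cokernel.π _) (wq := cokernel.condition _)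
    { exact := ShortComplex.exact_cokernel _ } _ (cokernel.π_desc _ _ hw) (h I K i g w hI hS)

end GmExtLib
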