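import Groth.Agent.GmExtLib.Sec
import Mathlib.Algebra.Homology.DerivedCategory.Ext.ExactSequences
import Mathlib.CategoryTheory.Abelian.GrothendieckCategory.EnoughInjectives

/-!
# Extensions by the multiplicative group from lifts and cocycles
-/

set_option autoImplicit false
set_option maxHeartbeats 1600000
universe u

open CategoryTheory CategoryTheory.Limits AlgebraicGeometry Opposite MonObj MonoidalCategory CartesianMonoidalCategory
open CategoryTheory.Abelian
open scoped MonObj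

noncomputable section

namespace GmExtLib

variable {S : Scheme.{u}} {Qs : Over S} [GrpObj Qs] [IsCommMonObj Qs]

/-- The sheaf of points. -/
abbrev shPts (Qs : Over S) [GrpObj Qs] [IsCommMonObj Qs] : BigSite.Ab Scheme.fppfPrecoverage S :=
  CGrpSh.pts Scheme.fppfPrecoverage Qs

/-- A point as a section. -/
def ptSec {T : Over S} (x : T ⟶ Qs) : (shPts Qs).obj.obj (op T) := ULift.up (Additive.ofMul x)

theorem map_ptSec {T T' : Over S} (φ : T' ⟶ T) (x : T ⟶ Qs) :
    (shPts Qs).obj.map φ.op (ptSec x) = ptSec (φ ≫ x) := rfl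

theorem ptSec_mul {T : Over S} (x y : T ⟶ Qs) : ptSec (x * y) = ptSec x + ptSec y := rfl

/-- A section over the group is additive in the point. -/
def IsAdd (F : BigSite.Ab Scheme.fppfPrecoverage S) (s : F.obj.obj (op Qs)) : Prop :=
  ∀ (T : Over S) (x y : T ⟶ Qs), F.obj.map (x * y).op s = F.obj.map x.op s + F.obj.map y.op s

theorem IsAdd.map_one {F : BigSite.Ab Scheme.fppfPrecoverage S} {s : F.obj.obj (op Qs)} (h : IsAdd F s) (T : Over S) :
    F.obj.map (1 : T ⟶ Qs).op s = 0 := by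
  have h1 := h T 1 1
  rw [_root_.mul_one] at h1
  simpa using h1

theorem IsAdd.map_pow {F : BigSite.Ab Scheme.fppfPrecoverage S} {s : F.obj.obj (op Qs)} (h : IsAdd F s)
    {T : Over S} (x : T ⟶ Qs) (m : ℕ) : F.obj.map (x ^ m).op s = m • F.obj.map x.op s := by
  induction m with
  | zero => rw [pow_zero, zero_nsmul]; exact h.map_one T
  | succ m ih => rw [pow_succ, h T, ih, succ_nsmul]

theorem IsAdd.nsmul_eq_zero {F : BigSite.Ab Scheme.fppfPrecoverage S} {s : F.obj.obj (op Qs)} (h : IsAdd F s)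
    {m : ℕ} (hm : (𝟙 Qs : Qs ⟶ Qs) ^ m = 1) : m • s = 0 := by
  have h1 := h.map_pow (𝟙 Qs) m
  rw [hm, h.map_one] at h1
  rw [h1, op_id, F.obj.map_id]
  rfl

/-- The morphism of sheaves of an additive section. -/
def homOfAdd {F : BigSite.Ab Scheme.fppfPrecoverage S} (s : F.obj.obj (op Qs)) (h : IsAdd F s) : shPts Qs ⟶ F :=
  ⟨{ app := fun T => AddCommGrpCat.ofHom
      (AddMonoidHom.mk' (fun x : (shPts Qs).obj.obj T => F.obj.map (x.down.toMul).op s)
        (fun x y => h T.unop x.down.toMul y.down.toMul))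
     naturality := fun T T' φ => AddCommGrpCat.ext fun x => by
      show F.obj.map (φ.unop ≫ x.down.toMul).op s = F.obj.map φ (F.obj.map (x.down.toMul).op s)
      rw [op_comp, Functor.map_comp, ConcreteCategory.comp_apply]
      rfl }⟩

theorem app_eq {F : BigSite.Ab Scheme.fppfPrecoverage S} (φ : shPts Qs ⟶ F) {T : Over S} (x : T ⟶ Qs) :
    φ.hom.app (op T) (ptSec x) = F.obj.map x.op (φ.hom.app (op Qs) (ptSec (𝟙 Qs))) := by
  rw [← NatTrans.naturality_apply φ.hom x.op, map_ptSec, Category.comp_id]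

/-- An extension class vanishes once additive sections lift additively. -/
theorem extS_subsingleton_of_lift
    (h : ∀ (P Q : BigSite.Ab Scheme.fppfPrecoverage S) (i : G S ⟶ P) (g : P ⟶ Q) (w : i ≫ g = 0),
      (ShortComplex.mk i g w).ShortExact → ∀ σ : Q.obj.obj (op Qs), IsAdd Q σ →
        ∃ s : P.obj.obj (op Qs), g.hom.app _ s = σ ∧ IsAdd P s) :
    Subsingleton (CGrpSh.ExtS Scheme.fppfPrecoverage Qs (Red.Gm S) 1) := by
  refine subsingleton_of_forall_eq 0 fun ξ => ?_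
  let C : ShortComplex (BigSite.Ab Scheme.fppfPrecoverage S) :=
    ShortComplex.mk (Injective.ι (G S)) (cokernel.π _) (cokernel.condition _)
  have hC : C.ShortExact := { exact := ShortComplex.exact_cokernel _ }
  obtain ⟨φ, rfl⟩ := Ext.covariant_sequence_exact₁ _ hC ξ (Ext.eq_zero_of_injective _) (by rfl : 0 + 1 = 1)
  obtain ⟨φ, rfl⟩ := (Ext.mk₀_bijective _ _).2 φ
  obtain ⟨s, hs, hadd⟩ := h _ _ _ _ _ hC (φ.hom.app (op Qs) (ptSec (𝟙 Qs))) fun T x y => by
    rw [← app_eq, ← app_eq, ← app_eq, ptSec_mul, map_add]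
  have hφ : φ = homOfAdd s hadd ≫ C.g := Sheaf.hom_ext (NatTrans.ext (funext fun T => AddCommGrpCat.ext fun x => by
    show φ.hom.app T x = C.g.hom.app T (C.X₂.obj.map (x.down.toMul).op s)
    rw [NatTrans.naturality_apply C.g.hom, hs]
    exact app_eq φ x.down.toMul))
  rw [hφ, ← Ext.mk₀_comp_mk₀, Ext.comp_assoc_of_second_deg_zero, ShortComplex.ShortExact.comp_extClass,
    Ext.comp_zero]

/-- The section of a character value. -/
theorem map_gPt {T T' : Over S} (φ : T' ⟶ T) (c : T ⟶ Red.Gm S) :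
    (G S).obj.map φ.op (ptSec c) = ptSec (φ ≫ c) := rfl

/-- A normalised symmetric cocycle on a group with values in the multiplicative group. -/
structure IsSymCoc (c : Qs ⊗ Qs ⟶ Red.Gm S) : Prop where
  symm : ∀ (T : Over S) (x y : T ⟶ Qs), lift x y ≫ c = lift y x ≫ c
  coc : ∀ (T : Over S) (x y z : T ⟶ Qs),
    (lift x y ≫ c) * (lift (x * y) z ≫ c) = (lift y z ≫ c) * (lift x (y * z) ≫ c)
  norm : ∀ (T : Over S) (x : T ⟶ Qs), lift x 1 ≫ c = 1

/-- Lifts are additive after correction when symmetric cocycles split. -/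
theorem exists_isAdd_lift
    (hsplit : ∀ c : Qs ⊗ Qs ⟶ Red.Gm S, IsSymCoc c →
      ∃ χ : Qs ⟶ Red.Gm S, ∀ (T : Over S) (x y : T ⟶ Qs), (x * y) ≫ χ = (x ≫ χ) * (y ≫ χ) * (lift x y ≫ c))
    {P Q : BigSite.Ab Scheme.fppfPrecoverage S} (i : G S ⟶ P) (g : P ⟶ Q) (w : i ≫ g = 0)
    (hC : (ShortComplex.mk i g w).ShortExact) (σ : Q.obj.obj (op Qs)) (hσ : IsAdd Q σ)
    (s₀ : P.obj.obj (op Qs)) (hs₀ : g.hom.app _ s₀ = σ) :
    ∃ s : P.obj.obj (op Qs), g.hom.app _ s = σ ∧ IsAdd P s := by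
  haveI := hC.mono_f
  have hig : ∀ (U : (Over S)ᵒᵖ) (v : (G S).obj.obj U), g.hom.app U (i.hom.app U v) = 0 := fun U v =>
    app_comp_zero (C := ShortComplex.mk i g w) U v
  have hnat : ∀ {T T' : Over S} (φ : T' ⟶ T) (v : (G S).obj.obj (op T)),
      P.obj.map φ.op (i.hom.app _ v) = i.hom.app _ ((G S).obj.map φ.op v) := fun φ v =>
    (NatTrans.naturality_apply i.hom φ.op v).symm
  -- normalise at the origin
  obtain ⟨v₀, hv₀⟩ := exists_preimage_app hC _ (P.obj.map (1 : Qs ⟶ Qs).op s₀) (by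
    show g.hom.app _ _ = 0
    rw [NatTrans.naturality_apply g.hom (1 : Qs ⟶ Qs).op s₀, hs₀, hσ.map_one])
  change i.hom.app _ v₀ = _ at hv₀
  let s₁ := s₀ - i.hom.app _ v₀
  have hg₁ : g.hom.app _ s₁ = σ := by rw [map_sub, hig, sub_zero, hs₀]
  have h1 : ∀ T : Over S, P.obj.map (1 : T ⟶ Qs).op s₁ = 0 := fun T => by
    rw [map_sub, hv₀, map_map, MonObj.comp_one, sub_self]
  obtain ⟨c₀, hc₀⟩ := exists_preimage_app hC _ (P.obj.map ((fst Qs Qs) * snd Qs Qs).op s₁ -
    P.obj.map (fst Qs Qs).op s₁ - P.obj.map (snd Qs Qs).op s₁) (by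
    show g.hom.app _ _ = 0
    rw [map_sub, map_sub, NatTrans.naturality_apply g.hom ((fst Qs Qs) * snd Qs Qs).op s₁,
      NatTrans.naturality_apply g.hom (fst Qs Qs).op s₁, NatTrans.naturality_apply g.hom (snd Qs Qs).op s₁, hg₁,
      hσ (Qs ⊗ Qs)]
    abel)
  change i.hom.app _ c₀ = _ at hc₀
  let c : Qs ⊗ Qs ⟶ Red.Gm S := c₀.down.toMul
  have hc : ∀ (T : Over S) (x y : T ⟶ Qs), i.hom.app _ (ptSec (lift x y ≫ c)) =
      P.obj.map (x * y).op s₁ - P.obj.map x.op s₁ - P.obj.map y.op s₁ := fun T x y => by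
    rw [show ptSec (lift x y ≫ c) = (G S).obj.map (lift x y).op c₀ from rfl, ← hnat, hc₀, map_sub, map_sub,
      map_map, map_map, map_map, MonObj.comp_mul, lift_fst, lift_snd]
  have hinj : ∀ T : Over S, ∀ a b : T ⟶ Red.Gm S, i.hom.app _ (ptSec a) = i.hom.app _ (ptSec b) → a = b :=
    fun T a b h => Additive.ofMul.injective (congrArg ULift.down (injective_app i _ h))
  have hcc : IsSymCoc c :=
    { symm := fun T x y => hinj T _ _ (by rw [hc, hc, mul_comm x y]; abel)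
      coc := fun T x y z => hinj T _ _ (by
        rw [ptSec_mul, ptSec_mul, map_add, map_add, hc, hc, hc, hc, mul_assoc x y z]; abel)
      norm := fun T x => hinj T _ _ (by
        rw [hc, _root_.mul_one, h1, show ptSec (1 : T ⟶ Red.Gm S) = 0 from rfl, map_zero]; abel) }
  obtain ⟨χ, hχ⟩ := hsplit c hcc
  refine ⟨s₁ - i.hom.app _ (ptSec χ), by rw [map_sub, hig, sub_zero, hg₁], fun T x y => ?_⟩
  simp only [map_sub, hnat, map_gPt, hχ, ptSec_mul, map_add, hc]
  abel

/-- Extensions by the multiplicative group vanish when sections lift and symmetric cocycles split. -/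
theorem extS_subsingleton
    (hlift : ∀ (P Q : BigSite.Ab Scheme.fppfPrecoverage S) (i : G S ⟶ P) (g : P ⟶ Q) (w : i ≫ g = 0),
      (ShortComplex.mk i g w).ShortExact → ∀ σ : Q.obj.obj (op Qs), IsAdd Q σ →
        ∃ s : P.obj.obj (op Qs), g.hom.app _ s = σ)
    (hsplit : ∀ c : Qs ⊗ Qs ⟶ Red.Gm S, IsSymCoc c →
      ∃ χ : Qs ⟶ Red.Gm S, ∀ (T : Over S) (x y : T ⟶ Qs), (x * y) ≫ χ = (x ≫ χ) * (y ≫ χ) * (lift x y ≫ c)) :
    Subsingleton (CGrpSh.ExtS Scheme.fppfPrecoverage Qs (Red.Gm S) 1) :=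
  extS_subsingleton_of_lift fun P Q i g w hC σ hσ => by
    obtain ⟨s₀, hs₀⟩ := hlift P Q i g w hC σ hσ
    exact exists_isAdd_lift hsplit i g w hC σ hσ s₀ hs₀

end GmExtLib
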