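import Groth.Agent.GmExtLib.Lift

/-!
# Lifting sections that vanish on a reduction
-/

set_option autoImplicit false
set_option maxHeartbeats 1600000
universe u v

open CategoryTheory CategoryTheory.Limits AlgebraicGeometry Opposite
open AdeqLib AdeqModLib

noncomputable section

namespace GmExtLib

section alg

variable {A A' : Type u} [CommRing A] [CommRing A'] [Algebra A A']

/-- The map of localizations along an algebra, as an algebra map. -/
abbrev lr (g : A) : L g →ₐ[A] L (algebraMap A A' g) :=
  lm (show IsUnit (algebraMap A (L (algebraMap A A' g)) g) from by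
    rw [IsScalarTower.algebraMap_apply A A' (L (algebraMap A A' g))]
    exact IsLocalization.Away.algebraMap_isUnit _)

theorem lr_surjective (hs : Function.Surjective (algebraMap A A')) (g : A) :
    Function.Surjective (lr (A' := A') g) := fun y => by
  obtain ⟨k, y', hy⟩ := IsLocalization.Away.surj (algebraMap A A' g) y
  obtain ⟨x, rfl⟩ := hs y'
  obtain ⟨i, hi⟩ := (IsLocalization.Away.algebraMap_isUnit g : IsUnit (algebraMap A (L g) g)).exists_right_inv
  refine ⟨algebraMap A (L g) x * i ^ k, ?_⟩
  have hii : algebraMap A (L (algebraMap A A' g)) g * lr (A' := A') g i = 1 := by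
    rw [← AlgHom.commutes (lr (A' := A') g) g, ← map_mul, hi, map_one]
  rw [map_mul, map_pow, AlgHom.commutes, IsScalarTower.algebraMap_apply A A' (L (algebraMap A A' g)), ← hy, mul_assoc,
    ← IsScalarTower.algebraMap_apply, ← mul_pow, hii, one_pow, mul_one]

theorem isNilpotent_of_lr_eq_zero (hk : ∀ x : A, algebraMap A A' x = 0 → IsNilpotent x) (g : A) (z : L g)
    (hz : lr (A' := A') g z = 0) : IsNilpotent z := by
  obtain ⟨k, x, hx⟩ := IsLocalization.Away.surj g z
  have h1 : algebraMap A' (L (algebraMap A A' g)) (algebraMap A A' x) = algebraMap A' _ 0 := by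
    rw [map_zero, ← IsScalarTower.algebraMap_apply, ← AlgHom.commutes (lr (A' := A') g) x, ← hx, map_mul, hz,
      zero_mul]
  obtain ⟨m, hm⟩ := IsLocalization.Away.exists_of_eq (algebraMap A A' g) h1
  rw [mul_zero, ← map_pow, ← map_mul] at hm
  have h2 := (hk _ hm).map (algebraMap A (L g))
  rw [map_mul, ← hx, map_pow, mul_left_comm] at h2
  obtain ⟨w, hw⟩ := ((IsLocalization.Away.algebraMap_isUnit g : IsUnit (algebraMap A (L g) g)).pow m).mul
    ((IsLocalization.Away.algebraMap_isUnit g : IsUnit (algebraMap A (L g) g)).pow k)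
  rw [← hw] at h2
  simpa using (Commute.all _ _).isNilpotent_mul_right (y := ((w⁻¹ : (L g)ˣ) : L g)) h2

/-- A preimage of a unit of the reduction is a unit. -/
theorem isUnit_surjInv (hs : Function.Surjective (algebraMap A A'))
    (hk : ∀ x : A, algebraMap A A' x = 0 → IsNilpotent x) (g : A) (v : (L (algebraMap A A' g))ˣ) :
    IsUnit (Function.surjInv (lr_surjective (A' := A') hs g) (v : L (algebraMap A A' g))) := by
  obtain ⟨w, hw⟩ := lr_surjective (A' := A') hs g ((v⁻¹ : (L (algebraMap A A' g))ˣ) : L (algebraMap A A' g))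
  have hn := isNilpotent_of_lr_eq_zero hk g
    (Function.surjInv (lr_surjective (A' := A') hs g) (v : L (algebraMap A A' g)) * w - 1) (by
    rw [map_sub, map_mul, map_one, hw, Function.surjInv_eq (lr_surjective (A' := A') hs g), Units.mul_inv, sub_self])
  exact isUnit_of_mul_isUnit_left (y := w) (by simpa using hn.isUnit_one_add)

/-- A cocycle whose reduction is a coboundary is one. -/
theorem isCob_of_reduction {κ : Type v} [Finite κ] {f : κ → A} (hspan : Ideal.span (Set.range f) = ⊤)
    {a : ∀ i j, (L (f i * f j))ˣ} (ha : IsCoc a) (hs : Function.Surjective (algebraMap A A'))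
    (hk : ∀ x : A, algebraMap A A' x = 0 → IsNilpotent x) (v : ∀ i, (L (algebraMap A A' (f i)))ˣ)
    (heq : ∀ i j, lr (A' := A') (f i * f j) (a i j : L (f i * f j)) *
      lr (A' := A') (f i * f j) (mr (f i) (f j) (Function.surjInv (lr_surjective hs (f j)) (v j))) =
      lr (A' := A') (f i * f j) (ml (f i) (f j) (Function.surjInv (lr_surjective hs (f i)) (v i)))) :
    IsCob a := by
  let e : ∀ i, L (f i) := fun i => Function.surjInv (lr_surjective (A' := A') hs (f i)) (v i)
  have he : ∀ i, IsUnit (e i) := fun i => isUnit_surjInv hs hk (f i) (v i)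
  refine IsCob.of_twist (fun i => (he i).unit) (isCob_of_nilpotent hspan (ha.twist _) fun i j => ?_)
  refine isNilpotent_of_lr_eq_zero hk _ _ ?_
  rw [map_sub, map_one, sub_eq_zero]
  simp only [Units.val_mul, val_um, IsUnit.unit_spec, map_mul]
  rw [heq i j, ← map_mul]
  exact (congrArg (lr (A' := A') (f i * f j)) (Units.mul_inv (um (ml (f i) (f j)) (he i).unit))).trans (map_one _)

end alg

variable {S : Scheme.{u}} {A : CommRingCat.{u}} (b : Spec A ⟶ S)
  {P Q : BigSite.Ab Scheme.fppfPrecoverage S} {i : G S ⟶ P} {g : P ⟶ Q} {w : i ≫ g = 0}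

/-- A section vanishing on a reduction lifts. -/
theorem exists_lift_of_nil (hC : (ShortComplex.mk i g w).ShortExact) {A' : Type u} [CommRing A'] [Algebra A A']
    (hs : Function.Surjective (algebraMap A A')) (hk : ∀ x : A, algebraMap A A' x = 0 → IsNilpotent x)
    (s : Q.obj.obj (op (top b))) (h0 : Q.obj.map (amap b (Algebra.ofId A A')).op s = 0) :
    ∃ t : P.obj.obj (op (top b)), g.hom.app _ t = s := by
  haveI := hC.mono_f
  obtain ⟨n, f, hspan, d, hd⟩ := exists_lifts b hC s
  obtain ⟨a, ha, hai⟩ := exists_cocycle b hC s d hd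
  have hv : ∀ k, ∃ v : (L (algebraMap A A' (f k)))ˣ,
      i.hom.app _ (aSec b _ v) = P.obj.map (amap b (lr (A' := A') (f k))).op (d k) := fun k => by
    obtain ⟨y, hy⟩ := exists_preimage_app hC _ (P.obj.map (amap b (lr (A' := A') (f k))).op (d k)) (by
      show g.hom.app _ _ = 0
      rw [NatTrans.naturality_apply g.hom (amap b (lr (A' := A') (f k))).op (d k), hd, map_map, amap_comp,
        Subsingleton.elim ((lr (A' := A') (f k)).comp (Algebra.ofId A (L (f k))))
          ((IsScalarTower.toAlgHom A A' (L (algebraMap A A' (f k)))).comp (Algebra.ofId A A')),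
        ← amap_comp, ← map_map, h0, map_zero])
    obtain ⟨v, rfl⟩ := (aSec_bijective b _).2 y
    exact ⟨v, hy⟩
  choose v hv using hv
  refine lift_of_isCob b hC hspan s d hd hai (isCob_of_reduction hspan ha hs hk v fun k l => ?_)
  let lrk := lr (A' := A') (f k * f l)
  have hu : ∀ (m : Fin n) (φ : L (f m) →ₐ[A] L (f k * f l)) (z : (L (f m))ˣ),
      lr (A' := A') (f m) (z : L (f m)) = (v m : L (algebraMap A A' (f m))) →
        i.hom.app _ (aSec b _ (Units.map (lrk.comp φ).toRingHom.toMonoidHom z)) =
          P.obj.map (amap b lrk).op (P.obj.map (amap b φ).op (d m)) := fun m φ z hz => by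
    have hunit : IsUnit (algebraMap A' (L (algebraMap A A' (f k * f l))) (algebraMap A A' (f m))) := by
      rw [← IsScalarTower.algebraMap_apply, ← AlgHom.commutes (lrk.comp φ)]
      exact (IsLocalization.Away.algebraMap_isUnit (f m)).map _
    let ψ : L (algebraMap A A' (f m)) →ₐ[A] L (algebraMap A A' (f k * f l)) := (lm hunit).restrictScalars A
    have e : lrk.comp φ = ψ.comp (lr (A' := A') (f m)) := hom_eq _ _
    have e2 : Units.map (lrk.comp φ).toRingHom.toMonoidHom z = Units.map ψ.toRingHom.toMonoidHom (v m) := by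
      rw [e]
      exact Units.ext (congrArg ψ hz)
    rw [map_map, amap_comp, e2, ← map_aSec, NatTrans.naturality_apply i.hom (amap b ψ).op, hv, map_map, amap_comp, e]
  have hpre := fun m => isUnit_surjInv (A' := A') hs hk (f m) (v m)
  have key : Units.map lrk.toRingHom.toMonoidHom (a k l) *
      Units.map (lrk.comp (mr (f k) (f l))).toRingHom.toMonoidHom (hpre l).unit =
      Units.map (lrk.comp (ml (f k) (f l))).toRingHom.toMonoidHom (hpre k).unit := by
    refine (aSec_bijective b _).1 (injective_app i _ ?_)
    rw [aSec_mul, map_add, hu l (mr (f k) (f l)) (hpre l).unit (Function.surjInv_eq (lr_surjective (A' := A') hs (f l)) _),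
      hu k (ml (f k) (f l)) (hpre k).unit (Function.surjInv_eq (lr_surjective (A' := A') hs (f k)) _), ← map_aSec,
      NatTrans.naturality_apply i.hom (amap b lrk).op, hai, map_sub, sub_add_cancel]
  exact congrArg Units.val key

end GmExtLib
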