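import Groth.Agent.GaDualLib.Split

/-!
# Splitting truncated symmetric multiplicative cocycles
-/

set_option autoImplicit false
set_option maxHeartbeats 1600000

namespace GmExtLib.Trunc

open MvPolynomial GaDualLib

universe u

variable {R : Type u} [CommRing R]

/-- The truncation ideal. -/
noncomputable abbrev J (k q : ℕ) (R : Type u) [CommRing R] : Ideal (MvPolynomial (Fin k) R) :=
  Ideal.span (Set.range fun t : Fin k => (X t : MvPolynomial (Fin k) R) ^ q)

/-- Congruence modulo the truncation ideal. -/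
abbrev Eqv {k : ℕ} (q : ℕ) (P Q : MvPolynomial (Fin k) R) : Prop :=
  Ideal.Quotient.mk (J k q R) P = Ideal.Quotient.mk (J k q R) Q

theorem coeff_eq_of_eqv {k q : ℕ} {P Q : MvPolynomial (Fin k) R} (h : Eqv q P Q) (d : Fin k →₀ ℕ)
    (hd : ∀ t, d t < q) : coeff d P = coeff d Q := by
  obtain ⟨c, hc⟩ := Ideal.mem_span_range_iff_exists_fun.1 (Ideal.Quotient.eq.1 h)
  rw [← sub_eq_zero, ← coeff_sub, ← hc, coeff_sum]
  refine Finset.sum_eq_zero fun t _ => ?_
  rw [X_pow_eq_monomial, coeff_mul_monomial', if_neg]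
  intro hle
  have := hle t
  rw [Finsupp.single_eq_same] at this
  exact absurd this (not_le.2 (hd t))

open Classical in
/-- The part supported in the box. -/
noncomputable def box {k : ℕ} (q : ℕ) (P : MvPolynomial (Fin k) R) : MvPolynomial (Fin k) R :=
  ∑ d ∈ P.support with (∀ t, d t < q), monomial d (coeff d P)

open Classical in
theorem coeff_box {k : ℕ} (q : ℕ) (P : MvPolynomial (Fin k) R) (d : Fin k →₀ ℕ) :
    coeff d (box q P) = if ∀ t, d t < q then coeff d P else 0 := by
  rw [box, coeff_sum]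
  simp only [coeff_monomial, Finset.sum_ite_eq', Finset.mem_filter, mem_support_iff]
  split_ifs with h1 h2 h3
  · rfl
  · exact absurd h1.2 h2
  · by_contra hne; exact h1 ⟨fun h0 => hne h0.symm, h3⟩
  · rfl

theorem eqv_box {k : ℕ} (q : ℕ) (P : MvPolynomial (Fin k) R) : Eqv q (box q P) P := by
  classical
  have h : P = box q P + ∑ d ∈ P.support with ¬ (∀ t, d t < q), monomial d (coeff d P) := by
    rw [box, Finset.sum_filter_add_sum_filter_not, ← as_sum]
  conv_rhs => rw [h]
  rw [Eqv, map_add, map_sum, Finset.sum_eq_zero, add_zero]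
  intro d hd
  obtain ⟨t, ht⟩ := not_forall.1 (Finset.mem_filter.1 hd).2
  rw [Ideal.Quotient.eq_zero_iff_mem]
  rw [show d = Finsupp.single t q + (d - Finsupp.single t q) from (add_tsub_cancel_of_le (by
    rw [Finsupp.single_le_iff]; omega)).symm, monomial_single_add]
  exact Ideal.mul_mem_right _ _ (Ideal.subset_span ⟨t, rfl⟩)

theorem eqv_aeval {k m q : ℕ} (g : Fin k → MvPolynomial (Fin m) R) (hg : ∀ t, Eqv q (g t ^ q) 0)
    {P Q : MvPolynomial (Fin k) R} (h : Eqv q P Q) : Eqv q (aeval g P) (aeval g Q) := by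
  have hle : J k q R ≤ Ideal.comap (aeval g) (J m q R) := Ideal.span_le.2 (by
    rintro _ ⟨t, rfl⟩
    show aeval g ((X t : MvPolynomial (Fin k) R) ^ q) ∈ J m q R
    rw [map_pow, aeval_X]
    exact Ideal.Quotient.eq_zero_iff_mem.1 ((hg t).trans (map_zero _)))
  rw [Eqv, Ideal.Quotient.eq, ← map_sub]
  exact hle (Ideal.Quotient.eq.1 h)

theorem eqv_X {k q : ℕ} (t : Fin k) : Eqv q ((X t : MvPolynomial (Fin k) R) ^ q) 0 := by
  rw [Eqv, map_zero]
  exact Ideal.Quotient.eq_zero_iff_mem.2 (Ideal.subset_span ⟨t, rfl⟩)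

theorem eqv_add {k p n : ℕ} [Fact p.Prime] (hp : (p : R) = 0) {a b : MvPolynomial (Fin k) R}
    (ha : Eqv (p ^ n) (a ^ p ^ n) 0) (hb : Eqv (p ^ n) (b ^ p ^ n) 0) : Eqv (p ^ n) ((a + b) ^ p ^ n) 0 := by
  obtain ⟨r, hr⟩ := exists_add_pow_prime_pow_eq (Fact.out : p.Prime) a b n
  rw [Eqv, hr, ← map_natCast (C : R →+* MvPolynomial (Fin k) R), hp, map_zero, zero_mul, zero_mul, zero_mul,
    add_zero, map_add, ha, hb, map_zero, add_zero]

/-- A cocycle modulo the truncation. -/
def IsCocQ (q : ℕ) (h : MvPolynomial (Fin 2) R) : Prop :=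
  Eqv q (swp h) h ∧ Eqv q (p23 h * q1 h) (q2 h * p12 h)

variable {p n : ℕ} [Fact p.Prime]

theorem IsCocQ.congr (hp : (p : R) = 0) {h h' : MvPolynomial (Fin 2) R} (hh : IsCocQ (p ^ n) h)
    (e : Eqv (p ^ n) h' h) : IsCocQ (p ^ n) h' := by
  have h1 : Eqv (p ^ n) (swp h') (swp h) := eqv_aeval _ (by intro t; fin_cases t <;> exact eqv_X _) e
  have h2 : Eqv (p ^ n) (p23 h') (p23 h) := eqv_aeval _ (by intro t; fin_cases t <;> exact eqv_X _) e
  have h3 : Eqv (p ^ n) (p12 h') (p12 h) := eqv_aeval _ (by intro t; fin_cases t <;> exact eqv_X _) e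
  have h4 : Eqv (p ^ n) (q1 h') (q1 h) := eqv_aeval _ (by
    intro t
    fin_cases t
    · exact eqv_X _
    · exact eqv_add hp (eqv_X _) (eqv_X _)) e
  have h5 : Eqv (p ^ n) (q2 h') (q2 h) := eqv_aeval _ (by
    intro t
    fin_cases t
    · exact eqv_add hp (eqv_X _) (eqv_X _)
    · exact eqv_X _) e
  refine ⟨h1.trans (hh.1.trans e.symm), ?_⟩
  have h6 := hh.2
  simp only [Eqv, map_mul] at h2 h3 h4 h5 h6 ⊢
  rw [h2, h3, h4, h5]
  exact h6

theorem IsCocQ.mul {q : ℕ} {h h' : MvPolynomial (Fin 2) R} (hh : IsCocQ q h) (hh' : IsCocQ q h') :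
    IsCocQ q (h * h') := by
  obtain ⟨a, b⟩ := hh
  obtain ⟨a', b'⟩ := hh'
  simp only [IsCocQ, Eqv, map_mul] at a b a' b' ⊢
  exact ⟨by rw [a, a'], by rw [mul_mul_mul_comm, b, b', mul_mul_mul_comm]⟩

/-- Coefficients of low degree in the box vanish. -/
def Van {k : ℕ} (q m : ℕ) (P : MvPolynomial (Fin k) R) : Prop :=
  ∀ d : Fin k →₀ ℕ, (∀ t, d t < q) → ∑ t, d t < m → coeff d P = 0

theorem Van.coeff_mul {k q m : ℕ} {P : MvPolynomial (Fin k) R} (hP : Van q m P) (Q : MvPolynomial (Fin k) R)
    {d : Fin k →₀ ℕ} (hd : ∀ t, d t < q) (hdm : ∑ t, d t ≤ m) : coeff d (P * Q) = coeff d P * coeff 0 Q := by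
  classical
  rw [MvPolynomial.coeff_mul, Finset.sum_eq_single (d, 0)]
  · rintro ⟨a, c⟩ hac hne
    rw [Finset.HasAntidiagonal.mem_antidiagonal] at hac
    obtain rfl := hac
    rw [hP a (fun t => lt_of_le_of_lt (Nat.le_add_right _ _) (hd t)) ?_, zero_mul]
    by_contra hm
    have hsum : ∑ t, c t = 0 := by
      rw [Finset.sum_congr rfl (fun t _ => Finsupp.add_apply a c t), Finset.sum_add_distrib] at hdm
      omega
    obtain rfl : c = 0 := Finsupp.ext fun t => Finset.sum_eq_zero_iff.1 hsum t (Finset.mem_univ t)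
    exact hne (by rw [add_zero])
  · intro h
    refine absurd ?_ h
    rw [Finset.HasAntidiagonal.mem_antidiagonal, add_zero]

/-- The box condition on two exponents. -/
theorem box_e2 {q i j : ℕ} (hi : i < q) (hj : j < q) : ∀ t, e2 i j t < q := by
  intro t; fin_cases t <;> simp [e2, hi, hj]

theorem sum_e2 (i j : ℕ) : ∑ t, e2 i j t = i + j := by simp [e2, Fin.sum_univ_two]

theorem e3_eta (d : Fin 3 →₀ ℕ) : d = e3 (d 0) (d 1) (d 2) := by ext t; fin_cases t <;> simp [e3]

theorem sum_e3 (i j l : ℕ) : ∑ t, e3 i j l t = i + j + l := by simp [e3, Fin.sum_univ_three]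

variable [Algebra (ZMod p) R]

/-- The lowest component of a truncated cocycle is a linear cocycle. -/
theorem isLinCoc_lowest {q m : ℕ} (hm : 1 ≤ m) {N : MvPolynomial (Fin 2) R} (hbox : box q N = N) (hN : Van q m N)
    (hc : IsCocQ q (1 + N)) :
    IsLinCoc p fun i j => if i + j = m then coeff (e2 i j) N else 0 := by
  have hout : ∀ i j, ¬ (i < q ∧ j < q) → coeff (e2 i j) N = 0 := fun i j h => by
    rw [← hbox, coeff_box, if_neg]
    intro hall
    exact h ⟨by simpa [e2] using hall 0, by simpa [e2] using hall 1⟩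
  have hlow : ∀ i j, i + j < m → coeff (e2 i j) N = 0 := fun i j h => by
    by_cases hb : i < q ∧ j < q
    · exact hN _ (box_e2 hb.1 hb.2) (by rwa [sum_e2])
    · exact hout i j hb
  refine ⟨fun i j => ?_, fun i j l => ?_⟩
  · show (if i + j = m then _ else _) = (if j + i = m then _ else _)
    rw [add_comm j i]
    split_ifs with h
    · by_cases hb : i < q ∧ j < q
      · have h1 := coeff_eq_of_eqv hc.1 (e2 i j) (box_e2 hb.1 hb.2)
        rw [map_add, map_one, coeff_add, coeff_add, coeff_swp] at h1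
        exact (add_left_cancel h1).symm
      · rw [hout i j hb, hout j i (fun h => hb h.symm)]
    · rfl
  · simp only [Algebra.smul_def, map_natCast]
    by_cases hdeg : i + j + l = m
    · by_cases hb : i < q ∧ j < q ∧ l < q
      · have hb3 : ∀ t, e3 i j l t < q := by
          intro t; fin_cases t <;> simp [e3, hb.1, hb.2.1, hb.2.2]
        have hv23 : Van q m (p23 N) := fun d _ hlt => by
          rw [e3_eta d, coeff_p23]
          rw [Fin.sum_univ_three] at hlt
          split_ifs
          · exact hlow _ _ (by omega)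
          · rfl
        have hv2 : Van q m (q2 N) := fun d _ hlt => by
          rw [e3_eta d, coeff_q2, hlow _ _ (by rw [Fin.sum_univ_three] at hlt; omega), mul_zero]
        have hv1 : coeff (0 : Fin 3 →₀ ℕ) (q1 N) = 0 := by
          rw [show (0 : Fin 3 →₀ ℕ) = e3 0 0 0 by simp [e3], coeff_q1, hlow _ _ (by omega), mul_zero]
        have hv12 : coeff (0 : Fin 3 →₀ ℕ) (p12 N) = 0 := by
          rw [show (0 : Fin 3 →₀ ℕ) = e3 0 0 0 by simp [e3], coeff_p12, if_pos rfl, hlow _ _ (by omega)]
        have h1 := coeff_eq_of_eqv hc.2 (e3 i j l) hb3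
        simp only [map_add, map_one, mul_add, add_mul, one_mul, mul_one, coeff_add] at h1
        rw [hv23.coeff_mul _ hb3 (by rw [sum_e3, hdeg]), hv2.coeff_mul _ hb3 (by rw [sum_e3, hdeg]), hv1, hv12,
          mul_zero, mul_zero, coeff_p23, coeff_q1, coeff_q2, coeff_p12] at h1
        split_ifs at h1 ⊢ <;> first | (exfalso; omega) | linear_combination h1
      · have hz : ∀ a c, a + c = m → (q ≤ a ∨ q ≤ c) → (if a + c = m then coeff (e2 a c) N else 0) = 0 :=
          fun a c h hac => by rw [if_pos h, hout a c (by omega)]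
        rw [hz i (j + l) (by omega) (by omega), hz (i + j) l (by omega) (by omega)]
        split_ifs <;> simp <;> first | omega | (rw [hout]; omega) | (rw [hout, hout] <;> omega)
    · have hz : ∀ a c, a + c = i + j + l → (if a + c = m then coeff (e2 a c) N else 0) = 0 :=
        fun a c h => if_neg (by omega)
      rw [hz i (j + l) (by omega), hz (i + j) l rfl]
      split_ifs <;> simp <;> omega

omit [Algebra (ZMod p) R] in
/-- Truncated coboundaries are truncated cocycles. -/
theorem isCocQ_coboundary (hp : (p : R) = 0) (f g : Polynomial R)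
    (hg : ∀ x : MvPolynomial (Fin 2) R, Eqv (p ^ n) (x ^ p ^ n) 0 →
      Eqv (p ^ n) (Polynomial.aeval x f * Polynomial.aeval x g) 1) :
    IsCocQ (p ^ n) (Polynomial.aeval (X 0) f * Polynomial.aeval (X 1) f *
      Polynomial.aeval (X 0 + X 1 : MvPolynomial (Fin 2) R) g) := by
  have h0 : Eqv (p ^ n) (Polynomial.aeval (X 0 + X 1 : MvPolynomial (Fin 2) R) f *
      Polynomial.aeval (X 0 + X 1) g) 1 := hg _ (eqv_add hp (eqv_X _) (eqv_X _))
  have h1 : ∀ s : Fin 2 → MvPolynomial (Fin 3) R, (∀ t, Eqv (p ^ n) (s t ^ p ^ n) 0) →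
      Eqv (p ^ n) (Polynomial.aeval (s 0 + s 1) f * Polynomial.aeval (s 0 + s 1) g) 1 := fun s hs => by
    have h := eqv_aeval s hs h0
    simp only [map_mul, ← Polynomial.aeval_algHom_apply, map_add, aeval_X, map_one] at h
    rw [Eqv, map_mul]; exact h
  refine ⟨?_, ?_⟩
  · rw [Eqv]
    simp only [map_mul, swp, ← Polynomial.aeval_algHom_apply, map_add, aeval_X, Matrix.cons_val_zero,
      Matrix.cons_val_one]
    rw [add_comm (X 1 : MvPolynomial (Fin 2) R) (X 0), mul_comm (Ideal.Quotient.mk _ _) (Ideal.Quotient.mk _ _)]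
  · have e23 := h1 ![X 1, X 2] (by intro t; fin_cases t <;> exact eqv_X _)
    have e12 := h1 ![X 0, X 1] (by intro t; fin_cases t <;> exact eqv_X _)
    simp only [Eqv, map_mul, map_one, Matrix.cons_val_zero, Matrix.cons_val_one] at e23 e12
    rw [Eqv]
    simp only [map_mul, p12, p23, q1, q2, ← Polynomial.aeval_algHom_apply, map_add, aeval_X, Matrix.cons_val_zero,
      Matrix.cons_val_one]
    rw [add_assoc (X 0 : MvPolynomial (Fin 3) R) (X 1) (X 2)]
    linear_combination (Ideal.Quotient.mk (J 3 (p ^ n) R) (Polynomial.aeval (X 0) f) *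
      Ideal.Quotient.mk (J 3 (p ^ n) R) (Polynomial.aeval (X 1) f) *
      Ideal.Quotient.mk (J 3 (p ^ n) R) (Polynomial.aeval (X 2) f) *
      Ideal.Quotient.mk (J 3 (p ^ n) R) (Polynomial.aeval (X 0 + (X 1 + X 2)) g)) * (e23 - e12)

variable (hp : (p : R) = 0)
include hp

/-- An approximate inverse coboundary. -/
theorem exists_coboundary_step {m : ℕ} (hm : 1 ≤ m) (hroot : ∀ r : R, ∃ a, a ^ p = r)
    {N : MvPolynomial (Fin 2) R} (hbox : box (p ^ n) N = N) (hN : Van (p ^ n) m N)
    (hc : IsCocQ (p ^ n) (1 + N)) :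
    ∃ f : Polynomial R, f.coeff 0 = 1 ∧
      Van (p ^ n) m (Polynomial.aeval (X 0 : MvPolynomial (Fin 2) R) f * Polynomial.aeval (X 1) f -
        Polynomial.aeval (X 0 + X 1) f) ∧
      ∀ i j, i < p ^ n → j < p ^ n → i + j = m →
        coeff (e2 i j) (Polynomial.aeval (X 0 : MvPolynomial (Fin 2) R) f * Polynomial.aeval (X 1) f -
          Polynomial.aeval (X 0 + X 1) f) =
          - coeff (e2 i j) N := by
  classical
  have hpp := (Fact.out : p.Prime)
  rcases lazard m hm (isLinCoc_lowest (p := p) hm hbox hN hc) with ⟨g, hg⟩ | ⟨k, r, rfl, hr⟩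
  · refine ⟨1 + Polynomial.C g * Polynomial.X ^ m, ?_, ?_⟩
    · rw [Polynomial.coeff_add, Polynomial.coeff_one_zero, Polynomial.coeff_C_mul_X_pow, if_neg (by omega), add_zero]
    set D := Polynomial.aeval (X 0 : MvPolynomial (Fin 2) R) (1 + Polynomial.C g * Polynomial.X ^ m) *
      Polynomial.aeval (X 1) (1 + Polynomial.C g * Polynomial.X ^ m) -
      Polynomial.aeval (X 0 + X 1) (1 + Polynomial.C g * Polynomial.X ^ m) with hD
    have key : ∀ i j, i + j ≤ m → coeff (e2 i j) D =
        if i + j = m ∧ 0 < i ∧ 0 < j then -((m.choose i : R) * g) else 0 := fun i j hij => by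
      have hD' : D = monomial (e2 m 0) g + monomial (e2 0 m) g + monomial (e2 m m) (g * g) -
          ∑ a ∈ Finset.range (m + 1), monomial (e2 a (m - a)) (g * (m.choose a : R)) := by
        have h1 : ∑ a ∈ Finset.range (m + 1), monomial (e2 a (m - a)) (g * (m.choose a : R)) =
            C g * (X 0 + X 1 : MvPolynomial (Fin 2) R) ^ m := by
          simp only [add_pow, Finset.mul_sum, monomial_e2, map_mul, map_natCast]
          exact Finset.sum_congr rfl fun a _ => by ring
        rw [hD, h1, monomial_e2, monomial_e2, monomial_e2]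
        simp only [map_add, map_one, map_mul, map_pow, Polynomial.aeval_C, Polynomial.aeval_X, algebraMap_eq,
          pow_zero, mul_one]
        ring
      rw [hD', coeff_sub, coeff_add, coeff_add, coeff_sum]
      simp only [coeff_monomial, e2_inj]
      rw [if_neg (show ¬(m = i ∧ m = j) by omega), add_zero]
      by_cases hm' : i + j = m
      · rw [Finset.sum_eq_single i (fun b _ hb => if_neg fun h => hb h.1)
          (fun hi => absurd (Finset.mem_range.2 (by omega)) hi),
          if_pos (show i = i ∧ m - i = j from ⟨rfl, by omega⟩)]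
        rcases Nat.eq_zero_or_pos i with rfl | hi
        · rw [if_neg (by omega), if_pos ⟨rfl, by omega⟩, if_neg (by omega)]; simp
        rcases Nat.eq_zero_or_pos j with rfl | hj
        · obtain rfl : m = i := by omega
          rw [if_pos ⟨rfl, rfl⟩, if_neg (by omega), if_neg (by omega)]
          simp
        · rw [if_neg (by omega), if_neg (by omega), if_pos ⟨hm', hi, hj⟩]; ring
      · rw [Finset.sum_eq_zero (fun b hb => if_neg fun h => by
          have := Finset.mem_range.1 hb; omega), if_neg (by omega), if_neg (by omega), if_neg (by omega)]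
        ring
    refine ⟨fun d _ hdm => ?_, fun i j hi hj hij => ?_⟩
    · rw [e2_eta d, key _ _ (by rw [Fin.sum_univ_two] at hdm; omega), if_neg (by
        rw [Fin.sum_univ_two] at hdm; omega)]
    · have h := hg i j hij
      rw [if_pos hij] at h
      rw [key i j (le_of_eq hij), h]
      simp only [hij, true_and, Algebra.smul_def, map_natCast]
      split_ifs <;> simp
  · obtain ⟨a, ha⟩ := hroot (-r)
    have hq : 0 < p ^ k := pow_pos hpp.pos k
    set z : Polynomial R := Polynomial.C a * Polynomial.X ^ p ^ k with hz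
    refine ⟨Polynomial.aeval z (E0 p), ?_, ?_⟩
    · obtain ⟨s, hs⟩ : Polynomial.X ∣ E0 p - 1 := by
        rw [Polynomial.X_dvd_iff, Polynomial.coeff_sub, E0_coeff, Polynomial.coeff_one_zero, κ, if_pos hpp.pos]
        simp
      rw [show E0 p = 1 + Polynomial.X * s by rw [← hs]; ring, map_add, map_one, map_mul, Polynomial.aeval_X,
        Polynomial.coeff_add, Polynomial.coeff_one_zero, Polynomial.mul_coeff_zero, hz, Polynomial.coeff_C_mul_X_pow,
        if_neg (by omega), zero_mul, add_zero]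
    let θ' := θ (p := p) R a (p ^ k)
    have hθ : ∀ v : MvPolynomial (Fin 2) R, ∀ w : MvPolynomial (Fin 2) (ZMod p),
        Polynomial.aeval v z = θ' w →
          Polynomial.aeval v (Polynomial.aeval z (E0 p)) = θ' (Polynomial.aeval w (E0 p)) := fun v w hvw => by
      rw [← Polynomial.aeval_algHom_apply θ' w, ← hvw]
      exact (Polynomial.aeval_algHom_apply
        ((Polynomial.aeval v : Polynomial R →ₐ[R] _).restrictScalars (ZMod p)) z (E0 p)).symm
    have hchar : ∀ x y : MvPolynomial (Fin 2) R, (x + y) ^ p ^ k = x ^ p ^ k + y ^ p ^ k := fun x y => by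
      obtain ⟨s, hs⟩ := exists_add_pow_prime_pow_eq hpp x y k
      rw [hs, ← map_natCast (C : R →+* MvPolynomial (Fin 2) R), hp, map_zero, zero_mul, zero_mul, zero_mul, add_zero]
    have hD : Polynomial.aeval (X 0 : MvPolynomial (Fin 2) R) (Polynomial.aeval z (E0 p)) *
        Polynomial.aeval (X 1) (Polynomial.aeval z (E0 p)) - Polynomial.aeval (X 0 + X 1) (Polynomial.aeval z (E0 p)) =
          θ' (D0 p) := by
      rw [hθ (X 0) (X 0) (by simp [hz, θ', θ]), hθ (X 1) (X 1) (by simp [hz, θ', θ]),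
        hθ (X 0 + X 1) (X 0 + X 1) (by simp [hz, θ', θ, hchar, mul_add]), D0, map_sub, map_mul]
    rw [hD]
    have key : ∀ i j, i + j ≤ p ^ (k + 1) → coeff (e2 i j) (θ' (D0 p)) =
        if i + j = p ^ (k + 1) then algebraMap (ZMod p) R (W p (p ^ k) i) * a ^ p else 0 := fun i j hij => by
      by_cases hd : p ^ k ∣ i ∧ p ^ k ∣ j
      · obtain ⟨⟨x, rfl⟩, ⟨y, rfl⟩⟩ := hd
        have hxy : x + y ≤ p := by
          refine Nat.le_of_mul_le_mul_left ?_ hq
          rw [mul_add, ← pow_succ]; exact hij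
        have hiff : p ^ k * x + p ^ k * y = p ^ (k + 1) ↔ x + y = p := by
          rw [← mul_add, pow_succ]
          exact ⟨fun h => Nat.eq_of_mul_eq_mul_left hq h, fun h => by rw [h]⟩
        rw [coeff_θ a hq, if_pos ⟨dvd_mul_right _ x, dvd_mul_right _ y⟩, Nat.mul_div_cancel_left _ hq,
          Nat.mul_div_cancel_left _ hq, coeff_D0 x y hxy]
        by_cases h : x + y = p
        · rw [if_pos h, if_pos (hiff.2 h), h, W, if_pos (dvd_mul_right _ x), Nat.mul_div_cancel_left _ hq,
            show p - x = y by omega]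
        · rw [if_neg h, if_neg (mt hiff.1 h), map_zero, zero_mul]
      · rw [coeff_θ a hq, if_neg hd]
        split_ifs with h
        · have hni : ¬ p ^ k ∣ i := fun hi => hd ⟨hi, (Nat.dvd_add_right hi).1 (by
            rw [h, pow_succ]; exact dvd_mul_right _ _)⟩
          rw [W, if_neg hni, map_zero, zero_mul]
        · rfl
    refine ⟨fun d _ hdm => ?_, fun i j hi hj hij => ?_⟩
    · rw [e2_eta d, key _ _ (by rw [Fin.sum_univ_two] at hdm; omega), if_neg (by
        rw [Fin.sum_univ_two] at hdm; omega)]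
    · have h := hr i j hij
      rw [if_pos hij] at h
      rw [key i j (le_of_eq hij), if_pos hij, h, ha]
      split_ifs with h'
      · rw [Algebra.smul_def]; ring
      · have hz' : W p (p ^ k) i = 0 := by
          rcases Nat.eq_zero_or_pos i with rfl | hi'
          · simp [W, κ]
          · obtain rfl : j = 0 := by omega
            rw [add_zero] at hij
            subst hij
            simp [W, κ, pow_succ, Nat.mul_div_cancel_left _ (pow_pos hpp.pos k)]
        rw [hz']; simp

/-- A truncated cocycle congruent to one in low degrees splits. -/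
theorem exists_split_of_van (hroot : ∀ r : R, ∃ a, a ^ p = r) (c : ℕ) :
    ∀ m, 1 ≤ m → m + c = 2 * p ^ n → ∀ h : MvPolynomial (Fin 2) R, IsCocQ (p ^ n) h → Van (p ^ n) m (h - 1) →
      ∃ f : Polynomial R, f.coeff 0 = 1 ∧
        Eqv (p ^ n) (h * (Polynomial.aeval (X 0 : MvPolynomial (Fin 2) R) f * Polynomial.aeval (X 1) f))
          (Polynomial.aeval (X 0 + X 1) f) := by
  classical
  induction c with
  | zero =>
    intro m _ hm h _ hv
    refine ⟨1, Polynomial.coeff_one_zero, ?_⟩
    rw [map_one, map_one, map_one, mul_one, mul_one, Eqv, ← sub_eq_zero, ← map_sub]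
    rw [← eqv_box (p ^ n) (h - 1), show box (p ^ n) (h - 1) = 0 from MvPolynomial.ext _ _ fun d => ?_, map_zero]
    rw [coeff_box, coeff_zero]
    split_ifs with hd
    · refine hv d hd ?_
      have := hd 0; have := hd 1
      rw [Fin.sum_univ_two]; omega
    · rfl
  | succ c IH =>
    intro m hm hmc h hh hv
    set N := box (p ^ n) (h - 1) with hNdef
    have hN1 : Eqv (p ^ n) (1 + N) h := by
      rw [Eqv, map_add, hNdef, eqv_box, ← map_add, add_sub_cancel]
    have hbox : box (p ^ n) N = N := MvPolynomial.ext _ _ fun d => by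
      rw [hNdef, coeff_box, coeff_box]; split_ifs <;> rfl
    have hNv : Van (p ^ n) m N := fun d hd hlt => by rw [hNdef, coeff_box, if_pos hd]; exact hv d hd hlt
    obtain ⟨f, hf0, hfv, hfm⟩ := exists_coboundary_step hp hm hroot hbox hNv (hh.congr hp hN1)
    set D := Polynomial.aeval (X 0 : MvPolynomial (Fin 2) R) f * Polynomial.aeval (X 1) f -
      Polynomial.aeval (X 0 + X 1) f with hD
    obtain ⟨g, hg, hg0⟩ : ∃ g : Polynomial R, (∀ x : MvPolynomial (Fin 2) R, Eqv (p ^ n) (x ^ p ^ n) 0 →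
        Eqv (p ^ n) (Polynomial.aeval x f * Polynomial.aeval x g) 1) ∧ g.coeff 0 = 1 := by
      refine ⟨∑ s ∈ Finset.range (p ^ n), (1 - f) ^ s, fun x hx => ?_, ?_⟩
      · obtain ⟨r, hr⟩ : Polynomial.X ∣ 1 - f := by rw [Polynomial.X_dvd_iff]; simp [hf0]
        have e : f * ∑ s ∈ Finset.range (p ^ n), (1 - f) ^ s = 1 - (1 - f) ^ p ^ n := by
          rw [← mul_neg_geom_sum (1 - f) (p ^ n), sub_sub_cancel]
        rw [← map_mul, e, map_sub, map_one, Eqv, map_sub, map_one, map_pow, hr, map_mul, mul_pow,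
          Polynomial.aeval_X, map_mul, hx, map_zero, zero_mul, sub_zero]
      · rw [Polynomial.finsetSum_coeff, Finset.sum_eq_single 0]
        · simp
        · intro s _ hs
          rw [Polynomial.coeff_zero_eq_eval_zero, Polynomial.eval_pow, Polynomial.eval_sub, Polynomial.eval_one,
            ← Polynomial.coeff_zero_eq_eval_zero, hf0, sub_self, zero_pow hs]
        · intro h0; exact absurd (Finset.mem_range.2 (pow_pos (Fact.out : p.Prime).pos n)) h0
    set G := Polynomial.aeval (X 0 + X 1 : MvPolynomial (Fin 2) R) g with hG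
    have hinv : Eqv (p ^ n) (Polynomial.aeval (X 0 + X 1) f * G) 1 := hg _ (eqv_add hp (eqv_X _) (eqv_X _))
    have hG0 : coeff (0 : Fin 2 →₀ ℕ) G = 1 := by
      rw [← constantCoeff_eq, hG, Polynomial.aeval_def, Polynomial.hom_eval₂]
      simp [Polynomial.eval₂_at_zero, hg0]
    set h' := h * (Polynomial.aeval (X 0) f * Polynomial.aeval (X 1) f * G) with hh'
    have hh'eq : Eqv (p ^ n) h' ((1 + N) * (1 + D * G)) := by
      rw [hh', Eqv, map_mul, map_mul _ (1 + N), hN1, hD, sub_mul]
      congr 1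
      rw [map_add, map_sub, map_one, hinv, map_one, add_sub_cancel]
    have hv' : Van (p ^ n) (m + 1) (h' - 1) := fun d hd hlt => by
      rw [coeff_sub, coeff_eq_of_eqv hh'eq d hd, show (1 + N) * (1 + D * G) = 1 + (N + D * G + N * (D * G)) by ring,
        coeff_add, add_sub_cancel_left, coeff_add, coeff_add, hfv.coeff_mul G hd (by omega),
        hNv.coeff_mul (D * G) hd (by omega), hG0, mul_one]
      have hDG0 : coeff (0 : Fin 2 →₀ ℕ) (D * G) = 0 := by
        rw [hfv.coeff_mul G (fun t => by simpa using pow_pos (Fact.out : p.Prime).pos n) (by simp),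
          hfv 0 (fun t => by simpa using pow_pos (Fact.out : p.Prime).pos n) (by simpa using (show 0 < m by omega)), zero_mul]
      rw [hDG0, mul_zero, add_zero]
      rcases lt_or_eq_of_le (Nat.lt_succ_iff.1 hlt) with hl | hl
      · rw [hNv d hd hl, hfv d hd hl, add_zero]
      · rw [Fin.sum_univ_two] at hl
        conv_lhs => rw [e2_eta d]
        rw [hfm _ _ (hd 0) (hd 1) hl, add_neg_cancel]
    have hfinv : Eqv (p ^ n) ((Polynomial.aeval (X 0) f * Polynomial.aeval (X 1) f * G) *
        Polynomial.aeval (X 0 + X 1) f) (Polynomial.aeval (X 0) f * Polynomial.aeval (X 1) f) := by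
      rw [Eqv, map_mul] at hinv
      rw [Eqv, map_mul, map_mul, mul_assoc, mul_comm (Ideal.Quotient.mk _ G), hinv, map_one, mul_one]
    have hcc : IsCocQ (p ^ n) (Polynomial.aeval (X 0) f * Polynomial.aeval (X 1) f * G) := isCocQ_coboundary hp f g hg
    obtain ⟨f', hf'0, hf'⟩ := IH (m + 1) (by omega) (by omega) h' (hh.mul hcc) hv'
    refine ⟨f * f', by rw [Polynomial.mul_coeff_zero, hf0, hf'0, mul_one], ?_⟩
    rw [Eqv, map_mul, map_mul] at hfinv hf'
    simp only [map_mul, Eqv]
    simp only [map_mul] at hf' hfinv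
    linear_combination (Ideal.Quotient.mk (J 2 (p ^ n) R) (Polynomial.aeval (X 0 + X 1) f)) * hf' -
      (Ideal.Quotient.mk (J 2 (p ^ n) R) h * Ideal.Quotient.mk (J 2 (p ^ n) R) (Polynomial.aeval (X 0) f') *
        Ideal.Quotient.mk (J 2 (p ^ n) R) (Polynomial.aeval (X 1) f')) * hfinv

/-- Truncated symmetric cocycles split over rings with roots of exponent the characteristic. -/
theorem exists_split (hroot : ∀ r : R, ∃ a, a ^ p = r) {h : MvPolynomial (Fin 2) R} (hh : IsCocQ (p ^ n) h)
    (h0 : coeff 0 h = 1) :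
    ∃ f : Polynomial R, f.coeff 0 = 1 ∧
      Eqv (p ^ n) (h * (Polynomial.aeval (X 0 : MvPolynomial (Fin 2) R) f * Polynomial.aeval (X 1) f))
        (Polynomial.aeval (X 0 + X 1) f) := by
  refine exists_split_of_van hp hroot (2 * p ^ n - 1) 1 le_rfl
    (by have := pow_pos (Fact.out : p.Prime).pos n; omega) h hh fun d _ hd => ?_
  obtain rfl : d = 0 := Finsupp.ext fun t => by
    have := Finset.single_le_sum (f := fun t => d t) (fun _ _ => Nat.zero_le _) (Finset.mem_univ t)
    simp only [Finsupp.coe_zero, Pi.zero_apply]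
    omega
  rw [coeff_sub, h0, coeff_zero_one, sub_self]

end GmExtLib.Trunc
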