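import Groth.Agent.GmExtLib.Line
import Groth.Agent.GmExtLib.Ext1
import Groth.Agent.GmExtLib.Nil
import Groth.Agent.GmExtLib.Trunc
import Groth.Prelude.Def_AlphaPn
import Groth.Prelude.Def_CoactBr

/-!
# Extensions of α_{p^n} by the multiplicative group
-/

set_option autoImplicit false
set_option maxHeartbeats 1600000
universe u

open CategoryTheory CategoryTheory.Limits AlgebraicGeometry Opposite MonObj MonoidalCategory CartesianMonoidalCategory
open AdeqLib AdeqModLib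
open Groth.Agent

noncomputable section

namespace GmExtLib

variable {R : Type u} [CommRing R]

/-- The affine object as a scheme over the base. -/
def spIso (C : Type u) [CommRing C] [Algebra R C] :
    ao (A := CommRingCat.of R) (𝟙 _) C ≅ CoactBr.sp R C :=
  Over.isoMk (Iso.refl _) (by
    show 𝟙 _ ≫ Spec.map (CommRingCat.ofHom (algebraMap R C)) =
      Spec.map (CommRingCat.ofHom (algebraMap R C)) ≫ 𝟙 _
    rw [Category.id_comp, Category.comp_id])

/-- The structure map of an affine object. -/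
theorem amap_topIso {S : Scheme.{u}} {A : CommRingCat.{u}} (b : Spec A ⟶ S) (C : Type u) [CommRing C] [Algebra A C] :
    amap b (Algebra.ofId A C) ≫ (topIso b).hom =
      (Over.homMk (Spec.map (CommRingCat.ofHom (algebraMap A C))) (aoHom_eq b C).symm : ao b C ⟶ Over.mk b) :=
  Over.OverMorphism.ext (Category.comp_id _)

theorem amap_spIso {C C' : Type u} [CommRing C] [Algebra R C] [CommRing C'] [Algebra R C'] (φ : C →ₐ[R] C') :
    amap (A := CommRingCat.of R) (𝟙 _) φ ≫ (spIso C).hom = (spIso C').hom ≫ CoactBr.pt φ :=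
  Over.OverMorphism.ext ((Category.comp_id _).trans (Category.id_comp _).symm)

section alpha

variable (p n : ℕ) [Fact p.Prime] [CharP R p]

variable (R) in
/-- The scheme α_{p^n}. -/
abbrev alphaOb (p n : ℕ) : Over (Spec (CommRingCat.of R)) := CoactBr.sp R (AlphaPn.A p n R)

variable (R) in
/-- The base. -/
abbrev base0 : Spec (CommRingCat.of R) ⟶ Spec (CommRingCat.of R) := 𝟙 _

/-- The point attached to a nilpotent element. -/
def aPt (C : Type u) [CommRing C] [Algebra R C] (x : C) (hx : x ^ p ^ n = 0) :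
    ao (A := CommRingCat.of R) (base0 R) C ⟶ (alphaOb R p n) :=
  (spIso C).hom ≫ CoactBr.pt (AlphaPn.lift p n R x hx)

theorem aPt_eq (C : Type u) [CommRing C] [Algebra R C] (x : C) (hx : x ^ p ^ n = 0) :
    aPt (R := R) p n C x hx = amap (A := CommRingCat.of R) (base0 R) (AlphaPn.lift p n R x hx) ≫ (spIso (AlphaPn.A p n R)).hom :=
  (amap_spIso _).symm

theorem amap_aPt {C C' : Type u} [CommRing C] [Algebra R C] [CommRing C'] [Algebra R C'] (φ : C →ₐ[R] C') (x : C)
    (hx : x ^ p ^ n = 0) :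
    amap (A := CommRingCat.of R) (base0 R) φ ≫ aPt (R := R) p n C x hx =
      aPt (R := R) p n C' (φ x) (by rw [← map_pow, hx, map_zero]) := by
  rw [aPt, ← Category.assoc, amap_spIso, Category.assoc, ← CoactBr.pt_comp, aPt]
  refine congrArg (fun k => (spIso C').hom ≫ CoactBr.pt k) (AlphaPn.algHom_ext ?_)
  rw [AlgHom.comp_apply, AlphaPn.lift_x, AlphaPn.lift_x]

theorem aPt_add (C : Type u) [CommRing C] [Algebra R C] (x y : C) (hx : x ^ p ^ n = 0) (hy : y ^ p ^ n = 0) :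
    aPt (R := R) p n C x hx * aPt (R := R) p n C y hy = aPt (R := R) p n C (x + y) (AlphaPn.add_pow_eq_zero p n R (Commute.all _ _) hx hy) := by
  rw [aPt, aPt, ← MonObj.comp_mul, CoactBr.pt_mul_pt]
  refine congrArg (fun k => (spIso C).hom ≫ CoactBr.pt k) (AlphaPn.algHom_ext ?_)
  rw [AlgHom.comp_apply, Bialgebra.comulAlgHom_apply, AlphaPn.comul_x, map_add, Algebra.TensorProduct.lift_tmul,
    Algebra.TensorProduct.lift_tmul, map_one, map_one, _root_.mul_one, _root_.one_mul, AlphaPn.lift_x, AlphaPn.lift_x,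
    AlphaPn.lift_x]

theorem aPt_zero (C : Type u) [CommRing C] [Algebra R C] :
    aPt (R := R) p n C 0 (zero_pow (pow_ne_zero n (Fact.out : p.Prime).ne_zero)) = 1 := by
  rw [aPt, ← MonObj.comp_one (spIso C).hom, CoactBr.one_eq_pt]
  refine congrArg (fun k => (spIso C).hom ≫ CoactBr.pt k) (AlphaPn.algHom_ext ?_)
  rw [AlphaPn.lift_x, AlgHom.comp_apply, Bialgebra.counitAlgHom_apply, AlphaPn.counit_x, map_zero]

theorem spIso_inv_aPt :
    (spIso (AlphaPn.A p n R)).inv ≫ aPt (R := R) p n (AlphaPn.A p n R) (AlphaPn.x p n R) (AlphaPn.x_pow p n R) = 𝟙 (alphaOb R p n) := by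
  rw [aPt, Iso.inv_hom_id_assoc, show AlphaPn.lift p n R (AlphaPn.x p n R) (AlphaPn.x_pow p n R) = AlgHom.id R _ from
    AlphaPn.algHom_ext (AlphaPn.lift_x _ _), CoactBr.pt_id]

/-- Symmetric cocycles on α split over a ring with roots of exponent the characteristic. -/
theorem exists_split_alpha (hroot : ∀ r : R, ∃ a, a ^ p = r)
    {c : (alphaOb R p n) ⊗ (alphaOb R p n) ⟶ Red.Gm (Spec (CommRingCat.of R))} (hc : IsSymCoc c) :
    ∃ χ : (alphaOb R p n) ⟶ Red.Gm (Spec (CommRingCat.of R)), ∀ (T : Over (Spec (CommRingCat.of R))) (x y : T ⟶ (alphaOb R p n)),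
      (x * y) ≫ χ = (x ≫ χ) * (y ≫ χ) * (lift x y ≫ c) := by
  letI : Algebra (ZMod p) R := ZMod.algebra R p
  have hp : (p : R) = 0 := CharP.cast_eq_zero R p
  let C2 : Type u := MvPolynomial (Fin 2) R ⧸ Trunc.J 2 (p ^ n) R
  let X2 : Fin 2 → C2 := fun k => Ideal.Quotient.mk _ (MvPolynomial.X k)
  have hX : ∀ k, X2 k ^ p ^ n = 0 := fun k => (map_pow _ _ _).symm.trans ((Trunc.eqv_X k).trans (map_zero _))
  obtain ⟨v, hv⟩ := exists_gmP (A := CommRingCat.of R) (base0 R) C2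
    (lift (aPt (R := R) p n C2 (X2 0) (hX 0)) (aPt (R := R) p n C2 (X2 1) (hX 1)) ≫ c)
  obtain ⟨h, hh⟩ := Ideal.Quotient.mk_surjective (v : C2)
  have key : ∀ {C : Type u} [CommRing C] [Algebra R C] (x y : C) (hx : x ^ p ^ n = 0) (hy : y ^ p ^ n = 0),
      ∃ w : Cˣ, (w : C) = MvPolynomial.aeval ![x, y] h ∧
        lift (aPt (R := R) p n C x hx) (aPt (R := R) p n C y hy) ≫ c = gmP (A := CommRingCat.of R) (base0 R) C w := by
    intro C _ _ x y hx hy
    have hle : ∀ z ∈ Trunc.J 2 (p ^ n) R, MvPolynomial.aeval ![x, y] z = 0 := fun z hz =>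
      (Ideal.span_le (I := RingHom.ker (MvPolynomial.aeval (R := R) ![x, y]).toRingHom)).2 (by
        rintro _ ⟨t, rfl⟩
        show MvPolynomial.aeval ![x, y] ((MvPolynomial.X t : MvPolynomial (Fin 2) R) ^ p ^ n) = 0
        rw [map_pow, MvPolynomial.aeval_X]
        fin_cases t <;> assumption) hz
    let φ : C2 →ₐ[R] C := Ideal.Quotient.liftₐ _ (MvPolynomial.aeval ![x, y]) hle
    refine ⟨Units.map φ.toRingHom.toMonoidHom v, (congrArg φ hh.symm).trans rfl, ?_⟩
    have e0 : aPt (R := R) p n C x hx = amap (A := CommRingCat.of R) (base0 R) φ ≫ aPt (R := R) p n C2 (X2 0) (hX 0) := by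
      rw [amap_aPt]
      congr 1
      exact (MvPolynomial.aeval_X (R := R) ![x, y] 0).symm
    have e1 : aPt (R := R) p n C y hy = amap (A := CommRingCat.of R) (base0 R) φ ≫ aPt (R := R) p n C2 (X2 1) (hX 1) := by
      rw [amap_aPt]
      congr 1
      exact (MvPolynomial.aeval_X (R := R) ![x, y] 1).symm
    rw [e0, e1, ← comp_lift, Category.assoc, ← hv, amap_gmP]
  have hmk : ∀ {m : ℕ} (g : Fin 2 → MvPolynomial (Fin m) R),
      MvPolynomial.aeval ![Ideal.Quotient.mk (Trunc.J m (p ^ n) R) (g 0),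
          Ideal.Quotient.mk (Trunc.J m (p ^ n) R) (g 1)] h =
        Ideal.Quotient.mk _ (MvPolynomial.aeval g h) := fun {m} g => by
    refine (congrArg (fun t => MvPolynomial.aeval t h) (funext fun k => ?_)).trans
      (MvPolynomial.comp_aeval_apply (f := g) (Ideal.Quotient.mkₐ R _) h).symm
    fin_cases k <;> rfl
  have hcoc : Trunc.IsCocQ (p ^ n) h := by
    constructor
    · obtain ⟨w₁, hw₁, e₁⟩ := key (X2 1) (X2 0) (hX 1) (hX 0)
      rw [hc.symm, ← hv] at e₁
      have := congrArg Units.val (gmP_injective _ _ e₁)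
      rw [hw₁, ← hh] at this
      exact ((hmk ![MvPolynomial.X 1, MvPolynomial.X 0]).symm.trans this.symm)
    · let C3 : Type u := MvPolynomial (Fin 3) R ⧸ Trunc.J 3 (p ^ n) R
      let Y : Fin 3 → C3 := fun k => Ideal.Quotient.mk _ (MvPolynomial.X k)
      have hY : ∀ k, Y k ^ p ^ n = 0 := fun k => (map_pow _ _ _).symm.trans ((Trunc.eqv_X k).trans (map_zero _))
      obtain ⟨w₁, hw₁, e₁⟩ := key (Y 0) (Y 1) (hY 0) (hY 1)
      obtain ⟨w₂, hw₂, e₂⟩ := key (Y 0 + Y 1) (Y 2) (AlphaPn.add_pow_eq_zero p n R (Commute.all _ _) (hY 0) (hY 1)) (hY 2)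
      obtain ⟨w₃, hw₃, e₃⟩ := key (Y 1) (Y 2) (hY 1) (hY 2)
      obtain ⟨w₄, hw₄, e₄⟩ := key (Y 0) (Y 1 + Y 2) (hY 0) (AlphaPn.add_pow_eq_zero p n R (Commute.all _ _) (hY 1) (hY 2))
      have h1 := hc.coc _ (aPt (R := R) p n C3 (Y 0) (hY 0)) (aPt (R := R) p n C3 (Y 1) (hY 1)) (aPt (R := R) p n C3 (Y 2) (hY 2))
      rw [aPt_add, aPt_add, e₁, e₂, e₃, e₄, gmP_mul, gmP_mul] at h1
      have h2 := congrArg Units.val (gmP_injective _ _ h1)
      rw [Units.val_mul, Units.val_mul, hw₁, hw₂, hw₃, hw₄] at h2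
      have f1 := hmk (m := 3) ![MvPolynomial.X 0, MvPolynomial.X 1]
      have f2 := hmk (m := 3) ![MvPolynomial.X 0 + MvPolynomial.X 1, MvPolynomial.X 2]
      have f3 := hmk (m := 3) ![MvPolynomial.X 1, MvPolynomial.X 2]
      have f4 := hmk (m := 3) ![MvPolynomial.X 0, MvPolynomial.X 1 + MvPolynomial.X 2]
      simp only [Matrix.cons_val_zero, Matrix.cons_val_one, map_add] at f1 f2 f3 f4
      show Ideal.Quotient.mk _ (GaDualLib.p23 h * GaDualLib.q1 h) = Ideal.Quotient.mk _ (GaDualLib.q2 h * GaDualLib.p12 h)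
      rw [map_mul, map_mul]
      exact ((congrArg₂ (· * ·) f3 f4).symm.trans h2.symm).trans ((congrArg₂ (· * ·) f1 f2).trans (_root_.mul_comm _ _))
  have h0 : MvPolynomial.coeff 0 h = 1 := by
    obtain ⟨w₁, hw₁, e₁⟩ := key (0 : R) 0 (zero_pow (pow_ne_zero n (Fact.out : p.Prime).ne_zero))
      (zero_pow (pow_ne_zero n (Fact.out : p.Prime).ne_zero))
    rw [aPt_zero, hc.norm, ← gmP_one (A := CommRingCat.of R) (base0 R)] at e₁
    rw [← gmP_injective _ _ e₁] at hw₁
    rw [← MvPolynomial.constantCoeff_eq, Units.val_one] at *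
    refine (hw₁.trans ?_).symm
    rw [show (![0, 0] : Fin 2 → R) = 0 from funext fun k => by fin_cases k <;> rfl, MvPolynomial.aeval_zero]
    rfl
  obtain ⟨f, hf0, hf⟩ := Trunc.exists_split hp hroot hcoc h0
  have hfu : IsUnit (Polynomial.aeval (AlphaPn.x p n R) f) := by
    obtain ⟨s, hs⟩ : Polynomial.X ∣ f - 1 := by rw [Polynomial.X_dvd_iff]; simp [hf0]
    rw [show f = 1 + Polynomial.X * s by rw [← hs]; ring, map_add, map_one, map_mul, Polynomial.aeval_X]
    exact IsNilpotent.isUnit_one_add ⟨p ^ n, by rw [mul_pow, AlphaPn.x_pow, zero_mul]⟩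
  let χ := (spIso (AlphaPn.A p n R)).inv ≫ gmP (A := CommRingCat.of R) (base0 R) _ hfu.unit
  have hχ : ∀ {C : Type u} [CommRing C] [Algebra R C] (x : C) (hx : x ^ p ^ n = 0),
      ∃ w : Cˣ, (w : C) = Polynomial.aeval x f ∧ aPt (R := R) p n C x hx ≫ χ = gmP (A := CommRingCat.of R) (base0 R) C w := by
    intro C _ _ x hx
    refine ⟨Units.map (AlphaPn.lift p n R x hx).toRingHom.toMonoidHom hfu.unit, ?_, ?_⟩
    · show AlphaPn.lift p n R x hx (Polynomial.aeval (AlphaPn.x p n R) f) = _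
      rw [← Polynomial.aeval_algHom_apply, AlphaPn.lift_x]
    · rw [aPt_eq, Category.assoc, Iso.hom_inv_id_assoc, amap_gmP]
  obtain ⟨wx, hwx, ex⟩ := hχ (X2 0) (hX 0)
  obtain ⟨wy, hwy, ey⟩ := hχ (X2 1) (hX 1)
  obtain ⟨ws, hws, es⟩ := hχ (X2 0 + X2 1) (AlphaPn.add_pow_eq_zero p n R (Commute.all _ _) (hX 0) (hX 1))
  have huniv : (aPt (R := R) p n C2 (X2 0) (hX 0) * aPt (R := R) p n C2 (X2 1) (hX 1)) ≫ χ =
      (aPt (R := R) p n C2 (X2 0) (hX 0) ≫ χ) * (aPt (R := R) p n C2 (X2 1) (hX 1) ≫ χ) *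
        (lift (aPt (R := R) p n C2 (X2 0) (hX 0)) (aPt (R := R) p n C2 (X2 1) (hX 1)) ≫ c) := by
    rw [aPt_add, es, ex, ey, ← hv, gmP_mul, gmP_mul]
    refine congrArg (gmP _ _) (Units.ext ?_)
    rw [Units.val_mul, Units.val_mul, hwx, hwy, hws, ← hh]
    have e : ∀ z : MvPolynomial (Fin 2) R, Polynomial.aeval (Ideal.Quotient.mk (Trunc.J 2 (p ^ n) R) z : C2) f =
        Ideal.Quotient.mk _ (Polynomial.aeval z f) := fun z =>
      Polynomial.aeval_algHom_apply (Ideal.Quotient.mkₐ R (Trunc.J 2 (p ^ n) R)) z f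
    rw [show X2 0 + X2 1 = Ideal.Quotient.mk _ (MvPolynomial.X 0 + MvPolynomial.X 1) from (map_add _ _ _).symm]
    rw [e, e, e, ← map_mul, ← map_mul, _root_.mul_comm _ h]
    exact hf.symm
  refine ⟨χ, fun T x y => ?_⟩
  obtain ⟨z, hz1, hz2⟩ := exists_pair (A := CommRingCat.of R) (base0 R) (x ≫ (spIso (AlphaPn.A p n R)).inv)
    (y ≫ (spIso (AlphaPn.A p n R)).inv) (toTop_unique _ _)
  let B2 : Type u := TensorProduct R (AlphaPn.A p n R) (AlphaPn.A p n R)
  let xL : B2 := (Algebra.TensorProduct.includeLeft : AlphaPn.A p n R →ₐ[R] B2) (AlphaPn.x p n R)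
  let xR : B2 := (Algebra.TensorProduct.includeRight : AlphaPn.A p n R →ₐ[R] B2) (AlphaPn.x p n R)
  have hle : ∀ w ∈ Trunc.J 2 (p ^ n) R, MvPolynomial.aeval ![xL, xR] w = 0 := fun w hw =>
    (Ideal.span_le (I := RingHom.ker (MvPolynomial.aeval (R := R) ![xL, xR]).toRingHom)).2 (by
      rintro _ ⟨t, rfl⟩
      show MvPolynomial.aeval ![xL, xR] ((MvPolynomial.X t : MvPolynomial (Fin 2) R) ^ p ^ n) = 0
      rw [map_pow, MvPolynomial.aeval_X]
      fin_cases t
      · show xL ^ p ^ n = 0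
        rw [← map_pow, AlphaPn.x_pow, map_zero]
      · show xR ^ p ^ n = 0
        rw [← map_pow, AlphaPn.x_pow, map_zero]) hw
  let ψ : C2 →ₐ[R] B2 := Ideal.Quotient.liftₐ _ (MvPolynomial.aeval ![xL, xR]) hle
  let E := z ≫ amap (A := CommRingCat.of R) (base0 R) ψ
  have hx : E ≫ aPt (R := R) p n C2 (X2 0) (hX 0) = x := by
    have e : amap (A := CommRingCat.of R) (base0 R) ψ ≫ aPt (R := R) p n C2 (X2 0) (hX 0) =
        amap (A := CommRingCat.of R) (base0 R) (Algebra.TensorProduct.includeLeft : AlphaPn.A p n R →ₐ[R] B2) ≫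
          aPt (R := R) p n _ (AlphaPn.x p n R) (AlphaPn.x_pow p n R) := by
      rw [amap_aPt, amap_aPt]
      congr 1
      exact MvPolynomial.aeval_X (R := R) ![xL, xR] 0
    show (z ≫ _) ≫ _ = x
    rw [Category.assoc, e, reassoc_of% hz1, spIso_inv_aPt, Category.comp_id]
  have hy : E ≫ aPt (R := R) p n C2 (X2 1) (hX 1) = y := by
    have e : amap (A := CommRingCat.of R) (base0 R) ψ ≫ aPt (R := R) p n C2 (X2 1) (hX 1) =
        amap (A := CommRingCat.of R) (base0 R) (Algebra.TensorProduct.includeRight : AlphaPn.A p n R →ₐ[R] B2) ≫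
          aPt (R := R) p n _ (AlphaPn.x p n R) (AlphaPn.x_pow p n R) := by
      rw [amap_aPt, amap_aPt]
      congr 1
      exact MvPolynomial.aeval_X (R := R) ![xL, xR] 1
    show (z ≫ _) ≫ _ = y
    rw [Category.assoc, e, reassoc_of% hz2, spIso_inv_aPt, Category.comp_id]
  have hk := congrArg (E ≫ ·) huniv
  simp only [MonObj.comp_mul, ← Category.assoc, hx, hy, comp_lift] at hk
  exact hk

/-- Sections on α that are additive lift. -/
theorem exists_lift_alpha {P Q : BigSite.Ab Scheme.fppfPrecoverage (Spec (CommRingCat.of R))}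
    {i : G (Spec (CommRingCat.of R)) ⟶ P} {g : P ⟶ Q} {w : i ≫ g = 0}
    (hC : (ShortComplex.mk i g w).ShortExact) (σ : Q.obj.obj (op (alphaOb R p n))) (hσ : IsAdd Q σ) :
    ∃ s : P.obj.obj (op (alphaOb R p n)), g.hom.app _ s = σ := by
  let b' := Spec.map (CommRingCat.ofHom (algebraMap R (AlphaPn.A p n R)))
  let i₂ : Over.mk b' ≅ (alphaOb R p n) := Over.isoMk (Iso.refl _) (Category.id_comp _)
  let e' : top b' ≅ (alphaOb R p n) := topIso b' ≪≫ i₂
  letI : Algebra (AlphaPn.A p n R) R := (Bialgebra.counitAlgHom R (AlphaPn.A p n R)).toRingHom.toAlgebra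
  have hs : Function.Surjective (algebraMap (AlphaPn.A p n R) R) := fun r =>
    ⟨algebraMap R _ r, (Bialgebra.counitAlgHom R (AlphaPn.A p n R)).commutes r⟩
  have hk : ∀ z : AlphaPn.A p n R, algebraMap (AlphaPn.A p n R) R z = 0 → IsNilpotent z := fun z hz => by
    obtain ⟨f, rfl⟩ := AlphaPn.mk_surjective p n R z
    change Bialgebra.counitAlgHom R (AlphaPn.A p n R) (AlphaPn.mk p n R f) = 0 at hz
    rw [← AlphaPn.aeval_x, ← Polynomial.aeval_algHom_apply, Bialgebra.counitAlgHom_apply, AlphaPn.counit_x,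
      Polynomial.coe_aeval_eq_eval, ← Polynomial.coeff_zero_eq_eval_zero, ← Polynomial.X_dvd_iff] at hz
    obtain ⟨s, rfl⟩ := hz
    exact ⟨p ^ n, by rw [map_mul, AlphaPn.mk_X, mul_pow, AlphaPn.x_pow, zero_mul]⟩
  have h0 : Q.obj.map (amap b' (Algebra.ofId (AlphaPn.A p n R) R)).op (Q.obj.map e'.hom.op σ) = 0 := by
    let k : ao (A := CommRingCat.of (AlphaPn.A p n R)) b' R ⟶ CoactBr.sp R R := Over.homMk (𝟙 _) (by
      show 𝟙 _ ≫ Spec.map (CommRingCat.ofHom (algebraMap R R)) =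
        Spec.map (CommRingCat.ofHom (algebraMap (AlphaPn.A p n R) R)) ≫
          Spec.map (CommRingCat.ofHom (algebraMap R (AlphaPn.A p n R)))
      rw [Category.id_comp, ← Spec.map_comp, ← CommRingCat.ofHom_comp]
      exact congrArg (fun φ => Spec.map (CommRingCat.ofHom φ))
        (Bialgebra.counitAlgHom R (AlphaPn.A p n R)).comp_algebraMap.symm)
    have e : amap b' (Algebra.ofId (AlphaPn.A p n R) R) ≫ e'.hom = k ≫ (1 : CoactBr.sp R R ⟶ (alphaOb R p n)) := by
      rw [CoactBr.one_eq_pt, show (Algebra.ofId R R).comp (Bialgebra.counitAlgHom R (AlphaPn.A p n R)) =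
        Bialgebra.counitAlgHom R (AlphaPn.A p n R) from AlgHom.ext fun _ => rfl]
      rw [Iso.trans_hom, ← Category.assoc, amap_topIso]
      refine Over.OverMorphism.ext ?_
      exact (Category.comp_id _).trans (Category.id_comp _).symm
    rw [map_map, e, MonObj.comp_one]
    exact hσ.map_one _
  obtain ⟨t, ht⟩ := exists_lift_of_nil b' hC hs hk _ h0
  refine ⟨P.obj.map e'.inv.op t, ?_⟩
  rw [NatTrans.naturality_apply g.hom e'.inv.op t, ht, map_map, Iso.inv_hom_id, op_id, CategoryTheory.Functor.map_id,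
    ConcreteCategory.id_apply]

end alpha

end GmExtLib
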