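import Groth.Agent.GmExtLib.Zar

/-!
# Change of rings for cocycles on basic opens
-/

set_option autoImplicit false
set_option maxHeartbeats 800000
universe u v

namespace GmExtLib

variable {A A' : Type u} [CommRing A] [CommRing A'] (π : A →+* A')

/-- The map of localizations. -/
noncomputable def pm (g : A) : L g →+* L (π g) :=
  IsLocalization.Away.lift g (g := (algebraMap A' (L (π g))).comp π)
    (IsLocalization.Away.algebraMap_isUnit (π g))

theorem pm_algebraMap (g : A) (x : A) : pm π g (algebraMap A (L g) x) = algebraMap A' (L (π g)) (π x) :=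
  IsLocalization.Away.lift_eq _ _ _

/-- The map of localizations at a product. -/
noncomputable def pm₂ (g h : A) : L (g * h) →+* L (π g * π h) :=
  IsLocalization.Away.lift (g * h) (g := (algebraMap A' (L (π g * π h))).comp π) (by
    rw [RingHom.comp_apply, map_mul π]
    exact IsLocalization.Away.algebraMap_isUnit (π g * π h))

theorem pm₂_algebraMap (g h : A) (x : A) :
    pm₂ π g h (algebraMap A (L (g * h)) x) = algebraMap A' (L (π g * π h)) (π x) :=
  IsLocalization.Away.lift_eq _ _ _

theorem pm₂_ml (g h : A) (x : L g) : pm₂ π g h (ml g h x) = ml (π g) (π h) (pm π g x) := by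
  have e : (pm₂ π g h).comp (ml g h).toRingHom = (ml (π g) (π h)).toRingHom.comp (pm π g) := by
    refine IsLocalization.ringHom_ext (Submonoid.powers g) (RingHom.ext fun y => ?_)
    show pm₂ π g h (ml g h (algebraMap A (L g) y)) = ml (π g) (π h) (pm π g (algebraMap A (L g) y))
    rw [AlgHom.commutes, pm_algebraMap, AlgHom.commutes, pm₂_algebraMap]
  exact congrArg (fun φ : L g →+* L (π g * π h) => φ x) e

theorem pm₂_mr (g h : A) (x : L h) : pm₂ π g h (mr g h x) = mr (π g) (π h) (pm π h x) := by
  have e : (pm₂ π g h).comp (mr g h).toRingHom = (mr (π g) (π h)).toRingHom.comp (pm π h) := by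
    refine IsLocalization.ringHom_ext (Submonoid.powers h) (RingHom.ext fun y => ?_)
    show pm₂ π g h (mr g h (algebraMap A (L h) y)) = mr (π g) (π h) (pm π h (algebraMap A (L h) y))
    rw [AlgHom.commutes, pm_algebraMap, AlgHom.commutes, pm₂_algebraMap]
  exact congrArg (fun φ : L h →+* L (π g * π h) => φ x) e

variable {κ : Type v} {f : κ → A}

/-- The pushed units. -/
noncomputable def push (a : ∀ i j, (L (f i * f j))ˣ) : ∀ i j, (L (π (f i) * π (f j)))ˣ :=
  fun i j => Units.map (pm₂ π (f i) (f j)).toMonoidHom (a i j)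

theorem IsCoc.push {a : ∀ i j, (L (f i * f j))ˣ} (ha : IsCoc a) :
    IsCoc (f := fun i => π (f i)) (push π a) := by
  intro i j k D _ _ hi hj hk
  letI : Algebra A D := ((algebraMap A' D).comp π).toAlgebra
  have key := ha i j k D hi hj hk
  have e : ∀ (p q : κ) (hp : IsUnit (algebraMap A' D (π (f p)))) (hq : IsUnit (algebraMap A' D (π (f q))))
      (x : L (f p * f q)), lm (isUnit_mul hp hq) (pm₂ π (f p) (f q) x) =
        lm (D := D) (isUnit_mul (show IsUnit (algebraMap A D (f p)) from hp)
          (show IsUnit (algebraMap A D (f q)) from hq)) x := fun p q hp hq x => by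
    have e' : (lm (isUnit_mul hp hq)).toRingHom.comp (pm₂ π (f p) (f q)) =
        (lm (D := D) (isUnit_mul (show IsUnit (algebraMap A D (f p)) from hp)
          (show IsUnit (algebraMap A D (f q)) from hq))).toRingHom := by
      refine IsLocalization.ringHom_ext (Submonoid.powers (f p * f q)) (RingHom.ext fun y => ?_)
      show lm (isUnit_mul hp hq) (pm₂ π (f p) (f q) (algebraMap A _ y)) =
        lm (D := D) (isUnit_mul (show IsUnit (algebraMap A D (f p)) from hp)
          (show IsUnit (algebraMap A D (f q)) from hq)) (algebraMap A _ y)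
      rw [pm₂_algebraMap, AlgHom.commutes, AlgHom.commutes]
      rfl
    exact congrArg (fun φ : L (f p * f q) →+* D => φ x) e'
  show lm (isUnit_mul hi hj) (pm₂ π _ _ (a i j : L (f i * f j))) * lm (isUnit_mul hj hk) (pm₂ π _ _ (a j k : L _)) =
    lm (isUnit_mul hi hk) (pm₂ π _ _ (a i k : L _))
  rw [e i j hi hj, e j k hj hk, e i k hi hk]
  exact key

theorem span_push (hspan : Ideal.span (Set.range f) = ⊤) : Ideal.span (Set.range fun i => π (f i)) = ⊤ := by
  rw [show (fun i => π (f i)) = π ∘ f from rfl, Set.range_comp, ← Ideal.map_span, hspan, Ideal.map_top]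

end GmExtLib
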