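import Groth.Agent.GmExtLib.Lift
import Groth.Agent.GmExtLib.Push
import Groth.Agent.GmExtLib.Poly

/-!
# Changing the base ring of affine objects
-/

set_option autoImplicit false
set_option maxHeartbeats 1600000
universe u

open CategoryTheory CategoryTheory.Limits AlgebraicGeometry Opposite
open AdeqLib AdeqModLib

noncomputable section

namespace GmExtLib

variable {S : Scheme.{u}} {A A' : CommRingCat.{u}} (b : Spec A ⟶ S) (b' : Spec A' ⟶ S) (π : A ⟶ A')
  (hb : Spec.map π ≫ b = b')

/-- The map of affine objects along a change of the base ring. -/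
def chg {C C' : Type u} [CommRing C] [Algebra A C] [CommRing C'] [Algebra A' C'] (φ : C →+* C')
    (hφ : ∀ a, φ (algebraMap A C a) = algebraMap A' C' (π a)) : ao b' C' ⟶ ao b C :=
  Over.homMk (Spec.map (CommRingCat.ofHom φ)) (by
    show Spec.map (CommRingCat.ofHom φ) ≫ Spec.map (CommRingCat.ofHom (algebraMap A C)) ≫ b =
      Spec.map (CommRingCat.ofHom (algebraMap A' C')) ≫ b'
    rw [← hb, ← Category.assoc, ← Category.assoc, ← Spec.map_comp, ← Spec.map_comp]
    exact congrArg (fun k => Spec.map k ≫ b) (CommRingCat.hom_ext (RingHom.ext hφ)))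

theorem chg_left {C C' : Type u} [CommRing C] [Algebra A C] [CommRing C'] [Algebra A' C'] (φ : C →+* C')
    (hφ : ∀ a, φ (algebraMap A C a) = algebraMap A' C' (π a)) :
    (chg b b' π hb φ hφ).left = Spec.map (CommRingCat.ofHom φ) := rfl

/-- Changes of ring commute with maps of algebras. -/
theorem chg_amap {C C' D D' : Type u} [CommRing C] [Algebra A C] [CommRing C'] [Algebra A' C'] [CommRing D]
    [Algebra A D] [CommRing D'] [Algebra A' D'] (φ : C →+* C')
    (hφ : ∀ a, φ (algebraMap A C a) = algebraMap A' C' (π a)) (χ : D →+* D')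
    (hχ : ∀ a, χ (algebraMap A D a) = algebraMap A' D' (π a)) (ψ : D →ₐ[A] C) (ψ' : D' →ₐ[A'] C')
    (h : ∀ x, φ (ψ x) = ψ' (χ x)) :
    chg b b' π hb φ hφ ≫ amap b ψ = amap b' ψ' ≫ chg b b' π hb χ hχ := by
  refine Over.OverMorphism.ext ?_
  show Spec.map (CommRingCat.ofHom φ) ≫ Spec.map (CommRingCat.ofHom ψ.toRingHom) =
    Spec.map (CommRingCat.ofHom ψ'.toRingHom) ≫ Spec.map (CommRingCat.ofHom χ)
  rw [← Spec.map_comp, ← Spec.map_comp]
  exact congrArg Spec.map (CommRingCat.hom_ext (RingHom.ext h))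

theorem appTop_chg {C C' : Type u} [CommRing C] [Algebra A C] [CommRing C'] [Algebra A' C'] (φ : C →+* C')
    (hφ : ∀ a, φ (algebraMap A C a) = algebraMap A' C' (π a)) (x : C) :
    (chg b b' π hb φ hφ).left.appTop (fn b C x) = fn b' C' (φ x) :=
  (congr($(Scheme.ΓSpecIso_inv_naturality (CommRingCat.ofHom φ)) x)).symm

/-- Sections of units commute with changes of ring. -/
theorem map_aSec_chg {C C' : Type u} [CommRing C] [Algebra A C] [CommRing C'] [Algebra A' C'] (φ : C →+* C')
    (hφ : ∀ a, φ (algebraMap A C a) = algebraMap A' C' (π a)) (v : Cˣ) :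
    (G S).obj.map (chg b b' π hb φ hφ).op (aSec b C v) = aSec b' C' (Units.map φ.toMonoidHom v) := by
  refine (map_gSec _ _).trans (congrArg (gSec _) (Units.ext ?_))
  exact appTop_chg b b' π hb φ hφ (v : C)

theorem chg_gaP {C C' : Type u} [CommRing C] [Algebra A C] [CommRing C'] [Algebra A' C'] (φ : C →+* C')
    (hφ : ∀ a, φ (algebraMap A C a) = algebraMap A' C' (π a)) (x : C) :
    chg b b' π hb φ hφ ≫ gaP b C x = gaP b' C' (φ x) := by
  refine Groth.Agent.GaPts.gaFn_injective ?_
  show Red.gaFn _ = Red.gaFn _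
  rw [Groth.Agent.GaPts.gaFn_comp, gaFn_gaP, gaFn_gaP, appTop_chg]

variable {P Q : BigSite.Ab Scheme.fppfPrecoverage S} {i : G S ⟶ P} {g : P ⟶ Q} {w : i ≫ g = 0}
  (hC : (ShortComplex.mk i g w).ShortExact) {n : ℕ} {f : Fin n → A}

include hC

/-- A lift after a change of ring making the cocycle a coboundary. -/
theorem exists_lift_chg (hspan : Ideal.span (Set.range f) = ⊤) (s : Q.obj.obj (op (top b)))
    (d : ∀ k, P.obj.obj (op (ao b (L (f k)))))
    (hd : ∀ k, g.hom.app _ (d k) = Q.obj.map (amap b (Algebra.ofId A (L (f k)))).op s)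
    {a : ∀ k l, (L (f k * f l))ˣ} (ha : ∀ k l, i.hom.app _ (aSec b _ (a k l)) =
      P.obj.map (amap b (ml (f k) (f l))).op (d k) - P.obj.map (amap b (mr (f k) (f l))).op (d l))
    (hcob : IsCob (f := fun k => π.hom (f k)) (push π.hom a)) :
    ∃ t : P.obj.obj (op (top b')), g.hom.app _ t = Q.obj.map (chg b b' π hb π.hom (fun _ => rfl)).op s := by
  let θ : ∀ k, ao b' (L (π.hom (f k))) ⟶ ao b (L (f k)) := fun k =>
    chg b b' π hb (pm π.hom (f k)) (pm_algebraMap π.hom (f k))
  refine lift_of_isCob b' hC (span_push π.hom hspan) _ (fun k => P.obj.map (θ k).op (d k)) (fun k => ?_)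
    (fun k l => ?_) hcob
  · rw [NatTrans.naturality_apply g.hom (θ k).op (d k), hd, map_map, map_map]
    exact congrArg (fun m => Q.obj.map m.op s)
      (chg_amap b b' π hb _ _ π.hom (fun _ => rfl) (Algebra.ofId A (L (f k))) (Algebra.ofId A' _)
        fun x => pm_algebraMap π.hom (f k) x)
  · let θ₂ : ao b' (L (π.hom (f k) * π.hom (f l))) ⟶ ao b (L (f k * f l)) :=
      chg b b' π hb (pm₂ π.hom (f k) (f l)) (pm₂_algebraMap π.hom (f k) (f l))
    have h1 : aSec b' _ (push π.hom a k l) = (G S).obj.map θ₂.op (aSec b _ (a k l)) :=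
      (map_aSec_chg b b' π hb _ _ _).symm
    rw [h1, NatTrans.naturality_apply i.hom θ₂.op, ha, map_sub, map_map, map_map, map_map, map_map]
    exact congrArg₂ (· - ·)
      (congrArg (fun m => P.obj.map m.op (d k)) (chg_amap b b' π hb _ _ _ _ (ml (f k) (f l))
        (ml (π.hom (f k)) (π.hom (f l))) fun x => pm₂_ml π.hom (f k) (f l) x))
      (congrArg (fun m => P.obj.map m.op (d l)) (chg_amap b b' π hb _ _ _ _ (mr (f k) (f l))
        (mr (π.hom (f k)) (π.hom (f l))) fun x => pm₂_mr π.hom (f k) (f l) x))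

end GmExtLib
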