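import Groth.Agent.GmExtLib.Line
import Groth.Agent.GaDualLib.Main

/-!
# Extensions of the additive group over a ring with surjective Frobenius
-/

set_option autoImplicit false
set_option maxHeartbeats 1600000
universe u

open CategoryTheory CategoryTheory.Limits AlgebraicGeometry Opposite MonObj MonoidalCategory CartesianMonoidalCategory
open AdeqLib AdeqModLib
open Groth.Agent

noncomputable section

namespace GmExtLib

variable {A : CommRingCat.{u}}

theorem gaP_pow {S : Scheme.{u}} (b : Spec A ⟶ S) (C : Type u) [CommRing C] [Algebra A C] (x : C) (m : ℕ) :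
    gaP b C x ^ m = gaP b C (m • x) := by
  induction m with
  | zero => rw [pow_zero, zero_nsmul, gaP_zero]
  | succ m ih => rw [pow_succ, ih, gaP_add, succ_nsmul]

/-- The identity of the additive group is killed by a natural number vanishing in the base. -/
theorem id_pow_eq_one {p : ℕ} (hp : (p : A) = 0) : (𝟙 (Red.Ga (Spec A)) : _ ⟶ _) ^ p = 1 := by
  obtain ⟨e, he⟩ := exists_lineIso A
  rw [← cancel_epi e.hom, MonObj.comp_pow, Category.comp_id, MonObj.comp_one, he, gaP_pow, nsmul_eq_mul,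
    ← map_natCast (algebraMap A (Polynomial A)), hp, map_zero, zero_mul, gaP_zero]

variable {P Q : BigSite.Ab Scheme.fppfPrecoverage (Spec A)} {i : G (Spec A) ⟶ P} {g : P ⟶ Q} {w : i ≫ g = 0}

/-- Sections on the additive group killed by the characteristic lift when roots exist. -/
theorem exists_lift_line (p : ℕ) [Fact p.Prime] (hp : (p : A) = 0) (hroot : ∀ r : A, ∃ x, x ^ p = r)
    (hC : (ShortComplex.mk i g w).ShortExact) (σ : Q.obj.obj (op (Red.Ga (Spec A)))) (hσ : p • σ = 0) :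
    ∃ s : P.obj.obj (op (Red.Ga (Spec A))), g.hom.app _ s = σ := by
  obtain ⟨e, -⟩ := exists_lineIso A
  let e' := lineTop A ≪≫ e
  let b := Spec.map (CommRingCat.ofHom (Polynomial.C : (A : Type u) →+* Polynomial A))
  let s := Q.obj.map e'.hom.op σ
  have hs : p • s = 0 := by rw [← map_nsmul, hσ, map_zero]
  obtain ⟨n, f, hspan, d, hd⟩ := exists_lifts b hC s
  obtain ⟨a, ha, hai⟩ := exists_cocycle b hC s d hd
  obtain ⟨q, hq⟩ := exists_pow_coboundary b hC s d hd hai p hs
  obtain ⟨T, hT⟩ := exists_root_set (R := (A : Type u)) p hp f hspan ha q hq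
  obtain ⟨t, ht⟩ := lift_of_isCob b hC hspan s d hd hai
    (isCob_of_push _ Polynomial.mapRingHom_id (hT A (RingHom.id A) fun r _ => hroot r))
  refine ⟨P.obj.map e'.inv.op t, ?_⟩
  rw [NatTrans.naturality_apply g.hom e'.inv.op t, ht, map_map, Iso.inv_hom_id, op_id, CategoryTheory.Functor.map_id,
    ConcreteCategory.id_apply]

/-- Symmetric cocycles on the additive group split over a ring with surjective Frobenius. -/
theorem exists_split_line (p : ℕ) [Fact p.Prime] [CharP A p] (hF : Function.Surjective (frobenius A p))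
    {c : Red.Ga (Spec A) ⊗ Red.Ga (Spec A) ⟶ Red.Gm (Spec A)} (hc : IsSymCoc c) :
    ∃ χ : Red.Ga (Spec A) ⟶ Red.Gm (Spec A), ∀ (T : Over (Spec A)) (x y : T ⟶ Red.Ga (Spec A)),
      (x * y) ≫ χ = (x ≫ χ) * (y ≫ χ) * (lift x y ≫ c) := by
  let b := 𝟙 (Spec A)
  obtain ⟨e, he⟩ := exists_lineIso A
  obtain ⟨h, hh, h0, hsymm, hcoc⟩ := exists_cocPoly b hc
  obtain ⟨f, hf, hfh⟩ := GaDualLib.exists_splitting p hF (h : MvPolynomial (Fin 2) A) h.isUnit h0 hsymm hcoc
  let χ := e.inv ≫ gmP b (Polynomial A) hf.unit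
  have hχ : ∀ u : MvPolynomial (Fin 2) A,
      gaP b _ u ≫ χ = gmP b _ (Units.map (Polynomial.aeval u).toRingHom.toMonoidHom hf.unit) := fun u => by
    have h1 : gaP b _ u = amap b (Polynomial.aeval u) ≫ e.hom := by rw [he, amap_gaP, Polynomial.aeval_X]
    rw [h1, Category.assoc, Iso.hom_inv_id_assoc, amap_gmP]
  refine ⟨χ, fun T x y => ?_⟩
  obtain ⟨E, hE⟩ := exists_ev b (toTop A T) ![x, y]
  have hx : E ≫ gaP b _ (MvPolynomial.X 0) = x := hE 0
  have hy : E ≫ gaP b _ (MvPolynomial.X 1) = y := hE 1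
  have key : (gaP b (MvPolynomial (Fin 2) A) (MvPolynomial.X 0) * gaP b _ (MvPolynomial.X 1)) ≫ χ =
      (gaP b _ (MvPolynomial.X 0) ≫ χ) * (gaP b _ (MvPolynomial.X 1) ≫ χ) *
        (lift (gaP b _ (MvPolynomial.X 0)) (gaP b _ (MvPolynomial.X 1)) ≫ c) := by
    rw [gaP_add, hχ, hχ, hχ, hh, gmP_mul, gmP_mul]
    exact congrArg (gmP b _) (Units.ext hfh)
  have hk := congrArg (E ≫ ·) key
  simp only [MonObj.comp_mul, ← Category.assoc, hx, hy, comp_lift] at hk
  exact hk

end GmExtLib
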