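import Groth.Agent.GaDualLib.Split
import Mathlib.RingTheory.Flat.FaithfullyFlat.Basic
import Mathlib.RingTheory.AdjoinRoot
import Mathlib.RingTheory.FinitePresentation

/-!
# Splitting cocycles after a faithfully flat extension

In characteristic `p` symmetric multiplicative cocycles split after adjoining finitely many roots of exponent `p`.
-/

set_option autoImplicit false
set_option maxHeartbeats 1600000

namespace GaDualLib

open MvPolynomial

universe u

/-- A faithfully flat extension of finite presentation. -/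
class IsFfp (R R' : Type u) [CommRing R] [CommRing R'] [Algebra R R'] : Prop where
  ff : Module.FaithfullyFlat R R'
  fp : Algebra.FinitePresentation R R'

theorem IsFfp.self (R : Type u) [CommRing R] : IsFfp R R :=
  ⟨inferInstance, inferInstance⟩

theorem IsFfp.trans (R R₁ R₂ : Type u) [CommRing R] [CommRing R₁] [CommRing R₂] [Algebra R R₁] [Algebra R₁ R₂]
    [Algebra R R₂] [IsScalarTower R R₁ R₂] (h₁ : IsFfp R R₁) (h₂ : IsFfp R₁ R₂) : IsFfp R R₂ := by
  haveI := h₁.ff
  haveI := h₁.fp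
  haveI := h₂.ff
  haveI := h₂.fp
  exact ⟨Module.FaithfullyFlat.trans R R₁ R₂, Algebra.FinitePresentation.trans R R₁ R₂⟩

/-- Adjoining roots of exponent `p` of finitely many elements. -/
theorem exists_roots (p : ℕ) (hp : 0 < p) {R : Type u} [CommRing R] (s : Finset R) :
    ∃ (R' : Type u) (_ : CommRing R') (_ : Algebra R R'), IsFfp R R' ∧ ∀ r ∈ s, ∃ x : R', x ^ p = algebraMap R R' r := by
  classical
  induction s using Finset.induction with
  | empty => exact ⟨R, inferInstance, inferInstance, IsFfp.self R, fun r hr => absurd hr (Finset.notMem_empty r)⟩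
  | insert a s _ ih =>
    obtain ⟨R₁, _, _, h₁, hs⟩ := ih
    rcases subsingleton_or_nontrivial R₁ with hR | hR
    · exact ⟨R₁, inferInstance, inferInstance, h₁, fun r _ => ⟨0, Subsingleton.elim _ _⟩⟩
    let g : Polynomial R₁ := Polynomial.X ^ p - Polynomial.C (algebraMap R R₁ a)
    have hg : g.Monic := Polynomial.monic_X_pow_sub_C _ hp.ne'
    let R₂ := AdjoinRoot g
    haveI : Module.Free R₁ R₂ := hg.free_adjoinRoot
    haveI : Nontrivial R₂ := nontrivial_iff.2 ⟨(AdjoinRoot.powerBasis' hg).basis ⟨0, by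
      rw [AdjoinRoot.powerBasis'_dim, Polynomial.natDegree_X_pow_sub_C]; exact hp⟩, 0,
      (AdjoinRoot.powerBasis' hg).basis.ne_zero _⟩
    haveI : Algebra.FinitePresentation R₁ R₂ := Algebra.FinitePresentation.quotient ⟨{g}, by simp⟩
    refine ⟨R₂, inferInstance, inferInstance, IsFfp.trans R R₁ R₂ h₁ ⟨inferInstance, inferInstance⟩, fun r hr => ?_⟩
    rcases Finset.mem_insert.1 hr with rfl | hr
    · refine ⟨AdjoinRoot.root g, ?_⟩
      have h : Polynomial.eval₂ (AdjoinRoot.of g) (AdjoinRoot.root g) g = 0 := AdjoinRoot.eval₂_root g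
      rw [Polynomial.eval₂_sub, Polynomial.eval₂_X_pow, Polynomial.eval₂_C, sub_eq_zero] at h
      exact h
    · obtain ⟨x, hx⟩ := hs r hr
      exact ⟨algebraMap R₁ R₂ x, by rw [← map_pow, hx]; rfl⟩

variable {p : ℕ} [Fact p.Prime] {S : Type u} [CommRing S] [Algebra (ZMod p) S]

/-- Infinitesimal splitting, with roots of the coefficients only. -/
theorem mem_G_of_isCoc' {M : Ideal S} (hM : M * M = ⊥) {N : MvPolynomial (Fin 2) S}
    (hroot : ∀ d, ∃ a : S, a ^ p = coeff d N)
    (hN : Small M N) (hcoc : IsCoc (1 + N)) : N ∈ G M := by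
  classical
  have hp := (Fact.out : p.Prime)
  have hc := isLinCoc_of_isCoc (p := p) hM hN hcoc
  rw [← sum_comp N]
  refine G_sum hM _ _ fun n _ => ?_
  rcases Nat.eq_zero_or_pos n with rfl | hn
  · have h0 : comp N 0 = C (coeff (e2 0 0) N) := by simp [comp, monomial_e2]
    rw [h0]
    have hnil : IsNilpotent (Polynomial.C (coeff (e2 0 0) N)) := ⟨2, by
      rw [← map_pow, pow_two, show _ * _ = (0 : S) from Ideal.mem_bot.1 (hM ▸ Ideal.mul_mem_mul (hN (e2 0 0)) (hN (e2 0 0))),
        map_zero]⟩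
    refine ⟨small_iff.2 (Ideal.mem_map_of_mem _ (hN _)), hnil.isUnit_one_add.unit, ?_⟩
    refine (hnil.isUnit_one_add.map (Polynomial.aeval (X 0 + X 1 : MvPolynomial (Fin 2) S))).mul_right_cancel ?_
    have h := Δ_mul_add hnil.isUnit_one_add.unit
    rw [IsUnit.unit_spec] at h
    rw [h]
    simp
  by_cases hne : ∀ e, n ≠ p ^ (e + 1)
  · exact comp_mem_G_of_not_pow hM hN hc hn hne
  push Not at hne
  obtain ⟨e, rfl⟩ := hne
  rcases lazard _ hn (hc.toIdeal hN) with ⟨g, hg⟩ | ⟨k, m, hk, hm⟩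
  · refine comp_mem_G hM hN hn (g : S) g.2 fun i j hij => ?_
    have h := congrArg Subtype.val (hg i j hij)
    split_ifs at h ⊢ with hh
    · rw [show coeff (e2 i j) N = _ from h]; simp [Algebra.smul_def]
    · exact h
  obtain rfl : e = k := by
    have := Nat.pow_right_injective hp.two_le hk
    omega
  -- the coefficient of the component is a multiple of a coefficient
  obtain ⟨a, ha⟩ : ∃ a : S, a ^ p = (m : S) := by
    have hq : 0 < p ^ e := pow_pos hp.pos e
    have hij : p ^ e + p ^ e * (p - 1) = p ^ (e + 1) := by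
      rw [pow_succ, add_comm, ← Nat.mul_succ, Nat.succ_eq_add_one, Nat.sub_add_cancel hp.one_le]
    have h := congrArg Subtype.val (hm _ _ hij)
    rw [if_pos ⟨hq, Nat.mul_pos hq (by have := hp.one_lt; omega)⟩] at h
    change coeff (e2 (p ^ e) (p ^ e * (p - 1))) N = _ at h
    have hW : W p (p ^ e) (p ^ e) ≠ 0 := by
      rw [W, if_pos (dvd_refl _), Nat.div_self hq, κ, κ, if_pos hp.one_lt, if_pos (by have := hp.one_lt; omega)]
      exact mul_ne_zero (inv_ne_zero (factorial_ne_zero p hp.one_lt))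
        (inv_ne_zero (factorial_ne_zero p (by have := hp.one_lt; omega)))
    obtain ⟨b, hb⟩ := hroot (e2 (p ^ e) (p ^ e * (p - 1)))
    refine ⟨algebraMap (ZMod p) S (W p (p ^ e) (p ^ e))⁻¹ * b, ?_⟩
    rw [mul_pow, hb, h, ← map_pow, ZMod.pow_card]
    simp [Algebra.smul_def, ← mul_assoc, ← map_mul, hW]
  obtain ⟨K, hKG, hKtop, hKrest⟩ := exists_exp_coboundary hM (show a ^ p ∈ M from ha ▸ m.2) e
  obtain ⟨hKs, f, hf⟩ := id hKG
  have hKc : IsLinCoc p fun i j => coeff (e2 i j) K := isLinCoc_of_isCoc hM hKs (hf ▸ isCoc_Δ f)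
  have hdecomp : comp K (p ^ (e + 1)) = comp N (p ^ (e + 1)) := by
    refine ext_e2 fun i j => ?_
    rw [coeff_comp, coeff_comp]
    split_ifs with hij
    · rw [hKtop i j hij, ha]
      have h := congrArg Subtype.val (hm i j hij)
      split_ifs at h with hh
      · rw [show coeff (e2 i j) N = _ from h]; simp [Algebra.smul_def]
      · rw [show coeff (e2 i j) N = _ from h]
        have hz : W p (p ^ e) i = 0 := by
          rcases Nat.eq_zero_or_pos i with rfl | hi
          · simp [W, κ]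
          · obtain rfl : j = 0 := by omega
            rw [add_zero] at hij
            subst hij
            simp [W, κ, pow_succ, Nat.mul_div_cancel_left _ (pow_pos hp.pos e)]
        simp [hz]
    · rfl
  rw [← hdecomp]
  have hrest : ∀ n', n' ≠ p ^ (e + 1) → comp K n' ∈ G M := by
    intro n' hn'
    by_cases h : 0 < n' ∧ ∀ l, n' ≠ p ^ l
    · exact comp_mem_G_of_not_pow hM hKs hKc h.1 fun l => h.2 (l + 1)
    · convert G_zero (M := M)
      refine ext_e2 fun i j => ?_
      rw [coeff_comp, coeff_zero]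
      split_ifs with hij
      · by_contra hne'
        subst hij
        exact h (hKrest i j hne' hn')
      · rfl
  by_cases hmem : p ^ (e + 1) ∈ Finset.range (K.totalDegree + 1)
  · have h1 : comp K (p ^ (e + 1)) = K + -∑ n' ∈ (Finset.range (K.totalDegree + 1)).erase (p ^ (e + 1)), comp K n' := by
      conv_rhs => arg 1; rw [← sum_comp K, ← Finset.add_sum_erase _ _ hmem]
      ring
    rw [h1]
    exact G_add hM hKG (G_neg hM (G_sum hM _ _ fun n' hn' => hrest n' (Finset.ne_of_mem_erase hn')))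
  · convert G_zero (M := M)
    refine ext_e2 fun i j => ?_
    rw [coeff_comp, coeff_zero]
    split_ifs with hij
    · by_contra hne'
      have := hasFiniteDeg K hne'
      exact hmem (Finset.mem_range.2 (by omega))
    · rfl

/-- Cocycles congruent to `1` modulo a nilpotent ideal are coboundaries after a faithfully flat extension. -/
theorem exists_Δ_eq_ext (t : ℕ) :
    ∀ (R : Type u) [CommRing R] [Algebra (ZMod p) R] (J : Ideal R), J ^ (2 ^ t) = ⊥ →
      ∀ h : (MvPolynomial (Fin 2) R)ˣ, IsCoc (h : MvPolynomial (Fin 2) R) →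
      Small J ((h : MvPolynomial (Fin 2) R) - 1) →
      ∃ (R' : Type u) (_ : CommRing R') (_ : Algebra R R'), IsFfp R R' ∧
        ∃ f : (Polynomial R')ˣ, (Δ R' f : MvPolynomial (Fin 2) R') = MvPolynomial.map (algebraMap R R') h := by
  classical
  induction t with
  | zero =>
    intro R _ _ J hJ h _ hs
    rw [pow_zero, pow_one] at hJ
    have h1 : (h : MvPolynomial (Fin 2) R) = 1 := sub_eq_zero.1 (MvPolynomial.ext _ _ fun d => by
      rw [MvPolynomial.coeff_zero]
      exact Ideal.mem_bot.1 (hJ ▸ hs d))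
    exact ⟨R, inferInstance, inferInstance, IsFfp.self R, 1, by simp [h1]⟩
  | succ t IH =>
    intro R _ _ J hJ h hc hs
    obtain ⟨R₁, _, _, hR₁, hroots⟩ := exists_roots p (Fact.out : p.Prime).pos
      (((h : MvPolynomial (Fin 2) R) - 1).support.image fun d => coeff d ((h : MvPolynomial (Fin 2) R) - 1))
    let ρ : R →+* R₁ := algebraMap R R₁
    letI : Algebra (ZMod p) R₁ := (ρ.comp (algebraMap (ZMod p) R)).toAlgebra
    let J₁ := J.map ρ
    have hJ₁ : J₁ ^ (2 ^ (t + 1)) = ⊥ := by rw [← Ideal.map_pow, hJ, Ideal.map_bot]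
    let h₁ : (MvPolynomial (Fin 2) R₁)ˣ := Units.map (MvPolynomial.map ρ).toMonoidHom h
    have hc₁ : IsCoc (h₁ : MvPolynomial (Fin 2) R₁) := hc.map ρ
    let π := Ideal.Quotient.mk (J₁ ^ 2)
    have hM : J₁.map π * J₁.map π = ⊥ := by
      rw [← Ideal.map_mul, ← pow_two]; exact Ideal.map_quotient_self _
    have hs₁ : Small J₁ ((h₁ : MvPolynomial (Fin 2) R₁) - 1) := fun d => by
      rw [show (h₁ : MvPolynomial (Fin 2) R₁) - 1 = MvPolynomial.map ρ ((h : MvPolynomial (Fin 2) R) - 1) from
        (by rw [map_sub, map_one]; rfl), coeff_map]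
      exact Ideal.mem_map_of_mem _ (hs d)
    have hroot₁ : ∀ d, ∃ a : R₁ ⧸ J₁ ^ 2,
        a ^ p = coeff d (MvPolynomial.map π ((h₁ : MvPolynomial (Fin 2) R₁) - 1)) := fun d => by
      obtain ⟨x, hx⟩ : ∃ x : R₁, x ^ p = ρ (coeff d ((h : MvPolynomial (Fin 2) R) - 1)) := by
        by_cases hd : d ∈ ((h : MvPolynomial (Fin 2) R) - 1).support
        · exact hroots _ (Finset.mem_image_of_mem _ hd)
        · exact ⟨0, by rw [notMem_support_iff.1 hd, map_zero, zero_pow (Fact.out : p.Prime).ne_zero]⟩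
      refine ⟨π x, ?_⟩
      rw [← map_pow, hx, coeff_map, show (h₁ : MvPolynomial (Fin 2) R₁) - 1 =
        MvPolynomial.map ρ ((h : MvPolynomial (Fin 2) R) - 1) from (by rw [map_sub, map_one]; rfl), coeff_map]
    have hG := mem_G_of_isCoc' (p := p) hM hroot₁
      (fun d => by rw [coeff_map]; exact Ideal.mem_map_of_mem _ (hs₁ d))
      (by rw [map_sub, map_one, add_sub_cancel]; exact hc₁.map π)
    obtain ⟨-, f, hf⟩ := hG
    rw [map_sub, map_one, add_sub_cancel] at hf
    have hker : ∀ x : Polynomial R₁, Polynomial.mapRingHom π x = 0 → IsNilpotent x := fun x hx => by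
      rw [Polynomial.isNilpotent_iff]
      intro i
      refine ⟨2 ^ t, ?_⟩
      have h1 : x.coeff i ∈ J₁ ^ 2 := Ideal.Quotient.eq_zero_iff_mem.1 (by
        simpa using congrArg (Polynomial.coeff · i) hx)
      rw [← Ideal.mem_bot, ← hJ₁, pow_succ' 2 t, pow_mul]
      exact Ideal.pow_mem_pow h1 _
    obtain ⟨g, hg⟩ := exists_unit_lift (Polynomial.map_surjective π Ideal.Quotient.mk_surjective) hker f
    have hmap : MvPolynomial.map π (Δ R₁ g : MvPolynomial (Fin 2) R₁) =
        MvPolynomial.map π (h₁ : MvPolynomial (Fin 2) R₁) := by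
      rw [map_Δ]
      exact (congrArg (fun v => (Δ (R₁ ⧸ J₁ ^ 2) v : MvPolynomial (Fin 2) (R₁ ⧸ J₁ ^ 2))) hg).trans hf
    have hc' : IsCoc ((h₁ / Δ R₁ g : (MvPolynomial (Fin 2) R₁)ˣ) : MvPolynomial (Fin 2) R₁) := by
      rw [div_eq_mul_inv, ← map_inv, Units.val_mul]
      exact hc₁.mul (isCoc_Δ _)
    have hs' : Small (J₁ ^ 2) ((((h₁ / Δ R₁ g : (MvPolynomial (Fin 2) R₁)ˣ)) : MvPolynomial (Fin 2) R₁) - 1) := by
      intro d
      refine Ideal.Quotient.eq_zero_iff_mem.1 ?_
      rw [← coeff_map]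
      have h1 : Units.map (MvPolynomial.map π).toMonoidHom (Δ R₁ g) = Units.map (MvPolynomial.map π).toMonoidHom h₁ :=
        Units.ext hmap
      have h2 : Units.map (MvPolynomial.map π).toMonoidHom (h₁ / Δ R₁ g) = 1 := by rw [map_div, h1, div_self']
      have h3 : MvPolynomial.map π ((h₁ / Δ R₁ g : (MvPolynomial (Fin 2) R₁)ˣ) : MvPolynomial (Fin 2) R₁) = 1 :=
        congrArg Units.val h2
      rw [map_sub, h3, map_one, sub_self, MvPolynomial.coeff_zero]
    obtain ⟨R₂, _, _, hR₂, f', hf'⟩ := IH R₁ (J₁ ^ 2) (by rw [← pow_mul, ← pow_succ', hJ₁]) (h₁ / Δ R₁ g) hc' hs'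
    letI : Algebra R R₂ := ((algebraMap R₁ R₂).comp ρ).toAlgebra
    haveI : IsScalarTower R R₁ R₂ := IsScalarTower.of_algebraMap_eq fun _ => rfl
    refine ⟨R₂, inferInstance, inferInstance, IsFfp.trans R R₁ R₂ hR₁ hR₂,
      f' * Units.map (Polynomial.mapRingHom (algebraMap R₁ R₂)).toMonoidHom g, ?_⟩
    rw [map_mul, Units.val_mul, hf', ← map_Δ, ← map_mul, ← Units.val_mul, div_mul_cancel]
    show MvPolynomial.map _ (MvPolynomial.map ρ (h : MvPolynomial (Fin 2) R)) = _
    rw [MvPolynomial.map_map]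
    rfl

/-- Symmetric cocycles in characteristic `p` split after a faithfully flat extension. -/
theorem exists_splitting_ext (p : ℕ) [Fact p.Prime] {R : Type u} [CommRing R] (hp : (p : R) = 0)
    (h : MvPolynomial (Fin 2) R) (hu : IsUnit h)
    (h0 : aeval ![(X 0 : MvPolynomial (Fin 2) R), 0] h = 1)
    (hsymm : swp h = h) (hcoc : p23 h * q1 h = q2 h * p12 h) :
    ∃ (R' : Type u) (_ : CommRing R') (_ : Algebra R R'), IsFfp R R' ∧ ∃ f : Polynomial R', IsUnit f ∧
      Polynomial.aeval (X 0 + X 1 : MvPolynomial (Fin 2) R') f =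
        Polynomial.aeval (X 0 : MvPolynomial (Fin 2) R') f * Polynomial.aeval (X 1 : MvPolynomial (Fin 2) R') f *
          MvPolynomial.map (algebraMap R R') h := by
  classical
  haveI := ringChar.charP R
  letI : Algebra (ZMod p) R := (ZMod.castHom (show ringChar R ∣ p from ringChar.dvd hp) R).toAlgebra
  have hnil : ∀ d, IsNilpotent (coeff d (h - 1)) := fun d => by
    obtain ⟨-, h2⟩ := MvPolynomial.isUnit_iff.1 hu
    rcases eq_or_ne d 0 with rfl | hd
    · have h1 := congrArg constantCoeff h0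
      have h1' : ∀ g : MvPolynomial (Fin 2) R,
          constantCoeff (aeval ![(X 0 : MvPolynomial (Fin 2) R), 0] g) = constantCoeff g := fun g => by
        induction g using MvPolynomial.induction_on with
        | C a => simp
        | add a b ha hb => rw [map_add, map_add, map_add, ha, hb]
        | mul_X a k ha => fin_cases k <;> simp
      rw [h1', constantCoeff_eq] at h1
      simp [coeff_sub, h1]
    · rw [coeff_sub, MvPolynomial.coeff_one, if_neg hd.symm, sub_zero]
      exact h2 d hd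
  let J : Ideal R := Ideal.span ↑((h - 1).support.image fun d => coeff d (h - 1))
  obtain ⟨m, hm⟩ : IsNilpotent J := by
    refine (Ideal.FG.isNilpotent_iff_le_nilradical ⟨_, rfl⟩).2 (Ideal.span_le.2 fun x hx => ?_)
    obtain ⟨d, -, rfl⟩ := Finset.mem_image.1 (Finset.mem_coe.1 hx)
    exact hnil d
  have hJm : J ^ (2 ^ m) = ⊥ := le_bot_iff.1 (le_of_le_of_eq
    (Ideal.pow_le_pow_right (Nat.lt_two_pow_self).le) hm)
  have hs : Small J (h - 1) := fun d => by
    by_cases hd : d ∈ (h - 1).support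
    · exact Ideal.subset_span (Finset.mem_coe.2 (Finset.mem_image_of_mem _ hd))
    · rw [notMem_support_iff.1 hd]; exact zero_mem _
  obtain ⟨R', _, _, hR', f, hf⟩ := exists_Δ_eq_ext (p := p) m R J hJm hu.unit ⟨hsymm, hcoc⟩ hs
  refine ⟨R', inferInstance, inferInstance, hR', (f⁻¹ : (Polynomial R')ˣ), (f⁻¹).isUnit, ?_⟩
  have h1 := Δ_mul_add f
  rw [hf, IsUnit.unit_spec] at h1
  refine (f.isUnit.map (Polynomial.aeval (X 0 + X 1 : MvPolynomial (Fin 2) R'))).mul_left_cancel ?_
  rw [← map_mul, Units.mul_inv, map_one]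
  calc (1 : MvPolynomial (Fin 2) R')
      = Polynomial.aeval (X 0) (↑f * ↑f⁻¹ : Polynomial R') * Polynomial.aeval (X 1) (↑f * ↑f⁻¹ : Polynomial R') := by
        rw [Units.mul_inv, map_one, map_one, mul_one]
    _ = (Polynomial.aeval (X 0) (f : Polynomial R') * Polynomial.aeval (X 1) (f : Polynomial R')) *
          (Polynomial.aeval (X 0) (↑f⁻¹ : Polynomial R') * Polynomial.aeval (X 1) (↑f⁻¹ : Polynomial R')) := by
        rw [map_mul, map_mul]; ring
    _ = _ := by rw [← h1]; ring

end GaDualLib
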