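import Groth.Agent.GmExtLib.Chg
import Groth.Agent.GmExtLib.SplitExt
import Groth.Agent.GmExtLib.Frobenius
import Groth.Agent.GmExtLib.Inject

/-!
# The local lifting of homomorphisms out of the additive group in characteristic `p`
-/

set_option autoImplicit false
set_option maxHeartbeats 1600000
universe u

open CategoryTheory CategoryTheory.Limits AlgebraicGeometry Opposite MonObj MonoidalCategory CartesianMonoidalCategory
open AdeqLib AdeqModLib
open Groth.Agent

noncomputable section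

namespace GmExtLib

variable {S : Scheme.{u}} {A : CommRingCat.{u}} (b : Spec A ⟶ S)

local notation "Jf" => QuotSh.J Scheme.fppfPrecoverage S
local notation "Gas" => CGrpSh2.Ga Scheme.fppfPrecoverage S

/-- The structure map to the base object. -/
abbrev toBase (C : Type u) [CommRing C] [Algebra A C] : ao b C ⟶ top b := amap b (Algebra.ofId A C)

theorem amap_toBase {C C' : Type u} [CommRing C] [Algebra A C] [CommRing C'] [Algebra A C'] (φ : C →ₐ[A] C') :
    amap b φ ≫ toBase b C = toBase b C' := by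
  rw [amap_comp]
  exact congrArg (amap b) (Subsingleton.elim _ _)

open Polynomial in
/-- Points of the line are determined by the base and the coordinate. -/
theorem line_hom_ext {Z : Over S} (E E' : Z ⟶ ao b (Polynomial A)) (h₁ : E ≫ toBase b _ = E' ≫ toBase b _)
    (h₂ : E ≫ gaP b _ X = E' ≫ gaP b _ X) : E = E' := by
  refine ao_hom_ext b _ _ fun x => ?_
  suffices hs : ghom b E = ghom b E' from congrArg (fun φ : Polynomial A →+* _ => φ x) hs
  refine Polynomial.ringHom_ext (fun r => ?_) ?_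
  · show ghom b E (algebraMap A (Polynomial A) r) = ghom b E' (algebraMap A (Polynomial A) r)
    refine (ghom_amap b E (Algebra.ofId A (Polynomial A)) r).symm.trans ?_
    refine Eq.trans ?_ (ghom_amap b E' (Algebra.ofId A (Polynomial A)) r)
    exact congrArg (fun k => ghom b (C := Adeq.algOf A A) k r) h₁
  · have h3 := congrArg Red.gaFn h₂
    rw [GaPts.gaFn_comp, GaPts.gaFn_comp, gaFn_gaP, appTop_eq_ghom b, appTop_eq_ghom b] at h3
    exact h3

open MvPolynomial in
/-- A tuple of points over the base comes from the universal one. -/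
theorem exists_ev' {Z : Over S} (z : Z ⟶ top b) {n : ℕ} (x : Fin n → (Z ⟶ Red.Ga S)) :
    ∃ e : Z ⟶ ao b (MvPolynomial (Fin n) A), e ≫ toBase b _ = z ∧ ∀ k, e ≫ gaP b _ (X k) = x k := by
  letI := zAlg b z
  let φ := (MvPolynomial.aeval (R := (A : Type u)) fun k => Red.gaFn (x k))
  obtain ⟨e, he⟩ := exists_toAo b z (C := MvPolynomial (Fin n) A) φ.toRingHom fun r => φ.commutes r
  refine ⟨e, ao_hom_ext b (e ≫ toBase b _) z fun r => ?_, fun k => GaPts.gaFn_injective ?_⟩
  · refine (ghom_amap b e (Algebra.ofId A (MvPolynomial (Fin n) A)) r).trans ?_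
    exact ((appTop_eq_ghom b e _).symm.trans (he _)).trans (φ.commutes r)
  · show Red.gaFn _ = Red.gaFn _
    rw [GaPts.gaFn_comp, gaFn_gaP, he]
    exact MvPolynomial.aeval_X _ k

/-- A point over the base comes from the coordinate of the line. -/
theorem exists_ev₁' {Z : Over S} (z : Z ⟶ top b) (x : Z ⟶ Red.Ga S) :
    ∃ e : Z ⟶ ao b (Polynomial A), e ≫ toBase b _ = z ∧ e ≫ gaP b _ Polynomial.X = x := by
  obtain ⟨e, h1, h2⟩ := exists_ev' b z (n := 1) fun _ => x
  refine ⟨e ≫ amap b (Polynomial.aeval (MvPolynomial.X 0 : MvPolynomial (Fin 1) A)), ?_, ?_⟩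
  · rw [Category.assoc, amap_toBase, h1]
  · rw [Category.assoc, amap_gaP, Polynomial.aeval_X, h2]

section val

variable {Q : BigSite.Ab Scheme.fppfPrecoverage S} {V : Over S}

/-- The value of a homomorphism on points. -/
def val (ψ : (Gas).over V ⟶ Q.over V) {Z : Over S} (z : Z ⟶ V) (x : Z ⟶ Red.Ga S) : Q.obj.obj (op Z) :=
  ψ.hom.app (op (Over.mk z)) (ptSec x)

theorem map_val (ψ : (Gas).over V ⟶ Q.over V) {Z Z' : Over S} (φ : Z' ⟶ Z) (z : Z ⟶ V) (x : Z ⟶ Red.Ga S) :
    Q.obj.map φ.op (val ψ z x) = val ψ (φ ≫ z) (φ ≫ x) :=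
  (NatTrans.naturality_apply ψ.hom (Over.homMk φ rfl : Over.mk (φ ≫ z) ⟶ Over.mk z).op (ptSec x)).symm

theorem val_mul (ψ : (Gas).over V ⟶ Q.over V) {Z : Over S} (z : Z ⟶ V) (x y : Z ⟶ Red.Ga S) :
    val ψ z (x * y) = val ψ z x + val ψ z y :=
  (congrArg (fun w => ψ.hom.app (op (Over.mk z)) w) (ptSec_mul x y)).trans (map_add _ _ _)

theorem val_one (ψ : (Gas).over V ⟶ Q.over V) {Z : Over S} (z : Z ⟶ V) : val ψ z 1 = 0 :=
  map_zero (ψ.hom.app (op (Over.mk z))).hom

theorem val_pow (ψ : (Gas).over V ⟶ Q.over V) {Z : Over S} (z : Z ⟶ V) (x : Z ⟶ Red.Ga S) (m : ℕ) :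
    val ψ z (x ^ m) = m • val ψ z x := by
  induction m with
  | zero => rw [pow_zero, zero_nsmul, val_one]
  | succ m ih => rw [pow_succ, val_mul, ih, succ_nsmul]

end val

/-- A faithfully flat map of finite presentation of the base gives a cover. -/
theorem mem_chg {A' : CommRingCat.{u}} (π : A ⟶ A') {V : Over S} (k : V ⟶ top b) (e : V.left ⟶ Spec A')
    [IsIso e] (hk : k.left = e ≫ Spec.map π) [Flat (Spec.map π)] [LocallyOfFinitePresentation (Spec.map π)]
    [Surjective (Spec.map π)] :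
    Sieve.ofArrows (fun _ : PUnit.{1} => V) (fun _ => k) ∈ Jf (top b) := by
  refine ofArrows_mem _ ((Scheme.ofArrows_mem_precoverage_iff _).2 ⟨fun x => ?_, fun _ => ?_⟩)
  · obtain ⟨y, hy⟩ := (Spec.map π).surjective x
    obtain ⟨z, hz⟩ := e.surjective y
    refine ⟨PUnit.unit, z, ?_⟩
    rw [hk, ← hy, ← hz]
    rfl
  · change (@Flat ⊓ @LocallyOfFinitePresentation : MorphismProperty Scheme.{u}) k.left
    rw [hk]
    exact ⟨MorphismProperty.comp_mem _ e (Spec.map π) inferInstance inferInstance,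
      MorphismProperty.comp_mem _ e (Spec.map π) inferInstance inferInstance⟩

theorem props_of_ffp {R R' : Type u} [CommRing R] [CommRing R'] [Algebra R R'] (h : GaDualLib.IsFfp R R') :
    Flat (Spec.map (CommRingCat.ofHom (algebraMap R R'))) ∧
      LocallyOfFinitePresentation (Spec.map (CommRingCat.ofHom (algebraMap R R'))) ∧
      Surjective (Spec.map (CommRingCat.ofHom (algebraMap R R'))) := by
  haveI := h.ff
  haveI := h.fp
  exact ⟨(HasRingHomProperty.Spec_iff (P := @Flat)).2 (RingHom.flat_algebraMap_iff.2 inferInstance),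
    (HasRingHomProperty.Spec_iff (P := @LocallyOfFinitePresentation)).2 (RingHom.finitePresentation_algebraMap.2 inferInstance),
    ⟨fun q => PrimeSpectrum.comap_surjective_of_faithfullyFlat (A := R) (B := R') q⟩⟩

theorem map_aeval_poly {R R' : Type u} [CommRing R] [CommRing R'] (φ : R →+* R') (x : MvPolynomial (Fin 2) R)
    (g : Polynomial R) :
    MvPolynomial.map φ (Polynomial.aeval x g) = Polynomial.aeval (MvPolynomial.map φ x) (g.map φ) := by
  induction g using Polynomial.induction_on' with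
  | add a c ha hc => simp [ha, hc]
  | monomial n a => simp

section lift

variable {P Q : BigSite.Ab Scheme.fppfPrecoverage S} {i : G S ⟶ P} {g : P ⟶ Q} {w : i ≫ g = 0}
  (hC : (ShortComplex.mk i g w).ShortExact) (p : ℕ) [Fact p.Prime]

include hC

open Polynomial in
/-- After an extension a homomorphism has a lift at the generic point. -/
theorem exists_lift_stage (hp : (p : A) = 0) (ψ : (Gas).over (top b) ⟶ Q.over (top b)) :
    ∃ (A₁ : CommRingCat.{u}) (π : A ⟶ A₁) (_ : Flat (Spec.map π)) (_ : LocallyOfFinitePresentation (Spec.map π))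
      (_ : Surjective (Spec.map π)) (t : P.obj.obj (op (ao (Spec.map π ≫ b) (Polynomial A₁)))),
      g.hom.app _ t = val ψ (toBase (Spec.map π ≫ b) (Polynomial A₁) ≫ chg b (Spec.map π ≫ b) π rfl π.hom (fun _ => rfl))
        (gaP (Spec.map π ≫ b) (Polynomial A₁) Polynomial.X) := by
  let s₀ := val ψ (toBase b (Polynomial A)) (gaP b (Polynomial A) X)
  have hps : p • s₀ = 0 := by
    rw [← val_pow, gaP_pow, nsmul_eq_mul, ← map_natCast (algebraMap A (Polynomial A)), hp, map_zero, zero_mul, gaP_zero,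
      val_one]
  let b₃ : Spec (CommRingCat.of (Polynomial A)) ⟶ S := Spec.map (CommRingCat.ofHom (Polynomial.C : (A : Type u) →+* _)) ≫ b
  let l : top b₃ ⟶ ao b (Polynomial A) :=
    chg b b₃ (CommRingCat.ofHom (Polynomial.C : (A : Type u) →+* _)) rfl (RingHom.id (Polynomial A)) fun _ => rfl
  obtain ⟨n, f, hspan, d, hd⟩ := exists_lifts b₃ hC (Q.obj.map l.op s₀)
  obtain ⟨a, ha, hai⟩ := exists_cocycle b₃ hC _ d hd
  obtain ⟨q, hq⟩ := exists_pow_coboundary b₃ hC _ d hd hai p (by rw [← map_nsmul, hps, map_zero])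
  obtain ⟨T, hT⟩ := exists_root_set (R := (A : Type u)) p hp f hspan ha q hq
  obtain ⟨R', _, _, hR', hroots⟩ := GaDualLib.exists_roots p (Fact.out : p.Prime).pos T
  obtain ⟨hfl, hfp, hsu⟩ := props_of_ffp hR'
  let A₁ := CommRingCat.of R'
  let π : A ⟶ A₁ := CommRingCat.ofHom (algebraMap A R')
  let b₁ := Spec.map π ≫ b
  let C₁ : A₁ ⟶ CommRingCat.of (Polynomial A₁) := CommRingCat.ofHom (Polynomial.C : (A₁ : Type u) →+* _)
  let b₁₃ : Spec (CommRingCat.of (Polynomial A₁)) ⟶ S := Spec.map C₁ ≫ b₁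
  let πX : CommRingCat.of (Polynomial A) ⟶ CommRingCat.of (Polynomial A₁) := CommRingCat.ofHom (mapRingHom π.hom)
  have hb₃ : Spec.map πX ≫ b₃ = b₁₃ := by
    show Spec.map πX ≫ Spec.map _ ≫ b = Spec.map C₁ ≫ Spec.map π ≫ b
    rw [← Category.assoc, ← Category.assoc, ← Spec.map_comp, ← Spec.map_comp]
    exact congrArg (fun k => Spec.map k ≫ b) (CommRingCat.hom_ext (RingHom.ext fun r => Polynomial.map_C π.hom))
  obtain ⟨t, ht⟩ := exists_lift_chg b₃ b₁₃ πX hb₃ hC hspan (Q.obj.map l.op s₀) d hd hai (hT R' π.hom hroots)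
  let linv : ao b₁ (Polynomial A₁) ⟶ top b₁₃ :=
    Over.homMk (Spec.map (CommRingCat.ofHom (RingHom.id (Polynomial A₁)))) (by
      show Spec.map (CommRingCat.ofHom (RingHom.id (Polynomial A₁))) ≫
        Spec.map (CommRingCat.ofHom (algebraMap (Polynomial A₁) (Polynomial A₁))) ≫ b₁₃ =
        Spec.map (CommRingCat.ofHom (algebraMap A₁ (Polynomial A₁))) ≫ b₁
      rw [Algebra.algebraMap_self, CommRingCat.ofHom_id, Spec.map_id]
      exact (Category.id_comp _).trans (Category.id_comp _))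
  let cX : ao b₁ (Polynomial A₁) ⟶ ao b (Polynomial A) :=
    chg b b₁ π rfl (mapRingHom π.hom) fun r => Polynomial.map_C π.hom
  refine ⟨A₁, π, hfl, hfp, hsu, P.obj.map linv.op t, ?_⟩
  have hcomp : linv ≫ chg b₃ b₁₃ πX hb₃ πX.hom (fun _ => rfl) ≫ l = cX := by
    refine Over.OverMorphism.ext ?_
    rw [Over.comp_left, Over.comp_left]
    show Spec.map (CommRingCat.ofHom (RingHom.id (Polynomial A₁))) ≫ Spec.map (CommRingCat.ofHom πX.hom) ≫
      Spec.map (CommRingCat.ofHom (RingHom.id (Polynomial A))) = Spec.map (CommRingCat.ofHom (mapRingHom π.hom))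
    rw [← Spec.map_comp, ← Spec.map_comp]
    exact congrArg Spec.map (CommRingCat.hom_ext (RingHom.ext fun x => rfl))
  rw [NatTrans.naturality_apply g.hom linv.op t, ht, map_map, map_map, Category.assoc, hcomp, map_val,
    chg_gaP b b₁ π rfl (mapRingHom π.hom) (fun r => Polynomial.map_C π.hom),
    chg_amap b b₁ π rfl (mapRingHom π.hom) (fun r => Polynomial.map_C π.hom) π.hom (fun _ => rfl)
      (Algebra.ofId A (Polynomial A)) (Algebra.ofId A₁ (Polynomial A₁)) (fun r => Polynomial.map_C π.hom),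
    show mapRingHom π.hom X = X from Polynomial.map_X π.hom]

omit [Fact p.Prime] in
open MvPolynomial in
/-- After an extension splitting symmetric cocycles the lift is additive. -/
theorem exists_additive_stage_of_split
    (hsplit : ∀ h : MvPolynomial (Fin 2) A, IsUnit h → aeval ![(X 0 : MvPolynomial (Fin 2) A), 0] h = 1 →
      GaDualLib.swp h = h → GaDualLib.p23 h * GaDualLib.q1 h = GaDualLib.q2 h * GaDualLib.p12 h →
        ∃ (R' : Type u) (_ : CommRing R') (_ : Algebra A R'), GaDualLib.IsFfp A R' ∧ ∃ f : Polynomial R', IsUnit f ∧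
          Polynomial.aeval (X 0 + X 1 : MvPolynomial (Fin 2) R') f =
            Polynomial.aeval (X 0 : MvPolynomial (Fin 2) R') f * Polynomial.aeval (X 1 : MvPolynomial (Fin 2) R') f *
              MvPolynomial.map (algebraMap A R') h)
    {V : Over S} (k : top b ⟶ V) (ψ : (Gas).over V ⟶ Q.over V)
    (t : P.obj.obj (op (ao b (Polynomial A))))
    (ht : g.hom.app _ t = val ψ (toBase b (Polynomial A) ≫ k) (gaP b (Polynomial A) Polynomial.X)) :
    ∃ (A₁ : CommRingCat.{u}) (π : A ⟶ A₁) (_ : Flat (Spec.map π)) (_ : LocallyOfFinitePresentation (Spec.map π))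
      (_ : Surjective (Spec.map π)) (ψ' : (Gas).over (top (Spec.map π ≫ b)) ⟶ P.over (top (Spec.map π ≫ b))),
      ∀ (Z : Over S) (z : Z ⟶ top (Spec.map π ≫ b)) (x : Z ⟶ Red.Ga S),
        g.hom.app _ (val ψ' z x) = val ψ (z ≫ chg b (Spec.map π ≫ b) π rfl π.hom (fun _ => rfl) ≫ k) x := by
  haveI := hC.mono_f
  have hig : ∀ (U : (Over S)ᵒᵖ) (v : (G S).obj.obj U), g.hom.app U (i.hom.app U v) = 0 := fun U v =>
    app_comp_zero (C := ShortComplex.mk i g w) U v
  have hnat : ∀ {T T' : Over S} (φ : T' ⟶ T) (v : (G S).obj.obj (op T)),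
      P.obj.map φ.op (i.hom.app _ v) = i.hom.app _ ((G S).obj.map φ.op v) := fun φ v =>
    (NatTrans.naturality_apply i.hom φ.op v).symm
  have hval : ∀ {C : Type u} [CommRing C] [Algebra A C] (u : C),
      g.hom.app _ (P.obj.map (amap b (Polynomial.aeval u)).op t) = val ψ (toBase b C ≫ k) (gaP b C u) := fun u => by
    rw [NatTrans.naturality_apply g.hom (amap b (Polynomial.aeval u)).op t, ht, map_val, ← Category.assoc, amap_toBase,
      amap_gaP, Polynomial.aeval_X]
  -- normalise at the origin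
  obtain ⟨v₀, hv₀⟩ := exists_preimage_app hC _ (P.obj.map (amap b (Polynomial.aeval (0 : A))).op t) (by
    show g.hom.app _ _ = 0
    rw [hval (C := (A : Type u)) 0, gaP_zero, val_one])
  obtain ⟨u₀, rfl⟩ := (aSec_bijective b A).2 v₀
  change i.hom.app _ _ = _ at hv₀
  let t₁ := t - i.hom.app _ (aSec b (Polynomial A) (Units.map (Algebra.ofId A (Polynomial A)).toRingHom.toMonoidHom u₀))
  let sP : ∀ {C : Type u} [CommRing C] [Algebra A C], C → P.obj.obj (op (ao b C)) :=
    fun {C} _ _ u => P.obj.map (amap b (Polynomial.aeval u)).op t₁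
  have hsP : ∀ {C C' : Type u} [CommRing C] [Algebra A C] [CommRing C'] [Algebra A C'] (φ : C →ₐ[A] C') (u : C),
      P.obj.map (amap b φ).op (sP u) = sP (φ u) := fun φ u => by
    show P.obj.map _ (P.obj.map _ t₁) = P.obj.map _ t₁
    rw [map_map, amap_comp]
    exact congrArg (fun m => P.obj.map (amap b m).op t₁) (Polynomial.algHom_ext (by simp))
  have hgsP : ∀ {C : Type u} [CommRing C] [Algebra A C] (u : C),
      g.hom.app _ (sP u) = val ψ (toBase b C ≫ k) (gaP b C u) := fun u => by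
    show g.hom.app _ (P.obj.map _ (t - _)) = _
    rw [map_sub, hnat, map_sub, hig, sub_zero, hval]
  have hzero : ∀ {C : Type u} [CommRing C] [Algebra A C], sP (0 : C) = 0 := fun {C} _ _ => by
    have h : sP (0 : A) = 0 := by
      show P.obj.map _ (t - _) = 0
      rw [map_sub, hnat, ← hv₀, map_aSec, sub_eq_zero]
      refine congrArg (fun v => i.hom.app _ (aSec b A v)) (Units.ext ?_)
      exact ((Polynomial.aeval (0 : A)).commutes (u₀ : A)).symm.trans rfl
    rw [← map_zero (Algebra.ofId A C), ← hsP, h, map_zero]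
  -- the cocycle
  obtain ⟨y, hy⟩ := exists_preimage_app hC _ (sP (X 0 + X 1 : MvPolynomial (Fin 2) A) - sP (X 0) - sP (X 1)) (by
    show g.hom.app _ _ = 0
    rw [map_sub, map_sub, hgsP, hgsP, hgsP, ← gaP_add, val_mul]
    abel)
  obtain ⟨h, rfl⟩ := (aSec_bijective b _).2 y
  change i.hom.app _ _ = _ at hy
  have key : ∀ {C : Type u} [CommRing C] [Algebra A C] (u v : C),
      i.hom.app _ (aSec b C (Units.map (aeval ![u, v]).toRingHom.toMonoidHom h)) = sP (u + v) - sP u - sP v :=
    fun u v => by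
      rw [← map_aSec, NatTrans.naturality_apply i.hom (amap b (aeval ![u, v])).op, hy, map_sub, map_sub, hsP, hsP, hsP,
        map_add, aeval_X, aeval_X]
      rfl
  have hinj : ∀ {C : Type u} [CommRing C] [Algebra A C] (v v' : Cˣ),
      i.hom.app _ (aSec b C v) = i.hom.app _ (aSec b C v') → v = v' := fun v v' e =>
    (aSec_bijective b _).1 (injective_app i _ e)
  have hone : ∀ {C : Type u} [CommRing C] [Algebra A C], i.hom.app _ (aSec b C (1 : Cˣ)) = 0 := fun {C} _ _ => by
    have h1 := aSec_mul b C 1 1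
    rw [_root_.mul_one] at h1
    rw [add_left_cancel (h1.symm.trans (add_zero _).symm), map_zero]
  have h0 : aeval ![(X 0 : MvPolynomial (Fin 2) A), 0] (h : MvPolynomial (Fin 2) A) = 1 := by
    have := hinj (Units.map (aeval ![(X 0 : MvPolynomial (Fin 2) A), 0]).toRingHom.toMonoidHom h) 1 (by
      rw [key, hone, add_zero, hzero]; abel)
    exact congrArg Units.val this
  have hsymm : GaDualLib.swp (h : MvPolynomial (Fin 2) A) = h := by
    have := hinj (Units.map (aeval ![(X 1 : MvPolynomial (Fin 2) A), X 0]).toRingHom.toMonoidHom h) h (by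
      rw [key, hy, add_comm (X 1)]; abel)
    exact congrArg Units.val this
  have hcoc : GaDualLib.p23 (h : MvPolynomial (Fin 2) A) * GaDualLib.q1 h = GaDualLib.q2 h * GaDualLib.p12 h := by
    have := hinj
      (Units.map (aeval ![(X 1 : MvPolynomial (Fin 3) A), X 2]).toRingHom.toMonoidHom h *
        Units.map (aeval ![(X 0 : MvPolynomial (Fin 3) A), X 1 + X 2]).toRingHom.toMonoidHom h)
      (Units.map (aeval ![(X 0 + X 1 : MvPolynomial (Fin 3) A), X 2]).toRingHom.toMonoidHom h *
        Units.map (aeval ![(X 0 : MvPolynomial (Fin 3) A), X 1]).toRingHom.toMonoidHom h) (by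
      rw [aSec_mul, aSec_mul, map_add, map_add, key, key, key, key, add_assoc (X 0 : MvPolynomial (Fin 3) A)]
      abel)
    exact congrArg Units.val this
  obtain ⟨R', _, _, hR', f, hf, hfh⟩ := hsplit (h : MvPolynomial (Fin 2) A) h.isUnit h0 hsymm hcoc
  obtain ⟨hfl, hfp, hsu⟩ := props_of_ffp hR'
  let A₁ := CommRingCat.of R'
  let π : A ⟶ A₁ := CommRingCat.ofHom (algebraMap A R')
  let b₁ := Spec.map π ≫ b
  let kπ : top b₁ ⟶ top b := chg b b₁ π rfl π.hom fun _ => rfl
  let cX : ao b₁ (Polynomial A₁) ⟶ ao b (Polynomial A) :=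
    chg b b₁ π rfl (Polynomial.mapRingHom π.hom) fun r => Polynomial.map_C π.hom
  let c2 : ao b₁ (MvPolynomial (Fin 2) A₁) ⟶ ao b (MvPolynomial (Fin 2) A) :=
    chg b b₁ π rfl (MvPolynomial.map π.hom) fun r => MvPolynomial.map_C π.hom r
  let t₂ := P.obj.map cX.op t₁ - i.hom.app _ (aSec b₁ (Polynomial A₁) hf.unit)
  have hcomp : ∀ u : MvPolynomial (Fin 2) A,
      P.obj.map (amap b₁ (Polynomial.aeval (MvPolynomial.map π.hom u))).op (P.obj.map cX.op t₁) =
        P.obj.map c2.op (sP u) := fun u => by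
    show _ = P.obj.map c2.op (P.obj.map _ t₁)
    rw [map_map, map_map]
    exact congrArg (fun m => P.obj.map m.op t₁)
      (chg_amap b b₁ π rfl (MvPolynomial.map π.hom) (fun r => MvPolynomial.map_C π.hom r) (Polynomial.mapRingHom π.hom)
        (fun r => Polynomial.map_C π.hom) (Polynomial.aeval u) (Polynomial.aeval (MvPolynomial.map π.hom u))
        fun x => map_aeval_poly π.hom u x).symm
  have hadd : P.obj.map (amap b₁ (Polynomial.aeval (X 0 + X 1 : MvPolynomial (Fin 2) A₁))).op t₂ =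
      P.obj.map (amap b₁ (Polynomial.aeval (X 0 : MvPolynomial (Fin 2) A₁))).op t₂ +
        P.obj.map (amap b₁ (Polynomial.aeval (X 1 : MvPolynomial (Fin 2) A₁))).op t₂ := by
    have e0 := hcomp (X 0)
    have e1 := hcomp (X 1)
    have e01 := hcomp (X 0 + X 1)
    rw [MvPolynomial.map_X] at e0 e1
    rw [map_add, MvPolynomial.map_X, MvPolynomial.map_X] at e01
    have eh : i.hom.app _ (aSec b₁ _ (Units.map (MvPolynomial.map π.hom).toMonoidHom h)) =
        P.obj.map c2.op (sP (X 0 + X 1)) - P.obj.map c2.op (sP (X 0)) - P.obj.map c2.op (sP (X 1)) := by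
      rw [← map_aSec_chg b b₁ π rfl (MvPolynomial.map π.hom) (fun r => MvPolynomial.map_C π.hom r), ← map_sub,
        ← map_sub, NatTrans.naturality_apply i.hom c2.op, hy]
    have hfu : Units.map (Polynomial.aeval (X 0 + X 1 : MvPolynomial (Fin 2) A₁)).toRingHom.toMonoidHom hf.unit =
        Units.map (Polynomial.aeval (X 0 : MvPolynomial (Fin 2) A₁)).toRingHom.toMonoidHom hf.unit *
          Units.map (Polynomial.aeval (X 1 : MvPolynomial (Fin 2) A₁)).toRingHom.toMonoidHom hf.unit *
            Units.map (MvPolynomial.map π.hom).toMonoidHom h := Units.ext hfh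
    simp only [t₂, map_sub, hnat, map_aSec, e0, e1, e01, hfu, aSec_mul, map_add, eh]
    abel
  have hg2 : g.hom.app _ t₂ = val ψ (toBase b₁ (Polynomial A₁) ≫ kπ ≫ k) (gaP b₁ (Polynomial A₁) Polynomial.X) := by
    rw [map_sub, hig, sub_zero, NatTrans.naturality_apply g.hom cX.op t₁,
      show g.hom.app _ t₁ = val ψ (toBase b (Polynomial A) ≫ k) (gaP b _ Polynomial.X) from by
        rw [map_sub, hig, sub_zero, ht], map_val, ← Category.assoc, chg_gaP,
      chg_amap b b₁ π rfl (Polynomial.mapRingHom π.hom) (fun r => Polynomial.map_C π.hom) π.hom (fun _ => rfl)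
        (Algebra.ofId A (Polynomial A)) (Algebra.ofId A₁ (Polynomial A₁)) (fun r => Polynomial.map_C π.hom),
      Category.assoc, show Polynomial.mapRingHom π.hom Polynomial.X = Polynomial.X from Polynomial.map_X π.hom]
  choose E hE1 hE2 using fun (Z : Over S) (zx : (Z ⟶ top b₁) × (Z ⟶ Red.Ga S)) => exists_ev₁' b₁ zx.1 zx.2
  have hEmul : ∀ (Z : Over S) (z : Z ⟶ top b₁) (x y : Z ⟶ Red.Ga S),
      P.obj.map (E Z (z, x * y)).op t₂ = P.obj.map (E Z (z, x)).op t₂ + P.obj.map (E Z (z, y)).op t₂ := by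
    intro Z z x y
    obtain ⟨e, he0, he⟩ := exists_ev' b₁ z ![x, y]
    have hx : e ≫ gaP b₁ _ (X 0) = x := he 0
    have hy' : e ≫ gaP b₁ _ (X 1) = y := he 1
    have hE : ∀ (u : MvPolynomial (Fin 2) A₁) (x' : Z ⟶ Red.Ga S), e ≫ gaP b₁ _ u = x' →
        E Z (z, x') = e ≫ amap b₁ (Polynomial.aeval u) := fun u x' hu =>
      line_hom_ext b₁ _ _ (by rw [hE1, Category.assoc, amap_toBase, he0])
        (by rw [hE2, Category.assoc, amap_gaP, Polynomial.aeval_X, hu])
    rw [hE (X 0 + X 1) (x * y) (by rw [← gaP_add, MonObj.comp_mul, hx, hy']), hE _ _ hx, hE _ _ hy',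
      ← map_map, ← map_map, ← map_map, hadd, map_add]
  refine ⟨A₁, π, hfl, hfp, hsu, ⟨{
    app := fun U => AddCommGrpCat.ofHom (AddMonoidHom.mk'
      (fun x : (Gas).obj.obj (op U.unop.left) => P.obj.map (E U.unop.left (U.unop.hom, x.down.toMul)).op t₂)
      fun x y => hEmul U.unop.left U.unop.hom x.down.toMul y.down.toMul)
    naturality := fun U U' φ => AddCommGrpCat.ext fun x => ?_ }⟩, fun Z z x => ?_⟩
  · show P.obj.map (E U'.unop.left (U'.unop.hom, φ.unop.left ≫ x.down.toMul)).op t₂ =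
      P.obj.map φ.unop.left.op (P.obj.map (E U.unop.left (U.unop.hom, x.down.toMul)).op t₂)
    rw [map_map]
    refine congrArg (fun m => P.obj.map m.op t₂)
      (line_hom_ext b₁ (E U'.unop.left (U'.unop.hom, φ.unop.left ≫ x.down.toMul))
        (φ.unop.left ≫ E U.unop.left (U.unop.hom, x.down.toMul)) ?_ ?_)
    · rw [hE1, Category.assoc, hE1]; exact (Over.w φ.unop).symm
    · rw [hE2, Category.assoc, hE2]
  · show g.hom.app _ (P.obj.map (E Z (z, x)).op t₂) = _
    rw [NatTrans.naturality_apply g.hom (E Z (z, x)).op t₂, hg2, map_val, reassoc_of% (hE1 Z (z, x)), hE2]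

open MvPolynomial in
/-- After a further extension the lift is additive. -/
theorem exists_additive_stage (hp : (p : A) = 0) {V : Over S} (k : top b ⟶ V) (ψ : (Gas).over V ⟶ Q.over V)
    (t : P.obj.obj (op (ao b (Polynomial A))))
    (ht : g.hom.app _ t = val ψ (toBase b (Polynomial A) ≫ k) (gaP b (Polynomial A) Polynomial.X)) :
    ∃ (A₁ : CommRingCat.{u}) (π : A ⟶ A₁) (_ : Flat (Spec.map π)) (_ : LocallyOfFinitePresentation (Spec.map π))
      (_ : Surjective (Spec.map π)) (ψ' : (Gas).over (top (Spec.map π ≫ b)) ⟶ P.over (top (Spec.map π ≫ b))),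
      ∀ (Z : Over S) (z : Z ⟶ top (Spec.map π ≫ b)) (x : Z ⟶ Red.Ga S),
        g.hom.app _ (val ψ' z x) = val ψ (z ≫ chg b (Spec.map π ≫ b) π rfl π.hom (fun _ => rfl) ≫ k) x :=
  exists_additive_stage_of_split b hC
    (fun h hu h0 hsymm hcoc => GaDualLib.exists_splitting_ext p (R := (A : Type u)) hp h hu h0 hsymm hcoc) k ψ t ht

end lift

end GmExtLib
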