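import Groth.Agent.GmExtLib.Poly
import Mathlib.Algebra.MvPolynomial.Nilpotent

/-!
# Symmetric cocycles on the additive group over a reduced scheme
-/

set_option autoImplicit false
set_option maxHeartbeats 1600000
universe u

open CategoryTheory CategoryTheory.Limits AlgebraicGeometry Opposite MonObj MonoidalCategory CartesianMonoidalCategory
open AdeqLib AdeqModLib
open Groth.Agent

noncomputable section

namespace GmExtLib

variable {X : Scheme.{u}} [IsReduced X]

/-- Over a reduced scheme a normalised symmetric cocycle on the additive group is trivial. -/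
theorem cocycle_eq_one {c : Red.Ga X ⊗ Red.Ga X ⟶ Red.Gm X} (hc : IsSymCoc c) : c = 1 := by
  let GG := Red.Ga X ⊗ Red.Ga X
  refine Over.OverMorphism.ext (Scheme.hom_ext_of_forall _ _ fun y => ?_)
  obtain ⟨_, ⟨V, hV, rfl⟩, hyV, -⟩ := X.isBasis_affineOpens.exists_subset_of_mem_open
    (Set.mem_univ (GG.hom y)) isOpen_univ
  refine ⟨GG.hom ⁻¹ᵁ V, hyV, ?_⟩
  let b := hV.fromSpec
  let Z : Over X := Over.mk ((GG.hom ⁻¹ᵁ V).ι ≫ GG.hom)
  let j : Z ⟶ GG := Over.homMk (GG.hom ⁻¹ᵁ V).ι rfl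
  suffices h : j ≫ c = j ≫ 1 from congrArg CommaMorphism.left h
  let zl : Z.left ⟶ Spec Γ(X, V) := IsOpenImmersion.lift b Z.hom (by
    rw [hV.range_fromSpec]
    rintro _ ⟨w, rfl⟩
    exact w.2)
  let z : Z ⟶ top b := Over.homMk zl (by
    show zl ≫ Spec.map (CommRingCat.ofHom (algebraMap Γ(X, V) Γ(X, V))) ≫ b = Z.hom
    rw [Algebra.algebraMap_self, CommRingCat.ofHom_id, Spec.map_id]
    exact (congrArg (zl ≫ ·) (Category.id_comp b)).trans (IsOpenImmersion.lift_fac b Z.hom _))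
  obtain ⟨e, he⟩ := exists_ev b z ![j ≫ fst _ _, j ≫ snd _ _]
  have h0 : e ≫ gaP b _ (MvPolynomial.X 0) = j ≫ fst _ _ := he 0
  have h1 : e ≫ gaP b _ (MvPolynomial.X 1) = j ≫ snd _ _ := he 1
  obtain ⟨h, hh, hn, -, -⟩ := exists_cocPoly b hc
  haveI : _root_.IsReduced Γ(X, V) := IsReduced.component_reduced V
  have hh1 : h = 1 := by
    obtain ⟨r, -, hr⟩ := MvPolynomial.isUnit_iff_eq_C_of_isReduced.1 h.isUnit
    rw [hr, MvPolynomial.aeval_C, MvPolynomial.algebraMap_eq] at hn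
    exact Units.ext (hr.trans hn)
  rw [hh1, gmP_one] at hh
  have hk := congrArg (e ≫ ·) hh
  simp only [← Category.assoc, comp_lift, h0, h1, MonObj.comp_one] at hk
  rw [MonObj.comp_one, ← hk, ← comp_lift, lift_fst_snd, Category.comp_id]

/-- Over a reduced scheme symmetric cocycles on the additive group split. -/
theorem exists_split_reduced {c : Red.Ga X ⊗ Red.Ga X ⟶ Red.Gm X} (hc : IsSymCoc c) :
    ∃ χ : Red.Ga X ⟶ Red.Gm X, ∀ (T : Over X) (x y : T ⟶ Red.Ga X),
      (x * y) ≫ χ = (x ≫ χ) * (y ≫ χ) * (lift x y ≫ c) :=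
  ⟨1, fun T x y => by simp only [cocycle_eq_one hc, MonObj.comp_one, _root_.mul_one]⟩

end GmExtLib
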