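import Groth.Agent.BigCohLib.Vanish
import Groth.Agent.AdeqModLib.Unit
import Groth.Prelude.Def_GmPts
import Groth.Prelude.Def_CGrpSh2

/-!
# Sections of the multiplicative group on the big fppf site
-/

set_option autoImplicit false
set_option maxHeartbeats 1600000
universe u

open CategoryTheory CategoryTheory.Limits AlgebraicGeometry Opposite MonObj
open AdeqLib AdeqModLib

noncomputable section

namespace GmExtLib

variable {S : Scheme.{u}}

/-- The sheaf of the multiplicative group. -/
abbrev G (S : Scheme.{u}) : BigSite.Ab Scheme.fppfPrecoverage S := CGrpSh.pts Scheme.fppfPrecoverage (Red.Gm S)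

/-- The section of the multiplicative group attached to a unit. -/
def gSec (T : Over S) (v : (Γ(T.left, ⊤))ˣ) : (G S).obj.obj (op T) :=
  ULift.up (Additive.ofMul (GmPts.ptOfUnit v))

theorem gSec_mul (T : Over S) (v w : (Γ(T.left, ⊤))ˣ) : gSec T (v * w) = gSec T v + gSec T w := by
  refine ULift.ext _ _ ?_
  show Additive.ofMul (GmPts.ptOfUnit (v * w)) = Additive.ofMul (GmPts.ptOfUnit v * GmPts.ptOfUnit w)
  refine congrArg Additive.ofMul (GmPts.gmFn_injective ?_)
  show Red.gmFn _ = Red.gmFn _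
  rw [GmPts.gmFn_mul, GmPts.gmFn_ptOfUnit, GmPts.gmFn_ptOfUnit, GmPts.gmFn_ptOfUnit, Units.val_mul]

theorem gSec_bijective (T : Over S) : Function.Bijective (gSec (S := S) T) := by
  refine ⟨fun v w h => ?_, fun x => ⟨GmPts.unitOfPt x.down.toMul, ?_⟩⟩
  · have h' := congrArg (fun z : (G S).obj.obj (op T) => Red.gmFn z.down.toMul) h
    exact Units.ext ((GmPts.gmFn_ptOfUnit v).symm.trans (h'.trans (GmPts.gmFn_ptOfUnit w)))
  · refine ULift.ext _ _ (congrArg Additive.ofMul (GmPts.gmFn_injective ?_))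
    exact GmPts.gmFn_ptOfUnit _

theorem map_gSec {T T' : Over S} (φ : T' ⟶ T) (v : (Γ(T.left, ⊤))ˣ) :
    (G S).obj.map φ.op (gSec T v) = gSec T' (Units.map φ.left.appTop.hom.toMonoidHom v) := by
  refine ULift.ext _ _ (congrArg Additive.ofMul (GmPts.gmFn_injective ?_))
  show Red.gmFn (φ ≫ GmPts.ptOfUnit v) = Red.gmFn (GmPts.ptOfUnit _)
  rw [GmPts.gmFn_comp, GmPts.gmFn_ptOfUnit, GmPts.gmFn_ptOfUnit]
  rfl

variable {A : CommRingCat.{u}} (b : Spec A ⟶ S)

/-- The affine object of an algebra. -/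
abbrev ao (C : Type u) [CommRing C] [Algebra A C] : Over S := so b (Adeq.algOf A C)

/-- The map of affine objects. -/
abbrev amap {C C' : Type u} [CommRing C] [Algebra A C] [CommRing C'] [Algebra A C'] (φ : C →ₐ[A] C') :
    ao b C' ⟶ ao b C := sm b (am (A : Type u) φ)

theorem amap_comp {C C' C'' : Type u} [CommRing C] [Algebra A C] [CommRing C'] [Algebra A C'] [CommRing C'']
    [Algebra A C''] (φ : C →ₐ[A] C') (ψ : C' →ₐ[A] C'') : amap b ψ ≫ amap b φ = amap b (ψ.comp φ) := by
  rw [← Functor.map_comp]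
  rfl

/-- The section attached to a unit of an algebra. -/
def aSec (C : Type u) [CommRing C] [Algebra A C] (v : Cˣ) : (G S).obj.obj (op (ao b C)) :=
  gSec (ao b C) (Units.map (Scheme.ΓSpecIso (CommRingCat.of C)).inv.hom.toMonoidHom v)

theorem aSec_mul (C : Type u) [CommRing C] [Algebra A C] (v w : Cˣ) :
    aSec b C (v * w) = aSec b C v + aSec b C w := by
  unfold aSec
  exact (congrArg (gSec (ao b C)) (map_mul _ v w)).trans (gSec_mul (ao b C) _ _)

theorem aSec_bijective (C : Type u) [CommRing C] [Algebra A C] : Function.Bijective (aSec b C) := by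
  refine (gSec_bijective _).comp ?_
  exact (Units.mapEquiv ((Scheme.ΓSpecIso (CommRingCat.of C)).symm.commRingCatIsoToRingEquiv.toMulEquiv)).bijective

theorem map_aSec {C C' : Type u} [CommRing C] [Algebra A C] [CommRing C'] [Algebra A C'] (φ : C →ₐ[A] C') (v : Cˣ) :
    (G S).obj.map (amap b φ).op (aSec b C v) = aSec b C' (Units.map φ.toRingHom.toMonoidHom v) := by
  refine (map_gSec _ _).trans (congrArg (gSec _) (Units.ext ?_))
  exact (congr($(Scheme.ΓSpecIso_inv_naturality (CommRingCat.ofHom φ.toRingHom)) (v : C))).symm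

theorem map_map {P : BigSite.Ab Scheme.fppfPrecoverage S} {U V W : Over S} (φ : U ⟶ V) (ψ : V ⟶ W)
    (s : P.obj.obj (op W)) : P.obj.map φ.op (P.obj.map ψ.op s) = P.obj.map (φ ≫ ψ).op s := by
  rw [op_comp, Functor.map_comp, ConcreteCategory.comp_apply]

theorem injective_app {P Q : BigSite.Ab Scheme.fppfPrecoverage S} (f : P ⟶ Q) [Mono f] (U : (Over S)ᵒᵖ) :
    Function.Injective (f.hom.app U) := by
  have : Mono f.hom := (sheafToPresheaf _ _).map_mono f
  exact (AddCommGrpCat.mono_iff_injective _).1 inferInstance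

theorem exists_preimage_app {C : ShortComplex (BigSite.Ab Scheme.fppfPrecoverage S)} (hC : C.ShortExact)
    (U : (Over S)ᵒᵖ) (x : C.X₂.obj.obj U) (hx : C.g.hom.app U x = 0) : ∃ y, C.f.hom.app U y = x := by
  haveI := hC.mono_f
  have he := ((hC.exact.map_of_mono_of_preservesKernel (sheafToPresheaf _ _) hC.mono_f
    inferInstance).map_of_mono_of_preservesKernel ((evaluation (Over S)ᵒᵖ AddCommGrpCat.{u + 1}).obj U)
      ((sheafToPresheaf _ _).map_mono C.f) inferInstance)
  exact (ShortComplex.ab_exact_iff _).mp he x hx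

theorem app_comp_zero {C : ShortComplex (BigSite.Ab Scheme.fppfPrecoverage S)} (U : (Over S)ᵒᵖ) (x : C.X₁.obj.obj U) :
    C.g.hom.app U (C.f.hom.app U x) = 0 := by
  show (C.f ≫ C.g).hom.app U x = 0
  rw [C.zero]
  rfl

/-- A single faithfully flat map of finite presentation covers. -/
theorem mem_single {C D : Type u} [CommRing C] [Algebra A C] [CommRing D] [Algebra A D] (π : C →ₐ[A] D)
    (hflat : Flat (Spec.map (CommRingCat.ofHom π.toRingHom)))
    (hfp : LocallyOfFinitePresentation (Spec.map (CommRingCat.ofHom π.toRingHom)))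
    (hsurj : Function.Surjective (PrimeSpectrum.comap π.toRingHom)) :
    Sieve.ofArrows (fun _ : PUnit.{1} => ao b D) (fun _ => amap b π) ∈
      QuotSh.J Scheme.fppfPrecoverage S (ao b C) := by
  refine ofArrows_mem _ ((Scheme.ofArrows_mem_precoverage_iff _).2 ⟨fun x => ?_, fun _ => ?_⟩)
  · obtain ⟨y, hy⟩ := hsurj x
    exact ⟨PUnit.unit, y, hy⟩
  · change (@Flat ⊓ @LocallyOfFinitePresentation : MorphismProperty Scheme.{u}) (amap b π).left
    exact ⟨hflat, hfp⟩

/-- Two points agreeing on the base give a point of the tensor product. -/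
theorem exists_pair {C D : Type u} [CommRing C] [Algebra A C] [CommRing D] [Algebra A D] {Z : Over S}
    (p : Z ⟶ ao b C) (q : Z ⟶ ao b D)
    (h : p ≫ amap b (Algebra.ofId A C) = q ≫ amap b (Algebra.ofId A D)) :
    ∃ z : Z ⟶ ao b (TensorProduct A C D),
      z ≫ amap b (Algebra.TensorProduct.includeLeft : C →ₐ[A] TensorProduct A C D) = p ∧
      z ≫ amap b (Algebra.TensorProduct.includeRight : D →ₐ[A] TensorProduct A C D) = q := by
  let e : (A : Type u) →+* Γ(Z.left, ⊤) := ghom b (p ≫ amap b (Algebra.ofId A C))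
  letI : Algebra A Γ(Z.left, ⊤) := e.toAlgebra
  let f₁ : C →ₐ[A] Γ(Z.left, ⊤) :=
    { ghom b p with commutes' := fun r => (ghom_comp b p (am (A : Type u) (Algebra.ofId A C)) r).symm }
  let f₂ : D →ₐ[A] Γ(Z.left, ⊤) :=
    { ghom b q with commutes' := fun r =>
        ((ghom_comp b q (am (A : Type u) (Algebra.ofId A D)) r).symm.trans
          (congrArg (fun k => ghom b (C := Adeq.algOf A A) k r) h.symm)) }
  let χ := Algebra.TensorProduct.productMap f₁ f₂
  let w₀ : Z.left ⟶ (ao b (TensorProduct A C D)).left :=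
    Z.left.toSpecΓ ≫ Spec.map (CommRingCat.ofHom χ.toRingHom)
  have hw₁ : w₀ ≫ (amap b (Algebra.TensorProduct.includeLeft : C →ₐ[A] TensorProduct A C D)).left = p.left := by
    refine (Category.assoc _ _ _).trans ?_
    refine (congrArg (Z.left.toSpecΓ ≫ ·) (Spec.map_comp _ _).symm).trans ?_
    rw [eq_ghom b p]
    congr 2
    ext x
    exact AlgHom.congr_fun (Algebra.TensorProduct.productMap_left f₁ f₂) x
  have hw₂ : w₀ ≫ (amap b (Algebra.TensorProduct.includeRight : D →ₐ[A] TensorProduct A C D)).left = q.left := by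
    refine (Category.assoc _ _ _).trans ?_
    refine (congrArg (Z.left.toSpecΓ ≫ ·) (Spec.map_comp _ _).symm).trans ?_
    rw [eq_ghom b q]
    congr 2
    ext x
    exact AlgHom.congr_fun (Algebra.TensorProduct.productMap_right f₁ f₂) x
  refine ⟨Over.homMk w₀ ?_, Over.OverMorphism.ext hw₁, Over.OverMorphism.ext hw₂⟩
  rw [← Over.w (amap b (Algebra.TensorProduct.includeLeft : C →ₐ[A] TensorProduct A C D)), ← Category.assoc, hw₁,
    Over.w p]

end GmExtLib
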