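import Groth.Agent.GmExtLib.Inject
import Groth.Agent.GmExtLib.Line
import Groth.Agent.PicUFDLib.Main

/-!
# Extensions of iterated extensions of the additive group
-/

set_option autoImplicit false
set_option maxHeartbeats 1600000
universe u

open CategoryTheory CategoryTheory.Limits CategoryTheory.Abelian AlgebraicGeometry Opposite MonObj

noncomputable section

namespace GmExtLib

variable {S : Scheme.{u}}

/-- Extensions of an iterated extension of the additive group vanish with those of the additive group. -/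
theorem subsingleton_ext_tower (hGa : Subsingleton (CGrpSh.ExtS Scheme.fppfPrecoverage (Red.Ga S) (Red.Gm S) 1))
    (n : ℕ) (U : Fin (n + 1) → Over S) [∀ j, GrpObj (U j)] [∀ j, IsCommMonObj (U j)]
    (incl : ∀ j : Fin n, U j.castSucc ⟶ U j.succ) (proj : ∀ j : Fin n, U j.succ ⟶ Red.Ga S)
    [∀ j, IsMonHom (incl j)] [∀ j, IsMonHom (proj j)] (w : ∀ j, incl j ≫ proj j = 1)
    (hex : ∀ j, (CGrpSh.seq Scheme.fppfPrecoverage (incl j) (proj j) (w j)).ShortExact)
    (h0 : IsZero (CGrpSh.pts Scheme.fppfPrecoverage (U 0))) (j : Fin (n + 1)) :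
    Subsingleton (Ext.{u + 1} (CGrpSh.pts Scheme.fppfPrecoverage (U j)) (CGrpSh2.Gm Scheme.fppfPrecoverage S) 1) := by
  induction j using Fin.induction with
  | zero =>
    refine subsingleton_of_forall_eq 0 fun x => ?_
    rw [← x.mk₀_id_comp, h0.eq_of_src (𝟙 _) 0, Ext.mk₀_zero, Ext.zero_comp]
  | succ j ih =>
    refine subsingleton_of_forall_eq 0 fun x => ?_
    obtain ⟨y, rfl⟩ := Ext.contravariant_sequence_exact₂ (hex j) _ x (ih.elim _ _)
    rw [show y = 0 from hGa.elim _ _, Ext.comp_zero]
    rfl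

/-- Invertible modules on the affine line over a field are trivial. -/
theorem pic_line_field (k : Type u) [Field k] :
    ∀ M : (Red.Ga (Spec (CommRingCat.of k))).left.Modules, PicF.IsInvertible M →
      Nonempty (M ≅ Coh.structureModule (Red.Ga (Spec (CommRingCat.of k))).left) := by
  intro M hM
  obtain ⟨e, -⟩ := exists_lineIso (CommRingCat.of k)
  let e' : Spec (CommRingCat.of (Polynomial k)) ≅ (Red.Ga (Spec (CommRingCat.of k))).left :=
    (Over.forget _).mapIso e
  haveI : IsAffine (Red.Ga (Spec (CommRingCat.of k))).left := IsAffine.of_isIso e'.inv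
  haveI : IsIso e'.inv.appTop := inferInstanceAs (IsIso (Scheme.Γ.map e'.inv.op))
  haveI : Nonempty (Red.Ga (Spec (CommRingCat.of k))).left := ⟨e'.hom (Classical.arbitrary (PrimeSpectrum (Polynomial k)))⟩
  haveI : AlgebraicGeometry.IsIntegral (Red.Ga (Spec (CommRingCat.of k))).left := isIntegral_of_isOpenImmersion e'.inv
  haveI : UniqueFactorizationMonoid Γ((Red.Ga (Spec (CommRingCat.of k))).left, ⊤) :=
    MulEquiv.uniqueFactorizationMonoid
      ((Scheme.ΓSpecIso (CommRingCat.of (Polynomial k))).symm ≪≫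
        asIso e'.inv.appTop).commRingCatIsoToRingEquiv.toMulEquiv inferInstance
  obtain ⟨σ, hσ⟩ := PicUFDLib.exists_genOn_of_ufd ⊤ M fun x _ => by
    obtain ⟨O, g, hxO, hg⟩ := TwistLib.exists_genOn hM x
    exact ⟨O, hxO, le_top, g, hg⟩
  haveI := AmpleLib.isIso_unitHom σ hσ
  exact ⟨(asIso (QCohLib.unitHom M σ)).symm⟩

end GmExtLib
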